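import Mathlib

/-!
# KZ: signed permutation matrices (helper30)

`spm π s`, the reflections as signed permutation matrices, and generation lemmas for the types `A`, `B`, `C`, `D`.
-/

set_option autoImplicit false
set_option maxHeartbeats 200000

namespace Cfsg.Agent.KZ.Dat

open Matrix Equiv

variable {ι : Type*} [DecidableEq ι]

/-- the signed permutation matrix `e_j ↦ s j • e_(π j)` -/
def spm (π : Perm ι) (s : ι → ℤˣ) : Matrix ι ι ℤ := of fun i j => if i = π j then (s j : ℤ) else 0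

theorem spm_apply (π : Perm ι) (s : ι → ℤˣ) (i j : ι) : spm π s i j = if i = π j then (s j : ℤ) else 0 := rfl

theorem spm_one : spm (1 : Perm ι) 1 = 1 := by
  ext i j
  rw [spm_apply, Matrix.one_apply]
  rfl

theorem spm_inj {π π' : Perm ι} {s s' : ι → ℤˣ} : spm π s = spm π' s' ↔ π = π' ∧ s = s' := by
  refine ⟨fun h => ?_, fun h => by rw [h.1, h.2]⟩
  have h1 : ∀ j, π j = π' j ∧ s j = s' j := fun j => by
    have h2 := congrFun (congrFun h (π j)) j
    rw [spm_apply, spm_apply, if_pos rfl] at h2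
    split_ifs at h2 with h3
    · exact ⟨h3, Units.ext h2⟩
    · exact absurd h2 (s j).ne_zero
  exact ⟨Equiv.ext fun j => (h1 j).1, funext fun j => (h1 j).2⟩

theorem neg_spm (π : Perm ι) (s : ι → ℤˣ) : -spm π s = spm π (-s) := by
  ext i j
  rw [Matrix.neg_apply, spm_apply, spm_apply]
  split_ifs <;> simp

theorem transpose_spm (π : Perm ι) (s : ι → ℤˣ) : (spm π s)ᵀ = spm π⁻¹ fun j => s (π⁻¹ j) := by
  ext i j
  rw [transpose_apply, spm_apply, spm_apply]
  by_cases h : j = π i
  · subst h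
    simp
  · rw [if_neg h, if_neg fun e => h (by rw [e]; simp)]

/-- the reflection in `e_i - e_j` -/
theorem refl_sub {i j : ι} (h : i ≠ j) :
    1 - vecMulVec (Pi.single i 1 - Pi.single j 1) (Pi.single i 1 - Pi.single j 1) = spm (swap i j) 1 := by
  ext a b
  simp only [Matrix.sub_apply, Matrix.one_apply, vecMulVec_apply, Pi.sub_apply, Pi.single_apply, spm_apply, swap_apply_def,
    Pi.one_apply, Units.val_one]
  by_cases h1 : a = i <;> by_cases h2 : a = j <;> by_cases h3 : b = i <;> by_cases h4 : b = j <;>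
    simp_all [eq_comm]

/-- the reflection in `e_i + e_j` -/
theorem refl_add {i j : ι} (h : i ≠ j) :
    1 - vecMulVec (Pi.single i 1 + Pi.single j 1) (Pi.single i 1 + Pi.single j 1) =
      spm (swap i j) (Pi.mulSingle i (-1) * Pi.mulSingle j (-1)) := by
  ext a b
  simp only [Matrix.sub_apply, Matrix.one_apply, vecMulVec_apply, Pi.add_apply, Pi.single_apply, spm_apply, swap_apply_def,
    Pi.mul_apply, Pi.mulSingle_apply]
  by_cases h1 : a = i <;> by_cases h2 : a = j <;> by_cases h3 : b = i <;> by_cases h4 : b = j <;>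
    simp_all [eq_comm]

/-- the reflection in `e_i` -/
theorem refl_single (i : ι) {x y : ℤ} (h : x * y = 2) :
    1 - vecMulVec (Pi.single i x) (Pi.single i y) = spm 1 (Pi.mulSingle i (-1)) := by
  ext a b
  simp only [Matrix.sub_apply, Matrix.one_apply, vecMulVec_apply, Pi.single_apply, spm_apply, Pi.mulSingle_apply, Perm.one_apply]
  by_cases h1 : a = i <;> by_cases h3 : b = i <;> simp_all [eq_comm]

variable [Fintype ι]

theorem spm_mul (π π' : Perm ι) (s s' : ι → ℤˣ) :
    spm π s * spm π' s' = spm (π * π') fun j => s (π' j) * s' j := by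
  ext i j
  rw [Matrix.mul_apply, Finset.sum_eq_single (π' j) (fun b _ hb => by rw [spm_apply π', if_neg hb, mul_zero]) (by simp)]
  rw [spm_apply, spm_apply, spm_apply, if_pos rfl, ite_mul, zero_mul]
  rfl

theorem spm_mulVec (π : Perm ι) (s : ι → ℤˣ) (v : ι → ℤ) (j : ι) : (spm π s *ᵥ v) (π j) = s j * v j := by
  rw [mulVec, dotProduct, Finset.sum_eq_single j (fun b _ hb => by
    rw [spm_apply, if_neg fun e => hb (π.injective e).symm, zero_mul]) (by simp), spm_apply, if_pos rfl]

theorem spm_mulVec' (π : Perm ι) (s : ι → ℤˣ) (v : ι → ℤ) (i : ι) :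
    (spm π s *ᵥ v) i = s (π⁻¹ i) * v (π⁻¹ i) := by
  rw [← spm_mulVec π s v (π⁻¹ i)]
  simp

theorem vecMul_spm (π : Perm ι) (s : ι → ℤˣ) (v : ι → ℤ) (j : ι) : (v ᵥ* spm π s) j = v (π j) * s j := by
  rw [vecMul, dotProduct, Finset.sum_eq_single (π j) (fun b _ hb => by rw [spm_apply, if_neg hb, mul_zero]) (by simp),
    spm_apply, if_pos rfl]

theorem spm_mulVec_single (π : Perm ι) (s : ι → ℤˣ) (j : ι) (x : ℤ) :
    spm π s *ᵥ Pi.single j x = Pi.single (π j) (s j * x) := by
  funext i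
  obtain ⟨i, rfl⟩ := π.surjective i
  rw [spm_mulVec, Pi.single_apply, Pi.single_apply]
  by_cases h : i = j
  · rw [if_pos h, if_pos (by rw [h]), h]
  · rw [if_neg h, if_neg fun e => h (π.injective e), mul_zero]

theorem spm_mul_transpose (π : Perm ι) (s : ι → ℤˣ) : spm π s * (spm π s)ᵀ = 1 := by
  rw [transpose_spm, spm_mul, mul_inv_cancel, ← spm_one]
  congr 1
  funext j
  exact Int.units_mul_self _

theorem spm_eq_mul (π : Perm ι) (s : ι → ℤˣ) : spm π s = spm π 1 * spm 1 s := by
  rw [spm_mul, mul_one]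
  congr 1
  funext j
  simp

omit [Fintype ι] in
theorem spm_diag (s : ι → ℤˣ) : spm 1 s = diagonal fun j => (s j : ℤ) := by
  ext i j
  rw [spm_apply, diagonal_apply]
  by_cases h : i = j
  · subst h
    simp
  · simp [h]

theorem det_spm (π : Perm ι) (s : ι → ℤˣ) : (spm π s).det = (Perm.sign π : ℤ) * ∏ j, (s j : ℤ) := by
  have h : spm π 1 = (1 : Matrix ι ι ℤ).submatrix id π := by
    ext i j
    rw [spm_apply, submatrix_apply, Matrix.one_apply]
    rfl
  rw [spm_eq_mul, det_mul, spm_diag, det_diagonal, h, det_permute', det_one, mul_one]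
  rfl

/-- permutation matrices -/
def pmH : Perm ι →* Matrix ι ι ℤ where
  toFun π := spm π 1
  map_one' := spm_one
  map_mul' π π' := by rw [spm_mul]; congr 1

/-- sign matrices -/
def sgH : (ι → ℤˣ) →* Matrix ι ι ℤ where
  toFun s := spm 1 s
  map_one' := spm_one
  map_mul' s s' := by rw [spm_mul, mul_one]; rfl

theorem conj_sg (π : Perm ι) (s : ι → ℤˣ) : spm π 1 * spm 1 s * spm π⁻¹ 1 = spm 1 fun j => s (π⁻¹ j) := by
  rw [spm_mul, spm_mul, mul_one, mul_inv_cancel]
  congr 1
  funext j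
  simp

/-- type `A` -/
theorem perm_mem {n : ℕ} (S : Submonoid (Matrix (Fin n) (Fin n) ℤ))
    (h : ∀ (i : Fin n) (hi : (i : ℕ) + 1 < n), spm (swap i ⟨i + 1, hi⟩) 1 ∈ S) (π : Perm (Fin n)) : spm π 1 ∈ S := by
  cases n with
  | zero =>
    rw [Subsingleton.elim π 1, spm_one]
    exact S.one_mem
  | succ n =>
    have h1 : Submonoid.closure (Set.range fun i : Fin n => swap i.castSucc i.succ) ≤ S.comap pmH := by
      rw [Submonoid.closure_le]
      rintro _ ⟨i, rfl⟩
      exact h i.castSucc (by simp)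
    rw [Perm.mclosure_swap_castSucc_succ] at h1
    exact h1 (Submonoid.mem_top π)

/-- types `B`, `C` -/
theorem spm_mem (S : Submonoid (Matrix ι ι ℤ)) (h : ∀ π : Perm ι, spm π 1 ∈ S) {i : ι}
    (hi : spm 1 (Pi.mulSingle i (-1)) ∈ S) (π : Perm ι) (s : ι → ℤˣ) : spm π s ∈ S := by
  rw [spm_eq_mul]
  refine S.mul_mem (h π) ?_
  rw [← Finset.univ_prod_mulSingle s]
  refine (S.comap sgH).prod_mem fun j _ => ?_
  rcases Int.units_eq_one_or (s j) with e | e <;> rw [e]
  · rw [Pi.mulSingle_one]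
    exact one_mem _
  · have h1 := S.mul_mem (S.mul_mem (h (swap i j)) hi) (h (swap i j)⁻¹)
    rw [conj_sg] at h1
    convert h1 using 1
    show spm 1 _ ∈ S ↔ _
    congr! 2
    funext a
    rw [Pi.mulSingle_apply, Pi.mulSingle_apply, swap_inv]
    exact if_congr (by rw [swap_apply_eq_iff, swap_apply_left]) rfl rfl

/-- type `D` -/
theorem spm_mem_even (S : Submonoid (Matrix ι ι ℤ)) (h : ∀ π : Perm ι, spm π 1 ∈ S) {i j : ι} (hij : i ≠ j)
    (hi : spm (swap i j) (Pi.mulSingle i (-1) * Pi.mulSingle j (-1)) ∈ S) (π : Perm ι) {s : ι → ℤˣ}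
    (hs : ∏ a, s a = 1) : spm π s ∈ S := by
  have h0 : spm 1 (Pi.mulSingle i (-1) * Pi.mulSingle j (-1)) ∈ S := by
    have h1 := S.mul_mem (h (swap i j)) hi
    rw [spm_mul, Equiv.swap_mul_self] at h1
    simp only [Pi.one_apply, one_mul] at h1
    exact h1
  rw [spm_eq_mul]
  refine S.mul_mem (h π) ?_
  have h1 : s = ∏ a, Pi.mulSingle a (s a) * Pi.mulSingle i (s a) := by
    rw [Finset.prod_mul_distrib, Finset.univ_prod_mulSingle]
    have h2 := map_prod (MonoidHom.mulSingle (fun _ : ι => ℤˣ) i) s Finset.univ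
    rw [hs, map_one] at h2
    exact (mul_one s).symm.trans (congrArg (s * ·) h2)
  rw [h1]
  refine (S.comap sgH).prod_mem fun a _ => ?_
  rcases Int.units_eq_one_or (s a) with e | e <;> rw [e]
  · rw [Pi.mulSingle_one, Pi.mulSingle_one, mul_one]
    exact one_mem _
  · by_cases ha : a = i
    · rw [ha, ← Pi.mulSingle_mul, Int.units_mul_self, Pi.mulSingle_one]
      exact one_mem _
    · have h2 := S.mul_mem (S.mul_mem (h (swap j a)) h0) (h (swap j a)⁻¹)
      rw [conj_sg] at h2
      convert h2 using 1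
      show spm 1 _ ∈ S ↔ _
      congr! 2
      funext b
      rw [mul_comm]
      simp only [Pi.mul_apply, Pi.mulSingle_apply, swap_inv]
      rw [if_congr (show swap j a b = i ↔ b = i by
          rw [swap_apply_eq_iff, swap_apply_of_ne_of_ne hij (Ne.symm ha)]) rfl rfl,
        if_congr (show swap j a b = j ↔ b = a by rw [swap_apply_eq_iff, swap_apply_left]) rfl rfl]

/-- the image of a Coxeter group whose generators map to signed permutation matrices -/
theorem exists_spm {I W : Type*} [Group W] {M : CoxeterMatrix I} (cs : CoxeterSystem M W) (Φ : W →* Matrix ι ι ℤ)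
    (χ : ℤˣ → Prop) (h1 : χ 1) (hm : ∀ a b, χ a → χ b → χ (a * b))
    (h : ∀ i, ∃ π s, χ (∏ a, s a) ∧ Φ (cs.simple i) = spm π s) (w : W) : ∃ π s, χ (∏ a, s a) ∧ Φ w = spm π s := by
  induction w using cs.simple_induction_left with
  | one => exact ⟨1, 1, by simpa using h1, by rw [map_one, spm_one]⟩
  | mul_simple_left w i ih =>
    obtain ⟨π, s, e1, e2⟩ := h i
    obtain ⟨π', s', e3, e4⟩ := ih
    refine ⟨_, _, ?_, by rw [map_mul, e2, e4, spm_mul]⟩
    rw [Finset.prod_mul_distrib, Equiv.prod_comp π' s]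
    exact hm _ _ e1 e3

end Cfsg.Agent.KZ.Dat
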