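import Cfsg.Agent.KZ.Dat.SmF
import Cfsg.Agent.KZ.Dat.Spm
import Cfsg.Agent.ODD.C2.GlB

/-!
# KZ: the data of `GL (n + 1) (q)` and `GU (n + 1) (q)` (helper46)

`smA n`, `okA n`, `GA n k = ⊤`, `syA`; `datL n hk he`, `datU n hk he`; `pwA n : W ≃* Perm (Fin (n + 1))`; the matrices
`Wm w = spm (pwA n w) 1`; roots, coroots, `Fw`.
-/

set_option autoImplicit false
set_option linter.unusedSectionVars false

namespace Cfsg.Agent.KZ.Dat

open CoxeterSystem Cfsg.Agent.ChevalleyStructure.CoxeterGeom Cfsg.Agent.Tits.Roots Cfsg.Agent.Nodes.Coroot Matrix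
  Cfsg.Agent.LangThm Cfsg.Agent.DL Cfsg.Agent.DL.PP Cfsg.Agent.Nodes.RootsA Cfsg.Agent.ODD.C2 Cfsg.Agent.ODD.C2.GlA
open Cfsg.Agent.LieRecognition.BNCox (cA)

attribute [local instance] finite_WA

/-- **The natural module of `GL (n + 1)`.** -/
def smA (n : ℕ) : Sm (AA n) (Fin (n + 1)) (Fin (n + 1)) :=
  { mnA n with
    s := fun _ _ => 1
    symm := fun _ _ => rfl
    L := fun _ => True
    sub := fun _ _ _ _ => trivial
    br := fun _ _ _ _ => trivial
    tri := fun _ _ _ _ => trivial }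

variable {n : ℕ}

theorem wtA_inj : Function.Injective (wtA n) := fun a b h => funext fun i =>
  (czA a i).symm.trans ((congrArg (· ⬝ᵥ _) h).trans (czA b i))

theorem okA (n : ℕ) : (smA n).Ok (csA n) (isCartan n) where
  mem _ _ := trivial
  root z hz X _ hX := by
    obtain ⟨a, b, hab, rfl⟩ := exists_of_isRoot _ _ hz
    refine ⟨X a b, Matrix.ext fun c d => ?_⟩
    rw [Matrix.smul_apply, Sm.e_apply]
    split_ifs with h
    · obtain ⟨rfl, rfl⟩ := (st_rtA hab c d).1 h
      exact (mul_one _).symm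
    · exact (hX c d h).trans (mul_zero _).symm
  non x y _ _ h0 h1 X _ hX := Matrix.ext fun c d => hX c d fun h => by
    have h2 : x + y = rtA c d := wtA_inj (by rw [wtA_rtA, eq_sub_iff_add_eq']; exact h.symm)
    by_cases e : c = d
    · exact h0 (by rw [h2, e, rtA_self])
    · exact h1 (h2 ▸ isRoot_rtA _ _ e)

/-- the Weyl group is the symmetric group -/
theorem rep_rtA (w : (cA n).Group) (a b : Fin (n + 1)) : rep (csA n) (isCartan n) w (rtA a b) =
    rtA ((smA n).pw (csA n) (isCartan n) w a) ((smA n).pw (csA n) (isCartan n) w b) := by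
  induction w using (csA n).simple_induction_left with
  | one => simp
  | mul_simple_left w i ih =>
    rw [rep_mul_apply, ih, rep_simple_rtA, map_mul, Equiv.Perm.mul_apply, Equiv.Perm.mul_apply, Sm.pw_simple, Sm.pw_simple]
    rfl

/-- `W ≃* S_(n+1)` -/
noncomputable def pwA (n : ℕ) : (cA n).Group ≃* Equiv.Perm (Fin (n + 1)) :=
  MulEquiv.ofBijective ((smA n).pw (csA n) (isCartan n)) ⟨(injective_iff_map_eq_one _).2 fun w hw =>
    eq_one_of_nonneg (csA n) (isCartan n) w fun i => by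
      rw [show (Pi.single i 1 : Fin n → ℤ) = _ from (rtA_sr i).symm, rep_rtA, hw, Equiv.Perm.one_apply, Equiv.Perm.one_apply, rtA_sr]
      exact sr_nonneg i, fun π => by
    have h1 : Submonoid.closure (Set.range fun i : Fin n => Equiv.swap i.castSucc i.succ) ≤
        MonoidHom.mrange ((smA n).pw (csA n) (isCartan n)) := Submonoid.closure_le.2 (by
      rintro _ ⟨i, rfl⟩
      exact ⟨_, Equiv.ext ((smA n).pw_simple i)⟩)
    rw [Equiv.Perm.mclosure_swap_castSucc_succ] at h1
    exact h1 (Submonoid.mem_top π)⟩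

theorem pwA_simple (i : Fin n) : pwA n ((csA n).simple i) = Equiv.swap i.castSucc i.succ := Equiv.ext ((smA n).pw_simple i)

theorem BA_eq : BA n = -spm Fin.revPerm 1 := by
  ext i j
  rw [Matrix.neg_apply, spm_apply, BA, of_apply, apply_ite Neg.neg]
  rfl

theorem BA_BA : BA n * BA n = 1 := by
  rw [BA_eq, neg_mul_neg, spm_mul, ← spm_one]
  exact congrArg₂ _ (Equiv.ext Fin.rev_rev) rfl

variable {k : Type} [Field k]

theorem coe_xa {a b : Fin (n + 1)} (hab : a ≠ b) (u : k) :
    ((smA n).x k (rtA a b) u : Matrix (Fin (n + 1)) (Fin (n + 1)) k) = transvection a b u := by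
  ext c d
  rw [(smA n).x_apply (isRoot_rtA (csA n) (isCartan n) hab), transvection, Matrix.add_apply, one_apply, single_apply]
  exact congrArg _ (if_congr (st_rtA hab c d) (by simp [smA]) rfl)

variable (n k) in
/-- the algebraic group -/
noncomputable abbrev GA : Subgroup (GL (Fin (n + 1)) k) := (smA n).G k (csA n) (isCartan n)

theorem GA_top : GA n k = ⊤ := by
  refine top_unique fun y _ => ?_
  obtain ⟨g, hg, e⟩ := diagonal_transvection_induction_of_det_ne_zero
    (fun M => ∃ g ∈ GA n k, (g : Matrix (Fin (n + 1)) (Fin (n + 1)) k) = M) y.1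
    (GeneralLinearGroup.det_ne_zero y)
    (fun D hD => ⟨_, (smA n).τ_mem_G fun a => Units.mk0 (D a) fun h => hD (by
      rw [det_diagonal]
      exact Finset.prod_eq_zero (Finset.mem_univ a) h), coe_τA _⟩)
    (fun t => ⟨_, (smA n).x_mem_G (isRoot_rtA (csA n) (isCartan n) t.hij) t.c, coe_xa t.hij t.c⟩)
    (by
      rintro _ _ - - ⟨g, hg, rfl⟩ ⟨g', hg', rfl⟩
      exact ⟨g * g', mul_mem hg hg', rfl⟩)
  rwa [← Units.ext e]

theorem mem_GA (y : GL (Fin (n + 1)) k) : y ∈ GA n k := GA_top (n := n) (k := k) ▸ trivial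

theorem γA_x {a b : Fin (n + 1)} (hab : a ≠ b) (u : k) :
    γA n k ((smA n).x k (rtA a b) u) = (smA n).x k (rtA b.rev a.rev) (-u) := by
  rw [MulAut.mul_apply, (smA n).itA_x (isRoot_rtA (csA n) (isCartan n) hab), rtA_neg]
  refine pm_conj_eq fun c d => ?_
  rw [coe_xa hab.symm, coe_xa (Fin.rev_injective.ne hab.symm)]
  simp [transvection, one_apply, single_apply]

/-- the graph automorphism is a symmetry of the frame -/
theorem syG : (smA n).Sy (csA n) (isCartan n) (γA n k) (gA n) (BA n) where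
  root a ha := by
    obtain ⟨b, c, hbc, rfl⟩ := exists_of_isRoot _ _ ha
    rw [gA_rtA]
    exact isRoot_rtA _ _ (Fin.rev_injective.ne hbc.symm)
  x a ha := by
    obtain ⟨b, c, hbc, rfl⟩ := exists_of_isRoot _ _ ha
    exact ⟨-1, neg_ne_zero.2 one_ne_zero, fun u => by rw [γA_x hbc, gA_rtA, neg_one_mul]⟩
  τ c := by
    rw [MulAut.mul_apply, (smA n).itA_τ]
    exact (smA n).pm_τ fun a => by
      rw [chr_mon, map_inv, ← chr_neg]
      exact congrArg (chr · c) (single_BA a)
  map f y := by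
    rw [MulAut.mul_apply, MulAut.mul_apply, MulAut.conj_apply, MulAut.conj_apply, map_mul, map_mul, map_inv, map_pm, map_itA]
  fin := isOfFinOrder_iff_pow_eq_one.2 ⟨2, two_pos, γA_sq⟩

variable {p : ℕ} [Fact p.Prime] [CharP k p] [IsAlgClosed k] (hk : ∀ a : k, ∃ j, 0 < j ∧ a ^ p ^ j = a) {e : ℕ} (he : 0 < e)

section gen

variable {α : MulAut (GL (Fin (n + 1)) k)} {g : (Fin n → ℤ) → Fin n → ℤ} {B : Matrix (Fin (n + 1)) (Fin (n + 1)) ℤ}
  (S : (smA n).Sy (csA n) (isCartan n) α g B)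

/-- the data of type `A` -/
noncomputable abbrev datA : Datum p (MonoidHom.id (GL (Fin (n + 1)) k)) (α * frP _ p k e) (GA n k) := (okA n).datT hk he S

theorem wm_A (w : (cA n).Group) : (okA n).wm hk he S w = spm (pwA n w) 1 := by
  ext i j
  obtain ⟨a, rfl⟩ := (pwA n w).surjective i
  have h1 := congrFun ((okA n).μ_pw hk he S w a) j
  change (Pi.single (pwA n w a) 1 ᵥ* _) j = (Pi.single a 1 : Fin (n + 1) → ℤ) j at h1
  rw [single_one_vecMul, Pi.single_apply] at h1
  exact h1.trans (if_congr (eq_comm.trans (pwA n w).injective.eq_iff.symm) rfl rfl)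

theorem datA_Wm (w : (cA n).Group) : (datA hk he S).Wm w = spm (pwA n w) 1 := wm_A hk he S w

theorem datA_rt (a : Fin n → ℤ) : (datA hk he S).Rt a ↔ ∃ i j : Fin (n + 1), i ≠ j ∧ a = rtA i j := isRoot_iff _ _

theorem datA_wt (i j : Fin (n + 1)) : (datA hk he S).wt (rtA i j) = (Pi.single i 1 - Pi.single j 1 : Fin (n + 1) → ℤ) :=
  wtA_rtA i j

theorem datA_act (w : (cA n).Group) (i j : Fin (n + 1)) : (datA hk he S).act w (rtA i j) = rtA (pwA n w i) (pwA n w j) :=
  rep_rtA w i j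

theorem datA_cor {a : Fin n → ℤ} (ha : (datA hk he S).Rt a) : (datA hk he S).cor a = (datA hk he S).wt a := by
  obtain ⟨w, i, rfl⟩ : IsRoot (csA n) (isCartan n) a := ha
  refine ((datA hk he S).cor_act_sr w i).trans ?_
  change (okA n).wm hk he S w *ᵥ cwA i = wtA n (rep (csA n) (isCartan n) w (sr i))
  rw [wm_A, ← rtA_sr, rep_rtA, wtA_rtA, cwA]
  exact (mulVec_sub _ _ _).trans (congrArg₂ _ (spm_mulVec_single _ _ _ _) (spm_mulVec_single _ _ _ _))

theorem datA_Fw (w : (cA n).Group) : B * spm (pwA n w) 1 = spm (pwA n ((datA hk he S).Fw w)) 1 * B := by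
  have h1 : ((p : ℤ) ^ e • B) * (okA n).wm hk he S w = (okA n).wm hk he S ((datA hk he S).Fw w) * ((p : ℤ) ^ e • B) :=
    (datA hk he S).Mx_Wm w
  rw [wm_A hk he S w, wm_A hk he S ((datA hk he S).Fw w), smul_mul_assoc, mul_smul_comm] at h1
  exact smul_right_injective _ (pow_ne_zero e (Int.natCast_ne_zero.2 (Fact.out : p.Prime).ne_zero)) h1

theorem datA_τ (c : Fin (n + 1) → kˣ) :
    ((datA hk he S).τ c : Matrix (Fin (n + 1)) (Fin (n + 1)) k) = diagonal fun a => (c a : k) := coe_τA c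

theorem datA_det (c : Fin (n + 1) → kˣ) : GeneralLinearGroup.det ((datA hk he S).τ c) = ∏ a, c a :=
  (det_τA c).trans (by simp [chr_apply])

/-- the centre is connected -/
theorem datA_cz : CZ (datA hk he S) := ⟨0, _, fun b i => (czA b i).trans (by rw [pow_zero, one_mul])⟩

end gen

variable (n)

/-- **the datum of `GL (n + 1) (p ^ e)`** -/
noncomputable abbrev datL : Datum p (MonoidHom.id (GL (Fin (n + 1)) k)) (1 * frP _ p k e) (GA n k) :=
  datA hk he (smA n).sy_one

/-- **the datum of `GU (n + 1) (p ^ e)`** -/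
noncomputable abbrev datU : Datum p (MonoidHom.id (GL (Fin (n + 1)) k)) (γA n k * frP _ p k e) (GA n k) := datA hk he syG

theorem datL_qs : (datL n hk he).QS := (okA n).dat_qs hk he

theorem datU_qs : (datU n hk he).QS := (okA n).datT_qs hk he syG gA_sr

theorem datL_Mx : (datL n hk he).Mx = ((p : ℤ) ^ e • 1 : Matrix (Fin (n + 1)) (Fin (n + 1)) ℤ) := rfl

theorem datU_Mx : (datU n hk he).Mx = (p : ℤ) ^ e • BA n := rfl

theorem datL_g (a : Fin n → ℤ) : (datL n hk he).g a = a := rfl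

theorem datU_g (i j : Fin (n + 1)) : (datU n hk he).g (rtA i j) = rtA j.rev i.rev := gA_rtA i j

theorem datL_Fw (w : (cA n).Group) : (datL n hk he).Fw w = w := by
  have h1 := datA_Fw hk he (smA n).sy_one w
  rw [one_mul, mul_one, spm_inj] at h1
  exact (pwA n).injective h1.1.symm

theorem datU_Fw (w : (cA n).Group) : pwA n ((datU n hk he).Fw w) = Fin.revPerm * pwA n w * Fin.revPerm := by
  have h1 : BA n * _ = spm (pwA n ((datU n hk he).Fw w)) 1 * _ := datA_Fw hk he syG w
  generalize pwA n ((datU n hk he).Fw w) = π at h1 ⊢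
  rw [BA_eq, neg_mul, mul_neg, neg_inj, spm_mul, spm_mul, spm_inj] at h1
  rw [h1.1, mul_assoc, show (Fin.revPerm : Equiv.Perm (Fin (n + 1))) * Fin.revPerm = 1 from Equiv.ext Fin.rev_rev, mul_one]

end Cfsg.Agent.KZ.Dat
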