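import Cfsg.Agent.DL.PP.Cor

/-!
# Automorphisms of the frame of a datum (helper30)

`au_of_surj` : an automorphism which permutes the root groups and normalises the torus; `AdmQ`;
`exists_frob` : the automorphisms of a finite field.
-/

set_option autoImplicit false
set_option maxHeartbeats 200000
set_option linter.unusedSectionVars false

namespace Cfsg.Agent.KZ.Dat

open Cfsg.Agent.DL Cfsg.Agent.DL.PP Cfsg.Agent.Nodes.BNOf Matrix

/-- field automorphisms only -/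
def AdmQ (p : ℕ) {R : Type} [DecidableEq R] (A : Matrix R R ℤ) : Prop := ∃ j : ℕ, A = (p : ℤ) ^ j • (1 : Matrix R R ℤ)

theorem admQ_one (p : ℕ) {R : Type} [DecidableEq R] : AdmQ p (1 : Matrix R R ℤ) := ⟨0, by rw [pow_zero, one_smul]⟩

theorem AdmQ.mul {p : ℕ} {R : Type} [Fintype R] [DecidableEq R] (A B : Matrix R R ℤ) (h : AdmQ p A) (h' : AdmQ p B) :
    AdmQ p (A * B) := by
  obtain ⟨i, rfl⟩ := h
  obtain ⟨j, rfl⟩ := h'
  exact ⟨i + j, by rw [smul_mul_assoc, one_mul, smul_smul, pow_add]⟩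

variable {p : ℕ} [Fact p.Prime]

/-- an automorphism of a finite field is a power of the Frobenius map -/
theorem exists_frob (p : ℕ) [Fact p.Prime] {F : Type} [Field F] [Finite F] [CharP F p] (τ : F ≃+* F) :
    ∃ j : ℕ, ∀ a : F, τ a = a ^ p ^ j := by
  have := Fintype.ofFinite F
  let _ : Algebra (ZMod p) F := ZMod.algebra F p
  have hcomm : (τ : F →+* F).comp (algebraMap (ZMod p) F) = algebraMap (ZMod p) F := Subsingleton.elim _ _
  let τ' : F →ₐ[ZMod p] F := { (τ : F →+* F) with commutes' := fun r => RingHom.congr_fun hcomm r }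
  obtain ⟨j, hj⟩ := (FiniteField.bijective_frobeniusAlgHom_pow (ZMod p) F).2 τ'
  refine ⟨j, fun a => ?_⟩
  have h1 : ∀ (n : ℕ) (y : F), ((FiniteField.frobeniusAlgHom (ZMod p) F) ^ n) y = y ^ p ^ n := by
    intro n y
    induction n generalizing y with
    | zero => simp
    | succ n ih =>
      rw [pow_succ, AlgHom.mul_apply, ih]
      simp [pow_succ, mul_comm, ← pow_mul]
  have h2 : τ' a = τ a := rfl
  rw [← h2, ← hj]
  exact h1 _ a

variable {k : Type} [Field k] [CharP k p] [IsAlgClosed k]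

omit [CharP k p] in
theorem surj_pow {c : k} (hc : c ≠ 0) (j : ℕ) : Function.Surjective fun u : k => c * u ^ p ^ j := fun v => by
  obtain ⟨u, hu⟩ := IsAlgClosed.exists_pow_nat_eq (c⁻¹ * v) (n := p ^ j) (pow_pos (Fact.out : p.Prime).pos j)
  exact ⟨u, by beta_reduce; rw [hu, mul_inv_cancel_left₀ hc]⟩

omit [CharP k p] [IsAlgClosed k] [Fact p.Prime] in
theorem mon_pow {R : Type} [Fintype R] [DecidableEq R] (j : ℕ) (c : R → kˣ) :
    mon ((p : ℤ) ^ j • (1 : Matrix R R ℤ)) c = c ^ p ^ j := by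
  rw [mon_zsmul, mon_one, ← Nat.cast_pow, zpow_natCast]

omit [CharP k p] in
theorem surj_mon {R : Type} [Fintype R] [DecidableEq R] (j : ℕ) :
    Function.Surjective (mon (k := k) ((p : ℤ) ^ j • (1 : Matrix R R ℤ))) := fun c => by
  choose b hb using fun i => surj_pow (p := p) (one_ne_zero (α := k)) j (c i)
  have h0 : ∀ i, b i ≠ 0 := fun i h => (c i).ne_zero (by
    rw [← hb, h]
    exact mul_eq_zero_of_right _ (zero_pow (pow_pos (Fact.out : p.Prime).pos j).ne'))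
  exact ⟨fun i => Units.mk0 (b i) (h0 i), by
    rw [mon_pow]
    exact funext fun i => Units.ext ((one_mul _).symm.trans (hb i))⟩

variable {Y : Type} [Group Y] {N : Type} [Fintype N] [DecidableEq N] {ρ : Y →* GL N k} {F : MulAut Y} {G : Subgroup Y}
  (D : Datum p ρ F G) {α : MulAut Y} {A : Matrix D.R D.R ℤ} {g : (D.I → ℤ) → D.I → ℤ}

theorem mem_iff_of_map {H : Subgroup Y} (h : H.map α.toMonoidHom = H) (y : Y) : α y ∈ H ↔ y ∈ H := by
  conv_lhs => rw [← h]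
  exact Subgroup.mem_map_iff_mem α.injective

theorem map_S {C : Set (D.I → ℤ)} (hC : ∀ a ∈ C, D.Rt a) (h1 : ∀ a ∈ C, g a ∈ C) (h2 : ∀ b ∈ C, ∃ a ∈ C, g a = b)
    (hx : ∀ a, D.Rt a → ∃ φ : k → k, Function.Surjective φ ∧ ∀ u, α (D.x a u) = D.x (g a) (φ u)) :
    (D.S C).map α.toMonoidHom = D.S C := by
  refine le_antisymm (Subgroup.map_le_iff_le_comap.2 (RGD.Sup_le fun a ha y hy => ?_)) (RGD.Sup_le fun b hb y hy => ?_)
  · obtain ⟨u, rfl⟩ := (D.mem_X a (hC a ha) y).1 hy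
    obtain ⟨φ, -, h⟩ := hx a (hC a ha)
    show α _ ∈ D.S C
    rw [h]
    exact RGD.le_Sup (h1 a ha) (D.x_mem (hC _ (h1 a ha)) _)
  · obtain ⟨a, ha, rfl⟩ := h2 b hb
    obtain ⟨v, rfl⟩ := (D.mem_X _ (hC _ hb) y).1 hy
    obtain ⟨φ, hφ, h⟩ := hx a (hC a ha)
    obtain ⟨u, rfl⟩ := hφ v
    exact ⟨_, RGD.le_Sup ha (D.x_mem (hC a ha) u), h u⟩

/-- **an automorphism which permutes the positive root groups and normalises the torus** -/
theorem au_of_surj (hc : ∀ y, α (F y) = F (α y)) (hr : ∀ a, D.Rt a → D.Rt (g a)) (hs : ∀ b, D.Rt b → ∃ a, D.Rt a ∧ g a = b)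
    (hp : ∀ a, D.Rt a → (0 ≤ g a ↔ 0 ≤ a))
    (hx : ∀ a, D.Rt a → ∃ φ : k → k, Function.Surjective φ ∧ ∀ u, α (D.x a u) = D.x (g a) (φ u))
    (hτ : ∀ c, α (D.τ c) = D.τ (mon A c)) (hA : Function.Surjective (mon (k := k) A)) : Au D α A := by
  have hT : D.T.map α.toMonoidHom = D.T := by
    ext y
    rw [Subgroup.mem_map, D.mem_T]
    constructor
    · rintro ⟨t, ht, rfl⟩
      obtain ⟨c, rfl⟩ := (D.mem_T t).1 ht
      exact ⟨_, (hτ c).symm⟩
    · rintro ⟨c, rfl⟩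
      obtain ⟨c, rfl⟩ := hA c
      exact ⟨_, D.τ_mem c, hτ c⟩
  refine ⟨hc, mem_iff_of_map ?_, mem_iff_of_map hT, mem_iff_of_map (map_S D (fun _ h => h.1)
    (fun a h => ⟨hr a h.1, (hp a h.1).2 h.2⟩) (fun b h => ?_) hx), hτ⟩
  · conv_lhs => rw [← D.G_eq]
    conv_rhs => rw [← D.G_eq]
    exact (Subgroup.map_sup _ _ _).trans (congrArg₂ _ hT (map_S D (fun _ h => h) hr hs hx))
  · obtain ⟨a, ha, rfl⟩ := hs b h.1
    exact ⟨a, ⟨ha, (hp a ha).1 h.2⟩, rfl⟩

/-- the root groups are fixed -/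
theorem au_of_id (hc : ∀ y, α (F y) = F (α y))
    (hx : ∀ a, D.Rt a → ∃ φ : k → k, Function.Surjective φ ∧ ∀ u, α (D.x a u) = D.x a (φ u))
    (hτ : ∀ c, α (D.τ c) = D.τ (mon A c)) (hA : Function.Surjective (mon (k := k) A)) : Au D α A :=
  au_of_surj D (g := id) hc (fun _ h => h) (fun b h => ⟨b, h, rfl⟩) (fun _ _ => Iff.rfl) hx hτ hA

end Cfsg.Agent.KZ.Dat
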