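import Cfsg.Agent.KZ.Dat.OmC
import Cfsg.Agent.KZ.Dat.Spm
import Cfsg.Agent.KZ.Dat.AuOf
import Cfsg.Agent.ODD.C2.OmD
import Cfsg.Agent.Tits.C3Roots

/-!
# KZ: the data of the types `B` and `D` (helper19)

`datB m h2 hk he`, `datP n hk he` (split), `datM n hk he` (twisted); Weyl groups, roots and coroots in coordinates.
-/

set_option autoImplicit false
set_option maxHeartbeats 400000
set_option linter.unusedSectionVars false

namespace Cfsg.Agent.KZ.Dat.Om

open CoxeterSystem Cfsg.Agent.ChevalleyStructure.CoxeterGeom Cfsg.Agent.Tits.Roots Matrix Sum Cfsg.Agent.DL Cfsg.Agent.DL.PP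
  Cfsg.Agent.Nodes
open Cfsg.Agent.Nodes.TypeC (wt ng ng_ng wt_ng wt_injective)
open Cfsg.Agent.ODD.C2 (csD finD gD BD swD piD dot_btD wtD_dot)

/-! ### type `D` -/

section D

variable {n : ℕ}

theorem cvD (i : Fin (n + 2)) : cv (i, true) (inl (TypeD.nx i) : NN (n + 2) Empty) = TypeD.bt i := cv_inl _ _

/-- the root system of type `D_(n+2)` -/
noncomputable def osD (n : ℕ) : OS Empty (csD n) (TypeD.isCartan n) where
  sub := inferInstance
  ee := AddMonoidHom.mk' TypeD.ee TypeD.ee_add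
  inj := TypeD.ee_injective
  y i := (i, true)
  z i := inl (TypeD.nx i)
  ok i := ok_inl.2 (TypeD.ok_nx i)
  ee_sr := TypeD.ee_sr
  pair i a := by
    rw [cvD, dot_btD]
    exact TypeD.Cf_ee i a
  root a := TypeD.isRoot_iff.trans ⟨fun ⟨x, y, h1, h2⟩ => ⟨x, inl y, ok_inl.2 h1, h2⟩, by
    rintro ⟨x, y | j, h1, h2⟩
    · exact ⟨x, y, ok_inl.1 h1, h2⟩
    · exact j.elim⟩
  σ := TypeD.sg
  hσ i b := by
    rw [TypeD.wt_sg, cvD, dot_btD]
    exact congrArg (fun z => _ - _ • z) (TypeD.ee_sr i).symm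
  braid := TypeD.sg_braid
  par i j := one_pow _
  all := by
    rintro x (y | j) h
    · obtain ⟨a, -, e⟩ := TypeD.rt_of_ok (cs := csD n) (ok_inl.1 h)
      exact ⟨a, e⟩
    · exact j.elim

/-- the graph symmetry -/
theorem syD (n : ℕ) : (osD n).Sy (Equiv.swap (Fin.last (n + 1), true) (ng (Fin.last (n + 1), true))) (gD n) (BD n) :=
  ⟨sg_sw _, sw_inv _, ODD.C2.BD_inj, ODD.C2.wt_swD, ODD.C2.ee_gD, fun _ h i => h (piD n i)⟩

theorem BD_eq (n : ℕ) : BD n = spm 1 (Pi.mulSingle (Fin.last (n + 1)) (-1)) := by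
  rw [spm_diag, BD]
  congr 1
  funext j
  rw [Pi.mulSingle_apply]
  split_ifs <;> rfl

theorem BD_mul (n : ℕ) : BD n * BD n = 1 := by
  rw [BD, diagonal_mul_diagonal, ← diagonal_one]
  congr 1
  funext j
  split_ifs <;> rfl

/-- field and graph automorphisms -/
def AdmD (p n : ℕ) (A : Matrix (Fin (n + 2)) (Fin (n + 2)) ℤ) : Prop :=
  ∃ j : ℕ, A = (p : ℤ) ^ j • (1 : Matrix _ _ ℤ) ∨ A = (p : ℤ) ^ j • BD n

theorem admD_one (p n : ℕ) : AdmD p n 1 := ⟨0, .inl (by rw [pow_zero, one_smul])⟩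

theorem AdmD.mul {p : ℕ} (A B : Matrix (Fin (n + 2)) (Fin (n + 2)) ℤ) (h : AdmD p n A) (h' : AdmD p n B) :
    AdmD p n (A * B) := by
  obtain ⟨i, rfl | rfl⟩ := h <;> obtain ⟨j, rfl | rfl⟩ := h' <;> refine ⟨i + j, ?_⟩ <;>
    rw [smul_mul_assoc, mul_smul_comm, smul_smul, pow_add]
  · exact .inl (by rw [one_mul])
  · exact .inr (by rw [one_mul])
  · exact .inr (by rw [mul_one])
  · exact .inl (by rw [BD_mul])

theorem reflD_lt (i : Fin (n + 2)) (hi : (i : ℕ) + 1 < n + 2) :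
    1 - vecMulVec (TypeD.bt i) (TypeD.bt i) = spm (Equiv.swap i ⟨i + 1, hi⟩) 1 := by
  rw [← refl_sub fun h => by simpa using congrArg Fin.val h, TypeD.bt, TypeD.nx, dif_pos hi, sub_eq_add_neg (Pi.single i 1),
    ← Pi.single_neg]
  rfl

theorem ne_pd {i : Fin (n + 2)} (hi : ¬ (i : ℕ) + 1 < n + 2) : i ≠ TypeD.pd n := fun h => hi (by rw [h]; simp [TypeD.pd])

theorem reflD_last (i : Fin (n + 2)) (hi : ¬ (i : ℕ) + 1 < n + 2) : 1 - vecMulVec (TypeD.bt i) (TypeD.bt i) =
    spm (Equiv.swap i (TypeD.pd n)) (Pi.mulSingle i (-1) * Pi.mulSingle (TypeD.pd n) (-1)) := by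
  rw [← refl_add (ne_pd hi), TypeD.bt, TypeD.nx, dif_neg hi]
  rfl

variable {p : ℕ} [Fact p.Prime] {k : Type} [Field k] [CharP k p] [IsAlgClosed k]

theorem h2D : Nonempty Empty → (2 : k) ≠ 0 := fun ⟨j⟩ => j.elim

variable {s : Fin (n + 2) × Bool → Fin (n + 2) × Bool} {γ : (Fin (n + 2) → ℤ) → Fin (n + 2) → ℤ}
  {B : Matrix (Fin (n + 2)) (Fin (n + 2)) ℤ} (S : (osD n).Sy s γ B)
  (hk : ∀ a : k, ∃ j, 0 < j ∧ a ^ p ^ j = a) {e : ℕ} (he : 0 < e)

/-- the data of type `D` -/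
noncomputable def datD : Datum p (MonoidHom.id _) (S.F k p e) ((osD n).G k) :=
  have := finD n
  S.dat h2D hk he

variable (n) in
/-- **the split datum of type `D`** -/
noncomputable abbrev datP := datD (osD n).sy_id hk he

variable (n) in
/-- **the twisted datum of type `D`** -/
noncomputable abbrev datM := datD (syD n) hk he

theorem datD_qs : (datD S hk he).QS := fun a _ => S.pos a

theorem datD_Mx : (datD S hk he).Mx = (p : ℤ) ^ e • B := rfl

theorem datP_Mx : (datP n hk he).Mx = (p : ℤ) ^ e • 1 := rfl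

theorem datM_Mx : (datM n hk he).Mx = (p : ℤ) ^ e • BD n := rfl

theorem datD_wt (a : Fin (n + 2) → ℤ) : (datD S hk he).wt a = TypeD.ee a := rfl

theorem datD_cw (i : Fin (n + 2)) : (datD S hk he).cw i = TypeD.bt i := cvD i

theorem datD_g (a : Fin (n + 2) → ℤ) : (datD S hk he).g a = γ a := rfl

theorem datD_τ (c : Fin (n + 2) → kˣ) : (datD S hk he).τ c = τ Empty k c := rfl

/-- the matrices of the Weyl group -/
noncomputable def wmD : (TypeD.M n).Group →* Matrix (Fin (n + 2)) (Fin (n + 2)) ℤ :=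
  have := finD n
  S.wm h2D hk he

theorem WmD_eq (w : (datD S hk he).W) : (datD S hk he).Wm w = wmD S hk he w := rfl

theorem wmD_simple (i : Fin (n + 2)) : wmD S hk he ((csD n).simple i) = 1 - vecMulVec (TypeD.bt i) (TypeD.bt i) := by
  have := finD n
  exact (S.wm_simple h2D hk he i).trans (congrArg₂ (fun a b => 1 - vecMulVec a b) (cvD i) (TypeD.ee_sr i))

/-- every even signed permutation matrix is the matrix of an element of the Weyl group -/
theorem exists_WmD (π : Equiv.Perm (Fin (n + 2))) {t : Fin (n + 2) → ℤˣ} (ht : ∏ a, t a = 1) :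
    ∃ w, (datD S hk he).Wm w = spm π t :=
  spm_mem_even (MonoidHom.mrange (wmD S hk he)) (perm_mem _ fun i hi => ⟨_, (wmD_simple S hk he i).trans (reflD_lt i hi)⟩)
    (ne_pd (i := Fin.last (n + 1)) (lt_irrefl _)) ⟨_, (wmD_simple S hk he _).trans (reflD_last _ (lt_irrefl _))⟩ π ht

theorem WmD_spm (w : (datD S hk he).W) :
    ∃ (π : Equiv.Perm (Fin (n + 2))) (t : Fin (n + 2) → ℤˣ), ∏ a, t a = 1 ∧ (datD S hk he).Wm w = spm π t :=
  exists_spm (csD n) (wmD S hk he) (· = 1) rfl (fun a b ha hb => by rw [ha, hb, mul_one]) (fun i => by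
    by_cases hi : (i : ℕ) + 1 < n + 2
    · exact ⟨_, _, by simp, (wmD_simple S hk he i).trans (reflD_lt i hi)⟩
    · exact ⟨_, _, by simp [Finset.prod_mul_distrib], (wmD_simple S hk he i).trans (reflD_last i hi)⟩) w

/-- the roots -/
theorem rtD_iff {a : Fin (n + 2) → ℤ} :
    (datD S hk he).Rt a ↔ ∃ x y : Fin (n + 2) × Bool, x.1 ≠ y.1 ∧ (datD S hk he).wt a = wt x + wt y :=
  TypeD.isRoot_iff (cs := csD n)

theorem exists_rtD {x y : Fin (n + 2) × Bool} (h : x.1 ≠ y.1) :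
    ∃ a, (datD S hk he).Rt a ∧ (datD S hk he).wt a = wt x + wt y := TypeD.rt_of_ok (cs := csD n) h

/-- the coroots -/
theorem corD {a : Fin (n + 2) → ℤ} (ha : (datD S hk he).Rt a) : (datD S hk he).cor a = (datD S hk he).wt a := by
  have := finD n
  obtain ⟨x, y, h1, h2⟩ := (rtD_iff S hk he).1 ha
  exact (S.cor h2D hk he (ok_inl.2 h1) h2).trans ((cv_inl _ _).trans h2.symm)

theorem datP_Fw (w : (datP n hk he).W) : (datP n hk he).Fw w = w := by
  have h := (datP n hk he).Mx_Wm w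
  rw [datP_Mx, smul_mul_assoc, mul_smul_comm, one_mul, mul_one] at h
  exact ((datP n hk he).Wm_injective (smul_right_injective _
    (pow_ne_zero e (Nat.cast_ne_zero.2 (Fact.out : p.Prime).ne_zero)) h)).symm

end D

/-! ### type `B` -/

section B

variable {m : ℕ}

/-- the second label of a simple root -/
def zB (i : Fin m) : NN m Unit := if (i : ℕ) + 1 < m then inl (TypeC.nx i) else inr ()

/-- the simple roots -/
def btB (i : Fin m) : Fin m → ℤ := wt (i, true) + mu (zB i)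

theorem btB_lt {i : Fin m} (h : (i : ℕ) + 1 < m) : btB i = TypeC.bt i := by rw [btB, zB, if_pos h]; rfl

theorem btB_last {i : Fin m} (h : ¬ (i : ℕ) + 1 < m) : btB i = wt (i, true) ∧ TypeC.bt i = wt (i, true) + wt (i, true) :=
  ⟨by rw [btB, zB, if_neg h, mu_inr, add_zero], by rw [TypeC.bt, TypeC.nx, dif_neg h]⟩

theorem cvB (i : Fin m) : cv (i, true) (zB i) = TypeC.bt i := by
  by_cases h : (i : ℕ) + 1 < m
  · rw [zB, if_pos h, cv_inl]; rfl
  · rw [zB, if_neg h, cv_inr, (btB_last h).2]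

theorem dot_wt (u : Fin m → ℤ) (i : Fin m) (s : Bool) : u ⬝ᵥ wt (i, s) = if s then u i else -u i := by
  rw [wt, dotProduct_single]
  cases s <;> simp

theorem dot_btB (i : Fin m) (u : Fin m → ℤ) : u ⬝ᵥ btB i = TypeC.Cf i u := by
  delta TypeC.Cf
  by_cases h : (i : ℕ) + 1 < m
  · rw [btB_lt h, dif_pos h, TypeC.bt, TypeC.nx, dif_pos h, dotProduct_add, dot_wt, dot_wt, sub_eq_add_neg]
    rfl
  · rw [(btB_last h).1, dif_neg h, dot_wt, if_pos rfl]

/-- the passage to coordinates -/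
def eeB : (Fin m → ℤ) →+ (Fin m → ℤ) :=
  AddMonoidHom.mk' (fun x => ∑ j, x j • btB j) fun x y => by simp only [Pi.add_apply, add_smul, Finset.sum_add_distrib]

theorem eeB_sr (i : Fin m) : eeB (sr i) = btB i := by
  show ∑ j, sr i j • btB j = _
  rw [Finset.sum_eq_single i (fun j _ hj => by rw [sr_ne hj, zero_smul]) (by simp), sr_self, one_smul]

theorem eeB_inj : Function.Injective (eeB (m := m)) := by
  have h : ∀ x : Fin m → ℤ, (2 : ℤ) • eeB x = TypeC.ee fun j => if (j : ℕ) + 1 < m then 2 * x j else x j := fun x => by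
    show (2 : ℤ) • ∑ j, x j • btB j = ∑ j, _
    rw [Finset.smul_sum]
    refine Finset.sum_congr rfl fun j _ => ?_
    beta_reduce
    split_ifs with h
    · rw [btB_lt h, mul_smul]
    · rw [(btB_last h).1, (btB_last h).2]
      module
  intro x y e
  funext j
  have h1 := congrFun (TypeC.ee_injective ((h x).symm.trans (e ▸ h y))) j
  split_ifs at h1 <;> omega

theorem isCartanB (m : ℕ) : IsCartan (CoxeterMatrix.B m) fun i j => TypeC.A m j i :=
  Tits.C3Roots.cartan_transpose (TypeC.isCartan m)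

/-- the Coxeter system -/
noncomputable abbrev csB (m : ℕ) : CoxeterSystem (CoxeterMatrix.B m) (CoxeterMatrix.B m).Group :=
  (CoxeterMatrix.B m).toCoxeterSystem

theorem pairB (i : Fin m) (a : Fin m → ℤ) : eeB a ⬝ᵥ TypeC.bt i = pairing (fun i j => TypeC.A m j i) i a := by
  show (∑ j, a j • btB j) ⬝ᵥ _ = ∑ j, _
  rw [sum_dotProduct]
  exact Finset.sum_congr rfl fun j _ => by rw [smul_dotProduct, dotProduct_comm, dot_btB, smul_eq_mul, mul_comm]; rfl

theorem wt_sgB (i : Fin m) (b : Fin m × Bool) : wt (TypeC.sg i b) = wt b - (wt b ⬝ᵥ TypeC.bt i) • btB i := by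
  rw [TypeC.wt_sg, ← dot_btB]
  by_cases h : (i : ℕ) + 1 < m
  · rw [btB_lt h]
  · rw [(btB_last h).1, (btB_last h).2, dotProduct_add]
    module

theorem both (w : (CoxeterMatrix.B m).Group) (i : Fin m) : ∃ x y, TypeC.Ok x y ∧
    TypeC.ee (rep (csB m) (TypeC.isCartan m) w (sr i)) = wt x + wt y ∧
    eeB (rep (csB m) (isCartanB m) w (sr i)) = if x = y then wt x else wt x + wt y := by
  induction w using (csB m).simple_induction_left with
  | one =>
    refine ⟨(i, true), TypeC.nx i, TypeC.ok_nx i, by rw [map_one, Module.End.one_apply, TypeC.ee_sr]; rfl, ?_⟩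
    rw [map_one, Module.End.one_apply, eeB_sr]
    by_cases h : (i : ℕ) + 1 < m
    · rw [btB_lt h, if_neg (by simp [TypeC.nx, h])]; rfl
    · rw [(btB_last h).1, if_pos (by simp [TypeC.nx, h])]
  | mul_simple_left w j ih =>
    obtain ⟨x, y, h1, h2, h3⟩ := ih
    refine ⟨_, _, h1.sg j, by rw [rep_mul_apply, rep_simple, TypeC.ee_refl_of h2], ?_⟩
    rw [rep_mul_apply, rep_simple_eq, map_sub, map_zsmul, ← pairB, h3, eeB_sr,
      if_congr (Function.LeftInverse.injective (TypeC.sg_sg j)).eq_iff rfl rfl, wt_sgB, wt_sgB]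
    split_ifs
    · rfl
    · rw [add_dotProduct]
      module

theorem allB (y : Fin m × Bool) (z : NN m Unit) (h : Ok y z) : ∃ a, IsRoot (csB m) (isCartanB m) a ∧ eeB a = wt y + mu z := by
  have key : ∀ y', TypeC.Ok y y' → ∃ a, IsRoot (csB m) (isCartanB m) a ∧ eeB a = if y = y' then wt y else wt y + wt y' :=
    fun y' h => by
      obtain ⟨_, ⟨w, i, rfl⟩, e⟩ := TypeC.rt_of_ok (cs := csB m) h
      obtain ⟨u, v, h1, h2, h3⟩ := both w i
      refine ⟨_, ⟨w, i, rfl⟩, h3.trans ?_⟩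
      rcases TypeC.wt_add_eq h h1 (e.symm.trans h2) with ⟨rfl, rfl⟩ | ⟨rfl, rfl⟩
      · rfl
      · by_cases h4 : y = y'
        · rw [h4]
        · rw [if_neg h4, if_neg (Ne.symm h4), add_comm]
  rcases z with y' | j
  · simpa [show y ≠ y' from fun e => h.1 (by rw [e])] using key y' (.inl (ok_inl.1 h))
  · simpa using key y (.inr rfl)

/-- the root system of type `B_m` -/
noncomputable def osB (m : ℕ) : OS Unit (csB m) (isCartanB m) where
  sub := inferInstance
  ee := eeB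
  inj := eeB_inj
  y i := (i, true)
  z := zB
  ok i := by
    unfold zB
    split_ifs with h
    · exact ok_inl.2 (by simp [TypeC.nx, h, Fin.ext_iff])
    · exact ok_inr _ _
  ee_sr := eeB_sr
  pair i a := by rw [cvB, pairB]
  root a := by
    constructor
    · rintro ⟨w, i, rfl⟩
      obtain ⟨x, y, h1, -, h3⟩ := both w i
      by_cases h : x = y
      · exact ⟨x, inr (), ok_inr _ _, by rw [h3, if_pos h, mu_inr, add_zero]⟩
      · exact ⟨x, inl y, ok_inl.2 (h1.resolve_right h), by rw [h3, if_neg h, mu_inl]⟩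
    · rintro ⟨y, z, h1, h2⟩
      obtain ⟨b, h3, h4⟩ := allB y z h1
      rwa [eeB_inj (h2.trans h4.symm)]
  σ := TypeC.sg
  hσ i b := by rw [cvB, eeB_sr, wt_sgB]
  braid := TypeC.sg_braid
  par i j := by
    by_cases hij : i = j
    · rw [hij, Int.units_mul_self, one_pow]
    have hM : CoxeterMatrix.B m i j = if (i : ℕ) = m - 1 ∧ (j : ℕ) = m - 2 ∨ (j : ℕ) = m - 1 ∧ (i : ℕ) = m - 2
        then 4 else (if (j : ℕ) + 1 = i ∨ (i : ℕ) + 1 = j then 3 else 2) := if_neg hij
    have := i.2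
    have := j.2
    rw [hM]
    split_ifs with h1 h2
    · rw [show 4 = 2 * 2 from rfl, pow_mul, Int.units_sq]
    · rw [zB, zB, if_pos (by omega), if_pos (by omega)]
      rfl
    · exact Int.units_sq _
  all y z h := let ⟨a, _, e⟩ := allB y z h; ⟨a, e⟩

theorem finB (m : ℕ) : Finite (CoxeterMatrix.B m).Group := TypeC.finite_W (csB m)

theorem reflB_lt (i : Fin m) (hi : (i : ℕ) + 1 < m) :
    1 - vecMulVec (TypeC.bt i) (btB i) = spm (Equiv.swap i ⟨i + 1, hi⟩) 1 := by
  rw [← refl_sub fun h => by simpa using congrArg Fin.val h, btB_lt hi, TypeC.bt, TypeC.nx, dif_pos hi,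
    sub_eq_add_neg (Pi.single i 1), ← Pi.single_neg]
  rfl

theorem reflB_last (i : Fin m) (hi : ¬ (i : ℕ) + 1 < m) :
    1 - vecMulVec (TypeC.bt i) (btB i) = spm 1 (Pi.mulSingle i (-1)) := by
  rw [← refl_single i (mul_one 2), (btB_last hi).1, (btB_last hi).2, wt, ← Pi.single_add]
  rfl

variable {p : ℕ} [Fact p.Prime] {k : Type} [Field k] [CharP k p] [IsAlgClosed k] (h2 : (2 : k) ≠ 0)
  (hk : ∀ a : k, ∃ j, 0 < j ∧ a ^ p ^ j = a) {e : ℕ} (he : 0 < e)

variable (m) in
/-- **the datum of type `B`** -/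
noncomputable def datB : Datum p (MonoidHom.id _) ((osB m).sy_id.F k p e) ((osB m).G k) :=
  have := finB m
  (osB m).sy_id.dat (fun _ => h2) hk he

theorem datB_qs : (datB m h2 hk he).QS := fun _ _ h => h

theorem datB_Mx : (datB m h2 hk he).Mx = (p : ℤ) ^ e • 1 := rfl

theorem datB_wt (a : Fin m → ℤ) : (datB m h2 hk he).wt a = eeB a := rfl

theorem datB_cw (i : Fin m) : (datB m h2 hk he).cw i = TypeC.bt i := cvB i

theorem datB_g (a : Fin m → ℤ) : (datB m h2 hk he).g a = a := rfl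

theorem datB_τ (c : Fin m → kˣ) : (datB m h2 hk he).τ c = τ Unit k c := rfl

theorem datB_Fw (w : (datB m h2 hk he).W) : (datB m h2 hk he).Fw w = w := by
  have h := (datB m h2 hk he).Mx_Wm w
  rw [datB_Mx, smul_mul_assoc, mul_smul_comm, one_mul, mul_one] at h
  exact ((datB m h2 hk he).Wm_injective (smul_right_injective _
    (pow_ne_zero e (Nat.cast_ne_zero.2 (Fact.out : p.Prime).ne_zero)) h)).symm

variable (m) in
/-- the matrices of the Weyl group -/
noncomputable def wmB : (CoxeterMatrix.B m).Group →* Matrix (Fin m) (Fin m) ℤ :=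
  have := finB m
  (osB m).sy_id.wm (fun _ => h2) hk he

theorem WmB_eq (w : (datB m h2 hk he).W) : (datB m h2 hk he).Wm w = wmB m h2 hk he w := rfl

theorem wmB_simple (i : Fin m) : wmB m h2 hk he ((csB m).simple i) = 1 - vecMulVec (TypeC.bt i) (btB i) := by
  have := finB m
  exact ((osB m).sy_id.wm_simple (fun _ => h2) hk he i).trans
    (congrArg₂ (fun a b => 1 - vecMulVec a b) (cvB i) (eeB_sr i))

/-- every signed permutation matrix is the matrix of an element of the Weyl group -/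
theorem exists_WmB (π : Equiv.Perm (Fin m)) (s : Fin m → ℤˣ) : ∃ w, (datB m h2 hk he).Wm w = spm π s := by
  cases m with
  | zero => exact ⟨1, Matrix.ext fun (i : Fin 0) => i.elim0⟩
  | succ m =>
    exact spm_mem (MonoidHom.mrange (wmB (m + 1) h2 hk he))
      (perm_mem _ fun i hi => ⟨_, (wmB_simple h2 hk he i).trans (reflB_lt i hi)⟩) (i := Fin.last m)
      ⟨_, (wmB_simple h2 hk he _).trans (reflB_last _ (lt_irrefl _))⟩ π s

theorem WmB_spm (w : (datB m h2 hk he).W) :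
    ∃ (π : Equiv.Perm (Fin m)) (s : Fin m → ℤˣ), (datB m h2 hk he).Wm w = spm π s := by
  obtain ⟨π, s, -, h⟩ := exists_spm (csB m) (wmB m h2 hk he) (fun _ => True) trivial (fun _ _ _ _ => trivial) (fun i => by
    by_cases hi : (i : ℕ) + 1 < m
    · exact ⟨_, _, trivial, (wmB_simple h2 hk he i).trans (reflB_lt i hi)⟩
    · exact ⟨_, _, trivial, (wmB_simple h2 hk he i).trans (reflB_last i hi)⟩) w
  exact ⟨π, s, h⟩

/-- the roots -/
theorem rtB_iff {a : Fin m → ℤ} : (datB m h2 hk he).Rt a ↔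
    (∃ x y : Fin m × Bool, x.1 ≠ y.1 ∧ (datB m h2 hk he).wt a = wt x + wt y) ∨ ∃ x, (datB m h2 hk he).wt a = wt x :=
  ((osB m).root a).trans ⟨by
    rintro ⟨x, y | j, h1, h3⟩
    · exact .inl ⟨x, y, ok_inl.1 h1, h3⟩
    · exact .inr ⟨x, h3.trans (add_zero _)⟩, by
    rintro (⟨x, y, h1, h3⟩ | ⟨x, h3⟩)
    · exact ⟨x, inl y, ok_inl.2 h1, h3⟩
    · exact ⟨x, inr (), ok_inr _ _, h3.trans (add_zero _).symm⟩⟩

theorem exists_rtB {x y : Fin m × Bool} (h : x.1 ≠ y.1) :
    ∃ a, (datB m h2 hk he).Rt a ∧ (datB m h2 hk he).wt a = wt x + wt y := allB x (inl y) (ok_inl.2 h)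

theorem exists_rtB' (x : Fin m × Bool) : ∃ a, (datB m h2 hk he).Rt a ∧ (datB m h2 hk he).wt a = wt x :=
  let ⟨a, h1, h3⟩ := allB x (inr ()) (ok_inr _ _); ⟨a, h1, h3.trans (add_zero _)⟩

/-- the coroots of the long roots -/
theorem corB {a : Fin m → ℤ} {x y : Fin m × Bool} (h : x.1 ≠ y.1) (h1 : (datB m h2 hk he).wt a = wt x + wt y) :
    (datB m h2 hk he).cor a = wt x + wt y := by
  have := finB m
  exact ((osB m).sy_id.cor (fun _ => h2) hk he (ok_inl.2 h) h1).trans (cv_inl _ _)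

/-- the coroots of the short roots -/
theorem corB' {a : Fin m → ℤ} {x : Fin m × Bool} (h1 : (datB m h2 hk he).wt a = wt x) :
    (datB m h2 hk he).cor a = wt x + wt x := by
  have := finB m
  exact ((osB m).sy_id.cor (fun _ => h2) hk he (ok_inr x ()) (h1.trans (add_zero _).symm)).trans (cv_inr _ _)

end B

end Cfsg.Agent.KZ.Dat.Om
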