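import Cfsg.Agent.KZ.Dat.SmD
import Cfsg.Agent.ODD.C2.HN2a
import Cfsg.Agent.H390.PslSpec

/-!
# Minuscule weight systems with signs, IV : the finite levels (helper46, after helper89)

`m.G0 p k cs h e` : the group generated by the root elements over the field with `p ^ e` elements;
`G_inf_lv`, `exists_split`, `conj_G0`, `pow_mem_G0`; `exists_glmap`, `glmap_mem_lv`, `frob_glmap`, `lf_closure`.
-/

set_option autoImplicit false
set_option linter.unusedSectionVars false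

namespace Cfsg.Agent.KZ.Dat

open CoxeterSystem Cfsg.Agent.ChevalleyStructure.CoxeterGeom Cfsg.Agent.Tits.Roots Cfsg.Agent.Nodes.Coroot Matrix
  Cfsg.Agent.Nodes.Reps Cfsg.Agent.Nodes.BNOf Cfsg.Agent.Nodes.Bruhat Cfsg.Agent.LangThm Cfsg.Agent.DL Cfsg.Agent.DL.PP
  Cfsg.Agent.ODD.C2

section fin

variable {N : Type} [Fintype N] [DecidableEq N] {p : ℕ} [Fact p.Prime] {k : Type} [Field k] {F : Type*} [Field F]
  (f : F →+* k)

theorem glmap_inj : Function.Injective (GeneralLinearGroup.map (n := N) f) := fun _ _ h =>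
  Units.ext (Matrix.ext fun a b => f.injective (congrArg (fun g : GL N k => (g : Matrix N N k) a b) h))

theorem det_glmap (g : GL N F) :
    GeneralLinearGroup.det (GeneralLinearGroup.map f g) = Units.map (f : F →* k) (GeneralLinearGroup.det g) :=
  Units.ext (f.map_det _).symm

variable [CharP k p]

theorem det_frob (e : ℕ) (y : GL N k) : GeneralLinearGroup.det (frob p e y) = GeneralLinearGroup.det y ^ p ^ e :=
  (det_glmap _ y).trans (Units.ext (iterateFrobenius_def p e _))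

/-- field automorphisms of the small field -/
theorem frob_glmap {σ : F →+* F} {j : ℕ} (hσ : ∀ a, σ a = a ^ p ^ j) (g : GL N F) :
    frob p j (GeneralLinearGroup.map f g) = GeneralLinearGroup.map f (GeneralLinearGroup.map σ g) :=
  Units.ext (Matrix.ext fun a b => (frob_apply j _ a b).trans ((map_pow f _ _).symm.trans (congrArg f (hσ _).symm)))

theorem fix_frP [PerfectRing k p] (e : ℕ) : fix (1 * frP N p k e) = lv N p k e := rfl

/-- a unit of `p`-power order is trivial -/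
theorem eq_one_of_pow {a : kˣ} {j : ℕ} (h : a ^ p ^ j = 1) : a = 1 :=
  Units.ext ((iterateFrobenius k p j).injective ((iterateFrobenius_def p j _).trans ((congrArg Units.val h).trans
    (map_one _).symm)))

variable [Fintype F] {e : ℕ}

theorem glmap_mem_lv (hF : Fintype.card F = p ^ e) (g : GL N F) : GeneralLinearGroup.map f g ∈ lv N p k e :=
  frob_glmap f (σ := RingHom.id F) (fun a => by rw [← hF, FiniteField.pow_card]; rfl) g

theorem exists_glmap (hF : Fintype.card F = p ^ e) {y : GL N k} (hy : y ∈ lv N p k e) :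
    ∃ g : GL N F, GeneralLinearGroup.map f g = y := by
  have h1 : ∀ a b, ∃ t, f t = (y : Matrix N N k) a b := fun a b => H390.PslSpec.mem_range_of_pow_card f (by
    rw [hF, ← frob_apply e y a b]
    exact congrArg (fun g : GL N k => (g : Matrix N N k) a b) hy)
  choose A hA using h1
  have h2 : f.mapMatrix (of A) = (y : Matrix N N k) := Matrix.ext hA
  refine ⟨GeneralLinearGroup.mkOfDetNeZero (of A) fun h => GeneralLinearGroup.det_ne_zero y ?_, Units.ext h2⟩
  rw [← h2, ← RingHom.map_det, h, map_zero]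

end fin

/-- the algebraic closure of a finite field -/
theorem lf_closure (p : ℕ) [Fact p.Prime] (F : Type) [Field F] [Finite F] [CharP F p] (a : AlgebraicClosure F) :
    ∃ j, 0 < j ∧ a ^ p ^ j = a := by
  have := IntermediateField.adjoin.finiteDimensional (Algebra.IsIntegral.isIntegral (R := F) a)
  have : Finite (IntermediateField.adjoin F {a}) := Module.finite_of_finite F
  have := Fintype.ofFinite (IntermediateField.adjoin F {a})
  have : CharP (IntermediateField.adjoin F {a}) p := charP_of_injective_algebraMap (algebraMap F _).injective p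
  obtain ⟨n, -, hn⟩ := FiniteField.card (IntermediateField.adjoin F {a}) p
  exact ⟨n, n.pos, congrArg Subtype.val (hn ▸ FiniteField.pow_card (IntermediateField.AdjoinSimple.gen F a))⟩

namespace Sm

variable {I : Type} [Fintype I] [DecidableEq I] {A : I → I → ℤ} {R N : Type} [Fintype R] [DecidableEq R] [Fintype N]
  [DecidableEq N] (m : Sm A R N) {p : ℕ} [Fact p.Prime] {k : Type} [Field k] [CharP k p]
  {W : Type} [Group W] [Finite W] {M : CoxeterMatrix I} {cs : CoxeterSystem M W} {h : IsCartan M A}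

variable (p k cs h) in
/-- the group generated by the root elements over the field with `p ^ e` elements -/
noncomputable def G0 (e : ℕ) : Subgroup (GL N k) := RGD.Sup (fun a => m.X k a ⊓ lv N p k e) {x | IsRoot cs h x}

theorem x_mem_G0 {a : I → ℤ} (ha : IsRoot cs h a) {e : ℕ} {u : k} (hu : u ^ p ^ e = u) :
    m.x k a u ∈ m.G0 p k cs h e :=
  RGD.le_Sup (X := fun a => m.X k a ⊓ lv N p k e) (S := {x | IsRoot cs h x}) ha ((m.mem_Xe ha).2 ⟨u, (iterateFrobenius_def _ _ _).trans hu, rfl⟩)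

theorem G0_le {e : ℕ} {H : Subgroup (GL N k)}
    (hx : ∀ a, IsRoot cs h a → ∀ u : k, u ^ p ^ e = u → m.x k a u ∈ H) : m.G0 p k cs h e ≤ H :=
  RGD.Sup_le fun a ha y hy => by
    obtain ⟨u, hu, rfl⟩ := (m.mem_Xe ha).1 hy
    exact hx a ha u ((iterateFrobenius_def _ _ _).symm.trans hu)

theorem G0_le_G (e : ℕ) : m.G0 p k cs h e ≤ m.G k cs h := m.G0_le fun _ ha u _ => m.x_mem_G ha u

theorem G0_le_lv (e : ℕ) : m.G0 p k cs h e ≤ lv N p k e := m.G0_le fun _ ha _ hu => (m.x_mem_lv ha).2 ((iterateFrobenius_def _ _ _).trans hu)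

theorem τ_conj_G0 {e : ℕ} {c : R → kˣ} (hc : c ^ p ^ e = c) {g : GL N k} (hg : g ∈ m.G0 p k cs h e) :
    m.τ k c * g * (m.τ k c)⁻¹ ∈ m.G0 p k cs h e := by
  have : m.G0 p k cs h e ≤ (m.G0 p k cs h e).comap (MulAut.conj (m.τ k c)).toMonoidHom := m.G0_le fun a ha u hu => by
    show m.τ k c * m.x k a u * (m.τ k c)⁻¹ ∈ m.G0 p k cs h e
    rw [m.τ_x ha]
    refine m.x_mem_G0 ha ?_
    rw [mul_pow, hu, ← Units.val_pow_eq_pow_val, ← map_pow, hc]
  exact this hg

variable {m} (H : m.Ok cs h) [IsAlgClosed k] (hk : ∀ a : k, ∃ j, 0 < j ∧ a ^ p ^ j = a) {e : ℕ} (he : 0 < e)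
include H hk he

theorem Ok.G_inf_lv : m.G k cs h ⊓ lv N p k e = ((m.τ k).range ⊓ lv N p k e) ⊔ m.G0 p k cs h e := by
  refine le_antisymm ?_ (sup_le (inf_le_inf_right _ fun _ ⟨c, hc⟩ => hc ▸ m.τ_mem_G c)
    (le_inf (m.G0_le_G e) (m.G0_le_lv e)))
  let D := H.dat hk he
  have hx : ∀ a, D.Rt a → ∀ u, (1 * frP N p k e) (D.x a u) = D.x a (u ^ p ^ e) := fun a ha u =>
    (frP_apply e _).trans (m.frob_x ha e u)
  have hS : ∀ {B : Set (I → ℤ)}, (∀ a ∈ B, D.Rt a) → ∀ {y}, y ∈ D.S B → (1 * frP N p k e) y ∈ D.S B := by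
    intro B hB
    have : D.S B ≤ (D.S B).comap (1 * frP N p k e).toMonoidHom := RGD.Sup_le fun a ha y hy => by
      obtain ⟨u, rfl⟩ := (D.mem_X a (hB a ha) y).1 hy
      show (1 * frP N p k e) _ ∈ D.S B
      rw [hx a (hB a ha)]
      exact RGD.le_Sup ha (D.x_mem (hB a ha) _)
    exact fun {_} hy => this hy
  have hU : ∀ {B : Set (I → ℤ)}, D.Uni B → ∀ {y}, y ∈ D.S B → (1 * frP N p k e) y = y → y ∈ m.G0 p k cs h e := by
    intro B hB y h1 h2
    have h3 : y ∈ D.S B ⊓ fix (1 * frP N p k e) := ⟨h1, h2⟩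
    rw [S_inf_fix D hx hB, fix_frP] at h3
    exact RGD.Sup_mono (S' := {x | IsRoot cs h x}) (fun a ha => hB.root a ha) h3
  have hn : Subgroup.closure (Set.range D.n) ≤ ((m.τ k).range ⊓ lv N p k e) ⊔ m.G0 p k cs h e := by
    rw [Subgroup.closure_le]
    rintro _ ⟨i, rfl⟩
    exact NN_le_GG (H.rgd he) ⟨_, rp_simple _ _ i⟩
  have hl : ((m.τ k).range ⊓ lv N p k e) ⊔ m.G0 p k cs h e ≤ fix (1 * frP N p k e) := by
    rw [fix_frP]
    exact sup_le inf_le_right (m.G0_le_lv e)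
  rintro y ⟨h1, h2⟩
  obtain ⟨w, u, hu, n, hn', v, hv, rfl⟩ := D.exists_normal_form h1
  obtain ⟨n', h4, h5⟩ := D.exists_rp w
  have h6 := h4.unique hn'
  have h7 : D.Rp w ((1 * frP N p k e) n) := by
    have e1 : (1 * frP N p k e) n = n' * (1 * frP N p k e) (n'⁻¹ * n) := by
      rw [map_mul, map_inv, mem_fix.1 (hl (hn h5)), mul_inv_cancel_left]
    obtain ⟨c, hc⟩ := h6
    rw [e1, ← hc, show (1 * frP N p k e) (m.τ k c) = _ from D.F_τ c]
    exact h4.mul_mem_right (D.τ_mem _)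
  have h3 : (1 * frP N p k e) (u * n * v) = u * n * v := by rwa [← fix_frP] at h2
  rw [map_mul, map_mul] at h3
  obtain ⟨-, e1, e2, e3⟩ := D.normal_form_unique (hS (fun _ h => h.1) hu) hu h7 hn' (hS (fun _ h => h.1) hv) hv h3
  refine mul_mem (mul_mem (Subgroup.mem_sup_right (hU D.uni_pos hu e1)) ?_)
    (Subgroup.mem_sup_right (hU (D.uni_NW w) hv e3))
  rw [← mul_inv_cancel_left n' n]
  refine mul_mem (hn h5) (Subgroup.mem_sup_left ⟨h6, ?_⟩)
  rw [← fix_frP]
  exact (fix _).mul_mem ((fix _).inv_mem (hl (hn h5))) e2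

theorem Ok.exists_split {y : GL N k} (h1 : y ∈ m.G k cs h) (h2 : y ∈ lv N p k e) :
    ∃ g ∈ m.G0 p k cs h e, ∃ c : R → kˣ, c ^ p ^ e = c ∧ y = g * m.τ k c := by
  have h3 : y ∈ ((m.τ k).range ⊓ lv N p k e) ⊔ m.G0 p k cs h e := by
    rw [← H.G_inf_lv hk he]
    exact ⟨h1, h2⟩
  let K : Subgroup (GL N k) :=
    { carrier := {y | ∃ g ∈ m.G0 p k cs h e, ∃ c : R → kˣ, c ^ p ^ e = c ∧ y = g * m.τ k c}
      one_mem' := ⟨1, one_mem _, 1, one_pow _, by simp⟩
      mul_mem' := by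
        rintro _ _ ⟨g, hg, c, hc, rfl⟩ ⟨g', hg', c', hc', rfl⟩
        exact ⟨g * (m.τ k c * g' * (m.τ k c)⁻¹), mul_mem hg (m.τ_conj_G0 hc hg'), c * c', by rw [mul_pow, hc, hc'],
          by rw [map_mul]; group⟩
      inv_mem' := by
        rintro _ ⟨g, hg, c, hc, rfl⟩
        have hc' : c⁻¹ ^ p ^ e = c⁻¹ := by rw [inv_pow, hc]
        exact ⟨_, m.τ_conj_G0 hc' (inv_mem hg), c⁻¹, hc', by rw [map_inv]; group⟩ }
  have h4 : ((m.τ k).range ⊓ lv N p k e) ⊔ m.G0 p k cs h e ≤ K := sup_le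
    (by
      rintro _ ⟨⟨c, rfl⟩, hc⟩
      exact ⟨1, one_mem _, c, m.τ_mem_lv.1 hc, (one_mul _).symm⟩)
    fun g hg => ⟨g, hg, 1, one_pow _, by simp⟩
  exact h4 h3

theorem Ok.conj_G0 {y g : GL N k} (h1 : y ∈ m.G k cs h) (h2 : y ∈ lv N p k e) (hg : g ∈ m.G0 p k cs h e) :
    y * g * y⁻¹ ∈ m.G0 p k cs h e := by
  obtain ⟨g', hg', c, hc, rfl⟩ := H.exists_split hk he h1 h2
  have := mul_mem (mul_mem hg' (m.τ_conj_G0 hc hg)) (inv_mem hg')
  simpa [mul_assoc] using this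

theorem Ok.pow_mem_G0 {y : GL N k} (h1 : y ∈ m.G k cs h) (h2 : y ∈ lv N p k e) : y ^ (p ^ e - 1) ∈ m.G0 p k cs h e := by
  obtain ⟨g, hg, c, hc, rfl⟩ := H.exists_split hk he h1 h2
  have h3 : ∀ j : ℕ, ∃ g' ∈ m.G0 p k cs h e, (g * m.τ k c) ^ j = g' * m.τ k (c ^ j) := by
    intro j
    induction j with
    | zero => exact ⟨1, one_mem _, by simp⟩
    | succ j ih =>
      obtain ⟨g', hg', e1⟩ := ih
      refine ⟨g' * (m.τ k (c ^ j) * g * (m.τ k (c ^ j))⁻¹), mul_mem hg' (m.τ_conj_G0 ?_ hg), ?_⟩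
      · rw [← pow_mul, mul_comm, pow_mul, hc]
      · rw [pow_succ, e1, pow_succ, map_mul]; group
  obtain ⟨g', hg', e1⟩ := h3 (p ^ e - 1)
  have h4 : c ^ (p ^ e - 1) = 1 := by
    rw [← mul_left_inj c, ← pow_succ, Nat.sub_add_cancel (Nat.one_le_pow _ _ (Fact.out : p.Prime).pos), hc, one_mul]
  rwa [e1, h4, map_one, mul_one]

end Sm

end Cfsg.Agent.KZ.Dat
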