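import Cfsg.Agent.KZ.Dat.SpA
import Cfsg.Agent.KZ.Dat.SmF
import Cfsg.Agent.KZ.Dat.AuOf
import Cfsg.Agent.LieClassical.SympCenter
import Cfsg.Agent.S2693

/-!
# The symplectic groups as data, II : the datum and the situation (helper30)

* `datC n hk he` : the datum of `Sp_(2n)`, `FC`, `GC`; `exists_WmC`, `WmC_spm`, `rtC_iff`, `exists_rtC`, `corC`;
* `GC_eq`, `GF_C`, `eqvC` : the groups; `covC`, `sitC_of`, `sitC` : the situation of `PSp n F`; `hasC`.
-/

set_option autoImplicit false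
set_option maxHeartbeats 200000
set_option linter.unusedSectionVars false

namespace Cfsg.Agent.KZ.Dat

open CoxeterSystem Cfsg.Agent.ChevalleyStructure.CoxeterGeom Cfsg.Agent.Tits.Roots Matrix Cfsg.Agent.ODD.C2
  Cfsg.Agent.Nodes.TypeC Cfsg.Agent.Nodes.TypeCForm Cfsg.Agent.ClassicalGeometry.SympBasic Cfsg.Agent.LangThm
  Cfsg.Agent.DL Cfsg.Agent.DL.PP Cfsg.Agent.KZ.Lie Cfsg.Agent.Nodes.Coroot

variable {n : ℕ} {k : Type} [Field k] {F : Type} [Field F] (f : F →+* k)

theorem chr_wtC (a : Fin n × Bool) (c : Fin n → kˣ) : chr (wt a) c = if a.2 then c a.1 else (c a.1)⁻¹ := by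
  obtain ⟨i, _ | _⟩ := a
  · show chr (Pi.single i (-1)) c = (c i)⁻¹
    rw [Pi.single_neg, chr_neg, chr_single]
  · exact chr_single i c

theorem coe_τC (c : Fin n → kˣ) :
    ((smC n).τ k c).1 = diagonal fun a : Fin n × Bool => ((if a.2 then c a.1 else (c a.1)⁻¹ : kˣ) : k) := by
  rw [Mn.coe_τ]
  exact congrArg _ (funext fun a => congrArg _ (chr_wtC a c))

theorem τC_const {ε : kˣ} (h : ε * ε = 1) : ((smC n).τ k fun _ => ε).1 = (ε : k) • 1 := by
  rw [coe_τC, smul_one_eq_diagonal, inv_eq_of_mul_eq_one_right h]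
  simp

/-- diagonal matrices -/
def dgC (a b : Fin n → F) : Matrix (Fin n ⊕ Fin n) (Fin n ⊕ Fin n) F := diagonal (Sum.elim a b)

theorem form_dgC {a b : Fin n → F} {l : F} (h : ∀ i, a i * b i = l) (u v : Fin n ⊕ Fin n → F) :
    sympForm n F (dgC a b *ᵥ u) (dgC a b *ᵥ v) = l * sympForm n F u v := by
  rw [sympForm_eq_sum, sympForm_eq_sum, Finset.mul_sum]
  refine Finset.sum_congr rfl fun i _ => ?_
  simp only [dgC, mulVec_diagonal, Sum.elim_inl, Sum.elim_inr]
  linear_combination (u (Sum.inr i) * v (Sum.inl i) - u (Sum.inl i) * v (Sum.inr i)) * h i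

theorem ioM_dgC (a b : Fin n → F) : ioM f (dgC a b) = diagonal fun x => if x.2 then f (a x.1) else f (b x.1) := by
  ext x y
  rw [ioM_apply, dgC, diagonal_apply, diagonal_apply, apply_ite f, map_zero]
  refine if_congr (kaS n).injective.eq_iff ?_ rfl
  obtain ⟨i, _ | _⟩ := x <;> rfl

theorem ioM_inj : Function.Injective (ioM (n := n) f) := fun g g' h => by
  ext a c
  obtain ⟨a, rfl⟩ := (kaS n).surjective a
  obtain ⟨c, rfl⟩ := (kaS n).surjective c
  apply f.injective
  rw [← ioM_apply, ← ioM_apply, h]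

theorem ioS_rtS {x : Fin n → ℤ} (hx : IsRoot (csC n) (isCartan n) x) {a b : Fin n × Bool} (hab : Ok a b)
    (e : ee x = wt a + wt b) (s : F) :
    ioS f (rtS a b s) = (smC n).x k x (f (((epC b * sC a (ng b) : ℤˣ) : ℤ) * s)) := by
  ext c d
  rw [ioS_root f hab e, (smC n).x_apply hx, eC_apply]
  congr 1
  exact (apply_ite (fun z : ℤ => _ * (z : k)) _ _ _).trans (if_congr Iff.rfl rfl (by rw [Int.cast_zero, mul_zero]))

variable (n k) in
/-- the algebraic group -/
noncomputable abbrev GC : Subgroup (GL (Fin n × Bool) k) := (smC n).G k (csC n) (isCartan n)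

/-- **the algebraic group is `Sp_(2n)(k)`** -/
theorem GC_eq : GC n k = (ioS (RingHom.id k)).range := by
  refine le_antisymm ((smC n).G_le (fun c => ?_) fun x hx u => ?_) ?_
  · refine ⟨⟨dgC (fun i => (c i : k)) fun i => ((c i)⁻¹ : kˣ), mem_symplecticGroup_iff.2 fun u v => ?_⟩, Units.ext ?_⟩
    · rw [form_dgC fun i => (c i).mul_inv, one_mul]
    · rw [coe_ioS, ioM_dgC, coe_τC]
      exact congrArg _ (funext fun a => by split_ifs <;> rfl)
  · obtain ⟨a, b, hab, e⟩ := exists_of_isRoot (csC n) hx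
    refine ⟨rtS a b (((epC b * sC a (ng b) : ℤˣ) : ℤ) * u), ?_⟩
    rw [ioS_rtS _ hx hab e, ← mul_assoc, ← Int.cast_mul, ← Units.val_mul, Int.units_mul_self, Units.val_one, Int.cast_one,
      one_mul, RingHom.id_apply]
  · rw [MonoidHom.range_eq_map, Subgroup.map_le_iff_le_comap, top_le_iff]
    refine eq_top_of_rtS _ fun a b hab s => ?_
    obtain ⟨x, hx, e⟩ := rt_of_ok (cs := csC n) hab
    rw [Subgroup.mem_comap, ioS_rtS _ hx hab e]
    exact (smC n).x_mem_G hx _

theorem ioS_mem (s : symplecticGroup (Fin n) F) : ioS f s ∈ GC n k :=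
  GC_eq.ge ⟨⟨s.1.map f, SymplecticGroup.map_mem s.2 f⟩, Units.ext (Matrix.ext fun _ _ => rfl)⟩

/-- the kernel of the projection -/
theorem kerC (s : symplecticGroup (Fin n) F) :
    (QuotientGroup.mk s : PSp n F) = 1 ↔ ∀ y ∈ GC n k, y * ioS f s = ioS f s * y := by
  rw [QuotientGroup.eq_one_iff]
  refine ⟨fun h y _ => Units.ext ?_, fun h => Subgroup.mem_center_iff.2 fun g => ioS_inj f ?_⟩
  · obtain ⟨a, ha⟩ := (LieClassical.SympCenter.mem_center_iff n s).1 h
    have h1 : ioM f s.1 = f a • 1 := by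
      ext x y
      rw [ioM_apply, ha, Matrix.smul_apply, Matrix.smul_apply, one_apply, one_apply, smul_eq_mul, smul_eq_mul, map_mul,
        apply_ite f, map_one, map_zero, if_congr (kaS n).injective.eq_iff rfl rfl]
    rw [Units.val_mul, Units.val_mul, coe_ioS, h1, mul_smul_comm, smul_mul_assoc, mul_one, one_mul]
  · rw [map_mul, map_mul, h _ (ioS_mem f g)]

variable {p : ℕ} [Fact p.Prime] [CharP k p] [IsAlgClosed k]

variable (n p k) in
/-- the Frobenius map -/
noncomputable abbrev FC (e : ℕ) : MulAut (GL (Fin n × Bool) k) := 1 * frP (Fin n × Bool) p k e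

theorem frP_ioS {σ : F → F} {j : ℕ} (hσ : ∀ a, σ a = a ^ p ^ j) (s : symplecticGroup (Fin n) F) :
    (frP (Fin n × Bool) p k j (ioS f s) : Matrix _ _ k) = ioM f (s.1.map σ) := by
  ext a c
  rw [frP_apply, frob_apply, coe_ioS, ioM_apply, ioM_apply, Matrix.map_apply, hσ, map_pow]

variable (hk : ∀ a : k, ∃ j, 0 < j ∧ a ^ p ^ j = a) {e : ℕ} (he : 0 < e)

variable (n) in
/-- **the datum of type `C_n`** -/
noncomputable def datC : Datum p (MonoidHom.id (GL (Fin n × Bool) k)) (FC n k p e) (GC n k) := okC.dat hk he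

theorem datC_qs : (datC n hk he).QS := okC.dat_qs hk he

theorem datC_Mx : (datC n hk he).Mx = (p : ℤ) ^ e • 1 := rfl

theorem datC_wt (a : Fin n → ℤ) : (datC n hk he).wt a = ee a := rfl

theorem datC_cw (i : Fin n) : (datC n hk he).cw i = cwC i := rfl

theorem datC_g (a : Fin n → ℤ) : (datC n hk he).g a = a := rfl

theorem datC_τ (c : Fin n → kˣ) : (datC n hk he).τ c = (smC n).τ k c := rfl

theorem datC_Fw (w : (datC n hk he).W) : (datC n hk he).Fw w = w := by
  have h := (datC n hk he).Mx_Wm w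
  rw [datC_Mx, smul_mul_assoc, mul_smul_comm, one_mul, mul_one] at h
  exact ((datC n hk he).Wm_injective (smul_right_injective _
    (pow_ne_zero e (Nat.cast_ne_zero.2 (Fact.out : p.Prime).ne_zero)) h)).symm

variable (n) in
/-- the matrices of the Weyl group -/
noncomputable def wmC : (CoxeterMatrix.B n).Group →* Matrix (Fin n) (Fin n) ℤ := okC.wm hk he (smC n).sy_one

theorem WmC_eq (w : (datC n hk he).W) : (datC n hk he).Wm w = wmC n hk he w := rfl

theorem wmC_simple (i : Fin n) : wmC n hk he ((csC n).simple i) = 1 - vecMulVec (cwC i) (ee (sr i)) :=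
  okC.wm_simple hk he _ i

/-- every signed permutation matrix is the matrix of an element of the Weyl group -/
theorem exists_WmC (π : Equiv.Perm (Fin n)) (s : Fin n → ℤˣ) : ∃ w, (datC n hk he).Wm w = spm π s := by
  cases n with
  | zero => exact ⟨1, Matrix.ext fun (i : Fin 0) => i.elim0⟩
  | succ n =>
    exact spm_mem (MonoidHom.mrange (wmC (n + 1) hk he))
      (perm_mem _ fun i hi => ⟨_, (wmC_simple hk he i).trans (reflC_lt i hi)⟩) (i := Fin.last n)
      ⟨_, (wmC_simple hk he _).trans (reflC_last _ (lt_irrefl _))⟩ π s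

theorem WmC_spm (w : (datC n hk he).W) : ∃ (π : Equiv.Perm (Fin n)) (s : Fin n → ℤˣ), (datC n hk he).Wm w = spm π s := by
  obtain ⟨π, s, -, h⟩ := exists_spm (csC n) (wmC n hk he) (fun _ => True) trivial (fun _ _ _ _ => trivial) (fun i => by
    by_cases hi : (i : ℕ) + 1 < n
    · exact ⟨_, _, trivial, (wmC_simple hk he i).trans (reflC_lt i hi)⟩
    · exact ⟨_, _, trivial, (wmC_simple hk he i).trans (reflC_last i hi)⟩) w
  exact ⟨π, s, h⟩

/-- the roots -/
theorem rtC_iff {a : Fin n → ℤ} : (datC n hk he).Rt a ↔ ∃ x y, Ok x y ∧ (datC n hk he).wt a = wt x + wt y :=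
  isRoot_iff (cs := csC n)

theorem exists_rtC {x y : Fin n × Bool} (h : Ok x y) : ∃ a, (datC n hk he).Rt a ∧ (datC n hk he).wt a = wt x + wt y :=
  rt_of_ok (cs := csC n) h

/-- the coroots -/
theorem corC {a : Fin n → ℤ} (ha : (datC n hk he).Rt a) {x y : Fin n × Bool} (h : Ok x y)
    (h1 : (datC n hk he).wt a = wt x + wt y) : (datC n hk he).cor a = if x = y then wt x else wt x + wt y := by
  refine funext fun j : Fin n => ?_
  obtain ⟨b, hb⟩ := exists_long (csC n) (j, true)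
  have h2 : ∀ v, ip (ee b) v = 2 * v j := fun v => by
    rw [hb, ip_add_left, ip_comm, ip_wt_right, two_mul]
    exact congrArg₂ _ (mul_one _) (mul_one _)
  have h3 : ip (ee b) ((datC n hk he).cor a) = cpr (csC n) (isCartan n) b a := (datC n hk he).pair_cor ha b
  have h4 : ee a = wt x + wt y := h1
  refine mul_left_cancel₀ two_ne_zero ((h2 _).symm.trans (h3.trans (cprC ha ?_)))
  rw [h2, h4, ip_two, ip_wt_self, ip_wt_self]
  split_ifs with h5
  · rw [← h5, ip_wt_self, Pi.add_apply]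
    ring
  · rw [ip_wt_ne (h.resolve_right h5), ip_wt_ne (h.resolve_right h5).symm]
    ring

/-! ### the finite group -/

variable [Fintype F] (hF : Fintype.card F = p ^ e)
include hF

omit [IsAlgClosed k] [CharP k p] [Fact p.Prime] in
theorem pow_f (a : F) : f a ^ p ^ e = f a := by rw [← map_pow, ← hF, FiniteField.pow_card]

/-- **`G ^ F = Sp_(2n)(q)`** -/
theorem GF_C : GF (FC n k p e) (GC n k) = (ioS f).range := by
  refine le_antisymm (fun y hy => ?_) ?_
  · obtain ⟨s, rfl⟩ := GC_eq.le hy.1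
    have h1 : ∀ a b, ∃ t, f t = s.1 a b := fun a b => H390.PslSpec.mem_range_of_pow_card f (by
      obtain ⟨a, rfl⟩ := (kaS n).surjective a
      obtain ⟨b, rfl⟩ := (kaS n).surjective b
      rw [hF]
      exact (frob_apply e _ a b).symm.trans (congrArg (fun g : GL _ k => (g : Matrix _ _ k) a b) hy.2))
    choose t ht using h1
    have h2 : (of t).map f = s.1 := Matrix.ext ht
    refine ⟨⟨of t, SymplecticGroup.mem_iff.2 (Matrix.map_injective f.injective ?_)⟩, Units.ext (Matrix.ext fun a b => ht _ _)⟩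
    show (of t * J _ F * (of t)ᵀ).map f = (J _ F).map f
    rw [Matrix.map_mul, Matrix.map_mul, transpose_map, h2, map_J, SymplecticGroup.mem_iff.1 s.2]
  · rintro _ ⟨s, rfl⟩
    exact ⟨ioS_mem f s, Units.ext (frP_ioS f (σ := id) (fun a => by rw [← hF, FiniteField.pow_card]; rfl) s)⟩

/-- `Sp_(2n)(q) ≃* G ^ F` -/
noncomputable def eqvC : symplecticGroup (Fin n) F ≃* GF (FC n k p e) (GC n k) :=
  (MonoidHom.ofInjective (ioS_inj f)).trans (MulEquiv.subgroupCongr (GF_C f hF).symm)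

theorem coe_eqvC (s : symplecticGroup (Fin n) F) : (eqvC f hF s : GL (Fin n × Bool) k) = ioS f s := rfl

/-- the automorphisms which are induced by semisimilitudes are lifted -/
theorem lfC [CharP F p] {g : GL (Fin n ⊕ Fin n) F} {σ : F ≃+* F} (hg : g ∈ GSp n F) {β : MulAut (PSp n F)}
    (h : IsInducedBySemilinearPSp g σ β) : Lf (datC n hk he) (AdmQ p) (ioS f) (QuotientGroup.mk' _) β := by
  obtain ⟨l, hl⟩ := hg
  obtain ⟨j, hj⟩ := exists_frob p σ
  obtain ⟨r, hr⟩ := IsAlgClosed.exists_pow_nat_eq (f l) two_pos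
  have h0 : r ≠ 0 := fun h => l.ne_zero (f.injective (by rw [← hr, h, map_zero, zero_pow two_ne_zero]))
  lift r to kˣ using h0.isUnit
  let s : symplecticGroup (Fin n) F := ⟨g.1 * dgC (fun _ => ((l⁻¹ : Fˣ) : F)) fun _ => 1, mem_symplecticGroup_iff.2 fun u v => by
    rw [← mulVec_mulVec, ← mulVec_mulVec, hl, form_dgC fun _ => mul_one _, Units.mul_inv_cancel_left]⟩
  have h1 : r⁻¹ * r ^ p ^ e * (r⁻¹ * r ^ p ^ e) = 1 := Units.ext (by
    rw [← sq, mul_pow, ← pow_mul, mul_comm _ 2, pow_mul, inv_pow]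
    simp [hr, pow_f f hF])
  have h2 : Au (datC n hk he) (MulAut.conj ((smC n).τ k fun _ => r)) 1 := au_conj (D := datC n hk he) fun y => by
    show ((smC n).τ k _)⁻¹ * frob p e ((smC n).τ k _) * y = y * (((smC n).τ k _)⁻¹ * frob p e ((smC n).τ k _))
    rw [(smC n).frob_τ, ← map_inv, ← map_mul]
    apply Units.ext
    rw [Units.val_mul, Units.val_mul]
    exact τC_const (n := n) h1 ▸ (smul_mul_assoc _ _ _).trans (by rw [mul_smul_comm, mul_one, one_mul])
  have h3 := au_mul h2 (okC.au_fr hk he (smC n).sy_one j)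
  have h4 : ioS f s ∈ GF (FC n k p e) (GC n k) := (GF_C f hF).ge ⟨s, rfl⟩
  have h5 : ((ioS f s * (smC n).τ k fun _ => r : GL _ k) : Matrix _ _ k) = ((r⁻¹ : kˣ) : k) • ioM f g.1 := by
    rw [Units.val_mul, coe_ioS, map_mul, mul_assoc, ioM_dgC, coe_τC, diagonal_mul_diagonal, ← mul_one (ioM f g.1),
      ← mul_smul_comm, mul_one, smul_one_eq_diagonal]
    congr 2
    funext a
    split_ifs
    · rw [Units.val_inv_eq_inv_val, map_inv₀, ← hr, sq, _root_.mul_inv_rev, mul_assoc, Units.inv_mul', mul_one,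
        Units.val_inv_eq_inv_val]
    · rw [map_one, one_mul]
  refine ⟨_, h4, _, _, h3, ⟨j, one_mul _⟩, fun t => ?_⟩
  obtain ⟨t', ht⟩ := (GF_C f hF).le (mul_mem (mul_mem h4 (au_GF h3 ((GF_C f hF).ge ⟨t, rfl⟩))) (inv_mem h4))
  refine ⟨t', ht, (h t t' ?_).symm⟩
  have h6 : ioS f t' * (ioS f s * (smC n).τ k fun _ => r) =
      (ioS f s * (smC n).τ k fun _ => r) * frP (Fin n × Bool) p k j (ioS f t) := by
    rw [ht, MulAut.mul_apply, MulAut.conj_apply]
    group
  have h7 := congrArg Units.val h6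
  rw [Units.val_mul (ioS f t'), Units.val_mul _ (frP _ p k j _), h5, frP_ioS f hj, coe_ioS, mul_smul_comm, smul_mul_assoc,
    ← map_mul, ← map_mul] at h7
  rw [← ioM_inj f (smul_right_injective _ (r⁻¹).ne_zero h7), mul_assoc, Units.mul_inv, mul_one]

variable [CharP F p]

/-- the covering `Sp → PSp` -/
noncomputable def covC (h : gammaPSp n F = ⊤) : Cov (datC n hk he) (AdmQ p) (symplecticGroup (Fin n) F) (PSp n F) where
  qs := datC_qs hk he
  adm_one := admQ_one p
  ι := ioS f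
  inj := ioS_inj f
  mem s := (GF_C f hF).ge ⟨s, rfl⟩
  comm _ ha _ hb := (GF_C f hF).le (mul_mem (mul_mem (mul_mem ha hb) (inv_mem ha)) (inv_mem hb))
  uni _ hu _ := (GF_C f hF).le hu
  q := QuotientGroup.mk' _
  surj := QuotientGroup.mk'_surjective _
  ker := kerC f
  aut σ := lf_of_closure (admQ_one p) AdmQ.mul (E := {β | ∃ g σ, g ∈ GSp n F ∧ IsInducedBySemilinearPSp g σ β})
    (fun _ ⟨_, _, h1, h2⟩ => lfC f hk he hF h1 h2) (h.ge (Subgroup.mem_top σ))

/-- **the situation of `PSp n F`** -/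
noncomputable def sitC_of (h : gammaPSp n F = ⊤) : Sit (datC n hk he) (AdmQ p) (PSp n F) := (covC f hk he hF h).sit

theorem sitC_H0 (h : gammaPSp n F = ⊤) : (sitC_of f hk he hF h).H0 = GF (FC n k p e) (GC n k) := (GF_C f hF).symm

theorem sitC_π (h : gammaPSp n F = ⊤) (s : symplecticGroup (Fin n) F) :
    (sitC_of f hk he hF h).π ⟨ioS f s, s, rfl⟩ = QuotientGroup.mk s := (covC f hk he hF h).sit_π s

/-- the kernel of `π` has exponent two -/
theorem sitC_ker (h : gammaPSp n F = ⊤) (z : (sitC_of f hk he hF h).H0) (hz : (sitC_of f hk he hF h).π z = 1) :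
    z ^ 2 = 1 := by
  obtain ⟨_, s, rfl⟩ := z
  obtain ⟨a, ha⟩ := (LieClassical.SympCenter.mem_center_iff n s).1
    ((QuotientGroup.eq_one_iff s).1 ((sitC_π f hk he hF h s).symm.trans hz))
  have h1 : s ^ 2 = 1 := by
    rcases n with _ | n
    · exact Subtype.ext (Subsingleton.elim _ _)
    · apply Subtype.ext
      show s.1 ^ 2 = 1
      rw [ha, smul_pow, one_pow, sq, LieClassical.SympCenter.sq_eq_one_of_smul_mem (Nat.le_add_left 1 n) (ha ▸ s.2), one_smul]
  exact Subtype.ext ((map_pow (ioS f) s 2).symm.trans (by rw [h1, map_one]; rfl))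

/-- the simple groups `PSp n F` without `Sp₄(2^f)` -/
noncomputable def sitC (hn : 2 ≤ n) (h4 : n = 2 → p ≠ 2) : Sit (datC n hk he) (AdmQ p) (PSp n F) :=
  sitC_of f hk he hF (S2693.result hn h4)

omit hF in
/-- the fields exist -/
theorem hasC (p : ℕ) [Fact p.Prime] (F : Type) [Field F] [Fintype F] [CharP F p] :
    ∃ (k : Type) (_ : Field k) (_ : CharP k p) (_ : IsAlgClosed k) (_ : ∀ a : k, ∃ j, 0 < j ∧ a ^ p ^ j = a) (e : ℕ)
      (_ : 0 < e) (_ : F →+* k), Fintype.card F = p ^ e := by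
  obtain ⟨e, -, he⟩ := FiniteField.card F p
  exact ⟨AlgebraicClosure F, inferInstance, charP_of_injective_algebraMap (algebraMap F _).injective p, inferInstance,
    lf_closure p F, e, e.pos, algebraMap F _, he⟩

end Cfsg.Agent.KZ.Dat
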