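import Cfsg.Agent.KZ.Dat.OmC
import Cfsg.Agent.KZ.Dat.AuOf
import Cfsg.Agent.LieClassical.OrthForms
import Cfsg.Agent.H390.PslSpec
import Cfsg.Agent.H156.One.OrthInv
import Cfsg.Agent.H183.OrthSum

/-!
# KZ: the orthogonal frame, V : base change `Bc`, the covering `Ω → PΩ` (helper19)
-/

set_option autoImplicit false
set_option maxHeartbeats 400000
set_option linter.unusedSectionVars false

namespace Cfsg.Agent.KZ.Dat.Om

open CoxeterSystem Cfsg.Agent.ChevalleyStructure.CoxeterGeom Matrix Sum QuadraticMap Cfsg.Agent.LangThm Cfsg.Agent.DL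
  Cfsg.Agent.DL.PP Cfsg.Agent.DL.Uni Cfsg.Agent.KZ.Lie Cfsg.Agent.ClassicalGeometry.Reflection
  Cfsg.Agent.ClassicalGeometry.OrthCharTwo Cfsg.Agent.ClassicalGeometry.OrthDickson Cfsg.Agent.H156.One

variable {ι : Type} [Fintype ι] [DecidableEq ι] {F : Type} [Field F]

theorem sq_mem {Q : QuadraticForm F (ι → F)} (hQ : (polarBilin Q).Nondegenerate) (h4 : Fintype.card ι ≠ 4)
    (g : isometryGroup F Q) : g ^ 2 ∈ Omega F Q :=
  isometry_induction Q hQ (.inr h4) (fun g => g ^ 2 ∈ Omega F Q) (by rw [one_pow]; exact one_mem _) (fun v hv g hg => by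
    have h1 : Abelianization.of (reflIso Q v hv) ^ 2 = 1 := by rw [← map_pow, pow_two, reflIso_mul_self, map_one]
    rw [Omega, ← Abelianization.ker_of, MonoidHom.mem_ker, map_pow] at hg ⊢
    rw [map_mul, mul_pow, h1, hg, mul_one]) g

/-- what is used about the form -/
structure Nice (Q : QuadraticForm F (ι → F)) : Prop where
  nd : (polarBilin Q).Nondegenerate
  card : 5 ≤ Fintype.card ι
  sing : ∃ u : ι → F, u ≠ 0 ∧ Q u = 0

theorem Nice.ne {Q : QuadraticForm F (ι → F)} (h : Nice Q) : Fintype.card ι ≠ 4 := by have := h.card; omega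

variable {m : ℕ} {J : Type} [Fintype J] [DecidableEq J] {k : Type} [Field k] {p : ℕ} [Fact p.Prime] [CharP k p]

variable (p) in
/-- a base change to the split form which turns the Frobenius map into `r ∘ Frob` -/
structure Bc (f : F →+* k) (Q0 : QuadraticForm F (ι → F)) (e : ℕ) (r : GL (NN m J) k) where
  P : Matrix (NN m J) ι k
  P' : Matrix ι (NN m J) k
  h1 : P * P' = 1
  h2 : P' * P = 1
  form : ∀ v : ι → F, QQ m J k (P *ᵥ (f ∘ v)) = f (Q0 v)
  fr : r.val * P.map (iterateFrobenius k p e) = P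

namespace Bc

variable {f : F →+* k} {Q0 : QuadraticForm F (ι → F)} {e : ℕ} {r : GL (NN m J) k} (T : Bc p f Q0 e r)

theorem cc {κ : Type} (φ : k →+* k) (X : Matrix ι κ k) : T.P'.map φ * (T.P.map φ * X) = X := by
  rw [← Matrix.mul_assoc, ← Matrix.map_mul, T.h2, Matrix.map_one _ (map_zero _) (map_one _), Matrix.one_mul]

theorem cc' (φ : k →+* k) : T.P.map φ * T.P'.map φ = 1 := by
  rw [← Matrix.map_mul, T.h1, Matrix.map_one _ (map_zero _) (map_one _)]

theorem mul3 (φ χ ω : k →+* k) (A B : Matrix ι ι F) : T.P.map φ * A.map f * T.P'.map χ * (T.P.map χ * B.map f * T.P'.map ω) =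
    T.P.map φ * (A * B).map f * T.P'.map ω := by
  simp only [Matrix.map_mul, Matrix.mul_assoc, T.cc]

theorem one3 (φ : k →+* k) : T.P.map φ * (1 : Matrix ι ι F).map f * T.P'.map φ = 1 := by
  rw [Matrix.map_one _ (map_zero f) (map_one f), Matrix.mul_one, T.cc']

/-- the matrix of a semilinear map -/
def sl (φ : k →+* k) (g : GL ι F) : GL (NN m J) k :=
  ⟨T.P.map (RingHom.id k) * g.val.map f * T.P'.map φ, T.P.map φ * (g⁻¹).val.map f * T.P'.map (RingHom.id k),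
    by rw [T.mul3, Units.mul_inv, T.one3], by rw [T.mul3, Units.inv_mul, T.one3]⟩

theorem coe_sl (φ : k →+* k) (g : GL ι F) : (T.sl φ g).val = T.P * g.val.map f * T.P'.map φ := rfl

/-- the embedding of the linear groups -/
def ψ : GL ι F →* GL (NN m J) k := MonoidHom.mk' (T.sl (RingHom.id k)) fun _ _ => Units.ext (T.mul3 _ _ _ _ _).symm

theorem coe_ψ (g : GL ι F) : (T.ψ g).val = T.P * g.val.map f * T.P' := rfl

theorem conj_ψ (g : GL ι F) : T.P' * (T.ψ g).val * T.P = g.val.map f := by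
  rw [coe_ψ]
  simp only [← Matrix.mul_assoc]
  rw [T.h2, Matrix.one_mul, Matrix.mul_assoc, T.h2, Matrix.mul_one]

theorem ψ_inj : Function.Injective T.ψ := fun g h e =>
  Units.ext (Matrix.map_injective f.injective (by simp only; rw [← T.conj_ψ, ← T.conj_ψ, e]))

/-- the rational vectors -/
def lv (v : ι → F) : NN m J → k := T.P *ᵥ (f ∘ v)

theorem lv_add (u v : ι → F) : T.lv (u + v) = T.lv u + T.lv v := by
  rw [lv, lv, lv, ← mulVec_add]
  exact congrArg _ (funext fun _ => map_add f _ _)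

theorem lv_sub_smul (u v : ι → F) (c : F) : T.lv (u - c • v) = T.lv u - f c • T.lv v := by
  rw [lv, lv, lv, ← mulVec_smul, ← mulVec_sub]
  exact congrArg _ (funext fun _ => by simp)

theorem QQ_lv (v : ι → F) : QQ m J k (T.lv v) = f (Q0 v) := T.form v

theorem polar_lv (u v : ι → F) : polar (QQ m J k) (T.lv u) (T.lv v) = f (polar Q0 u v) := by
  rw [polar, polar, ← lv_add, QQ_lv, QQ_lv, QQ_lv, map_sub, map_sub]

theorem map_lv (φ : k →+* k) {σ : F → F} (h : ∀ a, φ (f a) = f (σ a)) (v : ι → F) :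
    φ ∘ T.lv v = T.P.map φ *ᵥ (f ∘ fun i => σ (v i)) :=
  funext fun i => (φ.map_mulVec _ _ i).trans (congrArg (fun w => (T.P.map φ *ᵥ w) i) (funext fun _ => h _))

theorem sl_lv (φ : k →+* k) {σ : F → F} (h : ∀ a, φ (f a) = f (σ a)) (g : GL ι F) (v : ι → F) :
    (T.sl φ g).val *ᵥ (φ ∘ T.lv v) = T.lv (g.val *ᵥ fun i => σ (v i)) := by
  rw [T.map_lv φ h, mulVec_mulVec, coe_sl, Matrix.mul_assoc, ← Matrix.mul_one (T.P.map φ), T.cc, Matrix.mul_one,
    ← mulVec_mulVec]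
  exact congrArg _ (funext fun i => (f.map_mulVec _ _ i).symm)

theorem ψ_lv (g : GL ι F) (v : ι → F) : (T.ψ g).val *ᵥ T.lv v = T.lv (g.val *ᵥ v) :=
  T.sl_lv (RingHom.id k) (σ := id) (fun _ => rfl) g v

theorem span (φ : k →+* k) (x : NN m J → k) : ∃ a : ι → k, x = ∑ i, a i • φ ∘ T.lv (Pi.single i 1) := by
  refine ⟨T.P'.map φ *ᵥ x, funext fun z => ?_⟩
  conv_lhs => rw [← one_mulVec x, ← T.cc' φ, ← mulVec_mulVec]
  simp [lv, mulVec, dotProduct, Pi.single_apply, apply_ite f, mul_comm]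

theorem sim_sl (φ : k →+* k) {σ : F → F} (h : ∀ a, φ (f a) = f (σ a)) {g : GL ι F} {c : F}
    (hc : ∀ v, Q0 (g.val *ᵥ fun i => σ (v i)) = c * σ (Q0 v)) : Sim (T.sl φ g) (f c) := by
  have h1 : ∀ v, QQ m J k ((T.sl φ g).val *ᵥ (φ ∘ T.lv v)) = f c * QQ m J k (φ ∘ T.lv v) := fun v => by
    rw [T.sl_lv φ h, QQ_lv, hc, QQ_map, QQ_lv, map_mul, h]
  refine sim_of_span _ (T.span φ) (fun _ => h1 _) fun i j => ?_
  have h2 : ∀ u v, φ ∘ T.lv u + φ ∘ T.lv v = φ ∘ T.lv (u + v) := fun u v => by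
    rw [lv_add]
    exact funext fun _ => (map_add φ _ _).symm
  rw [polar, polar, ← mulVec_add, h2, h1, h1, h1]
  ring

theorem sl_conj (φ : k →+* k) {σ : F ≃+* F} (h : ∀ a, φ (f a) = f (σ a)) (g s : GL ι F) :
    T.ψ (Cm g σ s) = T.sl φ g * GeneralLinearGroup.map φ (T.ψ s) * (T.sl φ g)⁻¹ := by
  refine Units.ext ?_
  have h1 : (s.val.map f).map φ = (s.val.map σ).map f := Matrix.ext fun _ _ => h _
  show _ = (T.sl φ g).val * (T.P * s.val.map f * T.P').map φ * (T.sl φ g).inv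
  rw [Matrix.map_mul, Matrix.map_mul, h1, sl, T.mul3, T.mul3]
  rfl

theorem ext_lv {A B : Matrix (NN m J) (NN m J) k} (h : ∀ v, A *ᵥ T.lv v = B *ᵥ T.lv v) : A = B :=
  Matrix.mulVec_injective (funext fun x => by
    obtain ⟨a, rfl⟩ := T.span (RingHom.id k) x
    simp [mulVec_sum, mulVec_smul, h])

theorem lv_ne {v : ι → F} (hv : Q0 v ≠ 0) : QQ m J k (T.lv v) ≠ 0 := by
  rw [QQ_lv]
  exact (map_ne_zero f).2 hv

theorem ψ_refl {v : ι → F} (hv : Q0 v ≠ 0) : T.ψ (reflGL Q0 v hv) = reflGL (QQ m J k) (T.lv v) (T.lv_ne hv) :=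
  Units.ext (T.ext_lv fun w => by
    rw [ψ_lv, coe_reflGL, coe_reflGL, reflectionMatrix_mulVec, reflectionMatrix_mulVec, lv_sub_smul, QQ_lv, polar_lv,
      map_mul, map_inv₀])

theorem ψ_iso (h2 : Nonempty J → (2 : k) ≠ 0) (hQ : (polarBilin Q0).Nondegenerate) (h4 : Fintype.card ι ≠ 4)
    (g : isometryGroup F Q0) : ∃ hg : T.ψ g ∈ isometryGroup k (QQ m J k), dsign (QQ m J k) ⟨_, hg⟩ = dsign Q0 g := by
  refine isometry_induction Q0 hQ (.inr h4)
    (fun g => ∃ hg : T.ψ g ∈ isometryGroup k (QQ m J k), dsign (QQ m J k) ⟨_, hg⟩ = dsign Q0 g) ?_ ?_ g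
  · have h1 : T.ψ (1 : isometryGroup F Q0) = 1 := map_one _
    refine ⟨h1 ▸ one_mem _, ?_⟩
    rw [dsign_one, ← dsign_one (QQ m J k)]
    exact congrArg _ (Subtype.ext h1)
  · rintro v hv g ⟨hg, h1⟩
    have h3 : T.ψ (reflIso Q0 v hv * g : isometryGroup F Q0) =
        (reflIso (QQ m J k) (T.lv v) (T.lv_ne hv) * ⟨_, hg⟩ : isometryGroup k (QQ m J k)) :=
      (map_mul _ _ _).trans (congrArg (· * _) (T.ψ_refl hv))
    refine ⟨h3 ▸ Subtype.prop _, ?_⟩
    rw [dsign_refl_mul _ hQ, ← h1, ← dsign_refl_mul _ (QQ_nondeg h2) _ _ (T.lv_ne hv)]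
    exact congrArg _ (Subtype.ext h3)

/-- the embedding of `Ω` -/
def io : Omega F Q0 →* GL (NN m J) k := T.ψ.comp ((isometryGroup F Q0).subtype.comp (Omega F Q0).subtype)

theorem mem_io (g : isometryGroup F Q0) (hg : g ∈ Omega F Q0) : T.ψ g ∈ T.io.range := ⟨⟨g, hg⟩, rfl⟩

theorem io_inj : Function.Injective T.io := T.ψ_inj.comp (Subtype.val_injective.comp Subtype.val_injective)

theorem cen (hQ : Nice Q0) {t : Omega F Q0} (ht : t ∈ Subgroup.center (Omega F Q0)) : (T.io t).val = 1 ∨ (T.io t).val = -1 := by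
  refine ((LieClassical.OrthCenter.mem_center_omega_iff hQ.nd (by have := hQ.card; omega) hQ.sing t).1 ht).imp
    (fun h => ?_) fun h => ?_
  · exact (T.coe_ψ _).trans (h ▸ T.one3 (RingHom.id k))
  · refine (T.coe_ψ t.1.1).trans ?_
    rw [h, Matrix.map_neg _ (map_neg f), Matrix.mul_neg, Matrix.neg_mul]
    exact congrArg _ (T.one3 (RingHom.id k))

theorem fr1 : T.P.map (iterateFrobenius k p e) = (r⁻¹).val * T.P := by
  conv_rhs => rw [← T.fr, ← Matrix.mul_assoc, Units.inv_mul, Matrix.one_mul]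

theorem fr2 : T.P'.map (iterateFrobenius k p e) = T.P' * r.val := by
  have h1 := T.cc (iterateFrobenius k p e) (T.P' * r.val)
  rwa [T.fr1, Matrix.mul_assoc, ← Matrix.mul_assoc T.P, T.h1, Matrix.one_mul, Units.inv_mul, Matrix.mul_one] at h1

variable [Fintype F] (hF : Fintype.card F = p ^ e)
include hF

theorem sl_fix (j : ℕ) (hr : frob p j r = r) (g : GL ι F) :
    r * frob p e (T.sl (iterateFrobenius k p j) g) * r⁻¹ = T.sl (iterateFrobenius k p j) g := by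
  rw [mul_inv_eq_iff_eq_mul]
  refine Units.ext ?_
  have h1 : (g.val.map f).map (iterateFrobenius k p e) = g.val.map f := Matrix.ext fun i j => by
    show iterateFrobenius k p e (f _) = f _
    rw [iterateFrobenius_def, ← map_pow, ← hF, FiniteField.pow_card]
  have h2 : (T.P'.map (iterateFrobenius k p j)).map (iterateFrobenius k p e) =
      (T.P'.map (iterateFrobenius k p e)).map (iterateFrobenius k p j) := Matrix.ext fun _ _ => by
    simp only [map_apply, iterateFrobenius_def, ← pow_mul, mul_comm]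
  have h3 : r.val.map (iterateFrobenius k p j) = r.val := congrArg Units.val hr
  show r.val * (T.P * g.val.map f * T.P'.map _ : Matrix _ _ k).map (iterateFrobenius k p e) =
    T.P * g.val.map f * T.P'.map _ * r.val
  rw [Matrix.map_mul, Matrix.map_mul, h1, h2, T.fr2, Matrix.map_mul, h3]
  simp only [← Matrix.mul_assoc]
  rw [T.fr]

theorem ψ_fix (g : GL ι F) : r * frob p e (T.ψ g) * r⁻¹ = T.ψ g := by
  have := T.sl_fix hF 0 (by rw [frob, iterateFrobenius_zero]; rfl) g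
  rwa [iterateFrobenius_zero] at this

theorem exists_map {y : GL (NN m J) k} (hy : r * frob p e y * r⁻¹ = y) :
    ∃ A : Matrix ι ι F, A.map f = T.P' * y.val * T.P := by
  have h1 : (T.P' * y.val * T.P).map (iterateFrobenius k p e) = T.P' * y.val * T.P := by
    have h2 : r.val * y.val.map (iterateFrobenius k p e) * (r⁻¹).val = y := congrArg Units.val hy
    rw [Matrix.map_mul, Matrix.map_mul, T.fr1, T.fr2]
    conv_rhs => rw [← h2]
    simp only [Matrix.mul_assoc]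
  have h2 : ∀ i j, ∃ t, f t = (T.P' * y.val * T.P) i j := fun i j =>
    H390.PslSpec.mem_range_of_pow_card f (by rw [hF, ← iterateFrobenius_def]; exact congrFun (congrFun h1 i) j)
  choose A hA using h2
  exact ⟨Matrix.of A, Matrix.ext hA⟩

theorem exists_ψ {y : GL (NN m J) k} (hy : r * frob p e y * r⁻¹ = y) : ∃ g, T.ψ g = y := by
  obtain ⟨A, hA⟩ := T.exists_map hF hy
  obtain ⟨B, hB⟩ := T.exists_map hF (y := y⁻¹) (by
    rw [map_inv]
    exact Eq.trans (by group) (congrArg (·⁻¹) hy))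
  have h1 : ∀ {A B : Matrix ι ι F} {y : GL (NN m J) k}, A.map f = T.P' * y.val * T.P →
      B.map f = T.P' * (y⁻¹).val * T.P → A * B = 1 := fun {A B y} hA hB =>
    Matrix.map_injective f.injective (by
      simp only
      rw [Matrix.map_mul, hA, hB, Matrix.map_one _ (map_zero f) (map_one f)]
      simp only [Matrix.mul_assoc]
      rw [← Matrix.mul_assoc T.P, T.h1, Matrix.one_mul, ← Matrix.mul_assoc y.val, Units.mul_inv,
        Matrix.one_mul, T.h2])
  refine ⟨⟨A, B, h1 hA hB, h1 hB hA⟩, Units.ext ?_⟩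
  rw [coe_ψ, hA]
  simp only [← Matrix.mul_assoc]
  rw [T.h1, Matrix.one_mul, Matrix.mul_assoc, T.h1, Matrix.mul_one]

end Bc

variable {W : Type} [Group W] {M : CoxeterMatrix (Fin m)} {A : Fin m → Fin m → ℤ} {cs : CoxeterSystem M W}
  {h : IsCartan M A} {O : OS J cs h} {s : Fin m × Bool → Fin m × Bool} {γ : (Fin m → ℤ) → Fin m → ℤ}
  {B : Matrix (Fin m) (Fin m) ℤ} [IsAlgClosed k] [Finite W] (S : O.Sy s γ B) (h2 : Nonempty J → (2 : k) ≠ 0)
  (hk : ∀ a : k, ∃ j, 0 < j ∧ a ^ p ^ j = a) {e : ℕ} (he : 0 < e) (f : F →+* k)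

/-- the rational similitudes act as elements of `G ^ F` times admissible automorphisms of the frame -/
def Dec (Adm : Matrix (Fin m) (Fin m) ℤ → Prop) : Prop :=
  ∀ (g : GL (NN m J) k) (c : Fˣ), Sim g (f c) → S.F k p e g = g → ∃ x ∈ GF (S.F k p e) (O.G k), ∃ α, ∃ C : Matrix (Fin m) (Fin m) ℤ,
    Au (S.dat h2 hk he) α C ∧ (∀ j : ℕ, Adm (C * (p : ℤ) ^ j • 1)) ∧ ∀ y, g * y * g⁻¹ = x * α y * x⁻¹

namespace Bc

variable {f} {Q0 : QuadraticForm F (ι → F)} (T : Bc p f Q0 e (rr J k S.inv)) [Fintype F] (hF : Fintype.card F = p ^ e)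
  (hQ : Nice Q0) (l : Fin m × Bool)

include h2 hF hQ l

/-- **the finite group is the kernel of the Dickson sign** -/
theorem mem_GF {y : GL (NN m J) k} :
    y ∈ GF (S.F k p e) (O.G k) ↔ ∃ g : isometryGroup F Q0, dsign Q0 g = 1 ∧ T.ψ g = y := by
  constructor
  · rintro ⟨h5, h6⟩
    obtain ⟨z, rfl⟩ := T.exists_ψ hF (y := y) h6
    have h7 : z ∈ isometryGroup F Q0 := (mem_isometryGroup_iff _ _).2 fun v => f.injective (by
      rw [← T.QQ_lv, ← T.QQ_lv, ← T.ψ_lv]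
      exact (mem_isometryGroup_iff _ _).1 (O.G_le_iso h5) _)
    obtain ⟨h8, h9⟩ := T.ψ_iso h2 hQ.nd hQ.ne ⟨z, h7⟩
    exact ⟨⟨z, h7⟩, h9.symm.trans (O.dsign_G h2 h5), rfl⟩
  · rintro ⟨g, h5, rfl⟩
    obtain ⟨h8, h9⟩ := T.ψ_iso h2 hQ.nd hQ.ne g
    exact ⟨(O.mem_G h2 l ⟨_, h8⟩).2 (h9.trans h5), T.ψ_fix hF _⟩

theorem io_mem (t : Omega F Q0) : T.io t ∈ GF (S.F k p e) (O.G k) :=
  (T.mem_GF S h2 hF hQ l).2 ⟨t.1, dsign_eq_one_of_mem_commutator _ hQ.nd (.inr hQ.ne) _ t.2, rfl⟩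

theorem sq_io {y : GL (NN m J) k} (hy : y ∈ GF (S.F k p e) (O.G k)) : y ^ 2 ∈ T.io.range := by
  obtain ⟨g, -, rfl⟩ := (T.mem_GF S h2 hF hQ l).1 hy
  exact ⟨⟨g ^ 2, sq_mem hQ.nd hQ.ne g⟩, map_pow T.ψ g.1 2⟩

omit l hQ in
theorem lf {Adm : Matrix (Fin m) (Fin m) ℤ → Prop} (hd : Dec S h2 hk he f Adm) {g : GL ι F} {σ : F ≃+* F}
    (hg : IsSemisimilarityPair Q0 g σ) {β : MulAut (POmega F Q0)} (hβ : IsInducedBySemilinearPOmega Q0 g σ β) :
    Lf (S.dat h2 hk he) Adm T.io (QuotientGroup.mk' _) β := by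
  have := RingHom.charP f f.injective p
  obtain ⟨j, hj⟩ := exists_frob p σ
  have h1 : ∀ a, iterateFrobenius k p j (f a) = f (σ a) := fun a => by rw [hj, map_pow, iterateFrobenius_def]
  obtain ⟨c, hc⟩ := id hg
  obtain ⟨x, hx, α, C, h3, h4, h5⟩ := hd _ c (T.sim_sl _ h1 hc) (T.sl_fix hF j (map_rr _ _) g)
  exact ⟨x, hx, _, _, au_mul h3 (S.au_fr h2 hk he j), h4 j, fun t =>
    ⟨Co hg t, (T.sl_conj _ h1 g _).trans (h5 _), (hβ t _ rfl).symm⟩⟩

/-- **the covering `Ω → PΩ`** -/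
noncomputable def cov {Adm : Matrix (Fin m) (Fin m) ℤ → Prop} (h1 : Adm 1) (hA : ∀ A B, Adm A → Adm B → Adm (A * B))
    (hd : Dec S h2 hk he f Adm) (hg : gammaPOmega F Q0 = ⊤) : Cov (S.dat h2 hk he) Adm (Omega F Q0) (POmega F Q0) where
  qs := S.qs h2 hk he
  adm_one := h1
  ι := T.io
  inj := T.io_inj
  mem := T.io_mem S h2 hF hQ l
  comm a ha b hb := by
    obtain ⟨a, -, rfl⟩ := (T.mem_GF S h2 hF hQ l).1 ha
    obtain ⟨b, -, rfl⟩ := (T.mem_GF S h2 hF hQ l).1 hb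
    simpa using T.mem_io (a * b * a⁻¹ * b⁻¹) (Subgroup.commutator_mem_commutator (Subgroup.mem_top a) (Subgroup.mem_top b))
  uni u hu := by
    rintro ⟨j, hj⟩
    rcases (Fact.out : p.Prime).eq_two_or_odd' with hp | hp
    · obtain ⟨g, h3, rfl⟩ := (T.mem_GF S h2 hF hQ l).1 hu
      exact T.mem_io g ((H183.mem_Omega_iff_dsign _ (f.injective (by
        rw [map_ofNat, map_zero, ← CharP.cast_eq_zero k p, hp, Nat.cast_ofNat])) hQ.nd (.inr hQ.ne) g).2 h3)
    · obtain ⟨i, hi⟩ := hp.pow (n := j)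
      have h3 := pow_orderOf_eq_one u
      rw [hj, hi, pow_succ, pow_mul] at h3
      rw [eq_inv_of_mul_eq_one_right h3]
      exact inv_mem (pow_mem (T.sq_io S h2 hF hQ l hu) i)
  q := QuotientGroup.mk' _
  surj := QuotientGroup.mk'_surjective _
  ker t := by
    rw [QuotientGroup.mk'_apply, QuotientGroup.eq_one_iff]
    refine ⟨fun h y _ => Units.ext ?_, fun h => Subgroup.mem_center_iff.2 fun g => T.io_inj ?_⟩
    · rcases T.cen hQ h with e | e <;> simp [e]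
    · exact (map_mul T.io _ _).trans ((h _ (T.io_mem S h2 hF hQ l g).1).trans (map_mul T.io _ _).symm)
  aut σ := lf_of_closure h1 hA (E := {β | ∃ g σ, IsSemisimilarityPair Q0 g σ ∧ IsInducedBySemilinearPOmega Q0 g σ β})
    (fun _ ⟨_, _, h3, h4⟩ => T.lf S h2 hk he hF hd h3 h4) (hg.ge (Subgroup.mem_top σ))

include T in
/-- **the situation of `PΩ`** -/
theorem sit {Adm : Matrix (Fin m) (Fin m) ℤ → Prop} (h1 : Adm 1) (hA : ∀ A B, Adm A → Adm B → Adm (A * B))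
    (hd : Dec S h2 hk he f Adm) (hg : gammaPOmega F Q0 = ⊤) : ∃ t : Sit (S.dat h2 hk he) Adm (POmega F Q0),
      (∀ g ∈ GF (S.F k p e) (O.G k), g ^ 2 ∈ t.H0) ∧ ∀ z, t.π z = 1 → z ^ 2 = 1 := by
  refine ⟨(T.cov S h2 hk he hF hQ l h1 hA hd hg).sit, fun _ => T.sq_io S h2 hF hQ l, ?_⟩
  rintro ⟨_, t, rfl⟩ hz
  refine Subtype.ext (Units.ext ?_)
  show (T.io t).val ^ 2 = 1
  rcases T.cen hQ ((QuotientGroup.eq_one_iff t).1 ((Cov.sit_π _ t).symm.trans hz)) with e | e <;> simp [e]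

end Bc

end Cfsg.Agent.KZ.Dat.Om
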