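import Cfsg.Agent.KZ.Dat.OmD
import Cfsg.Agent.KZ.Dat.OmE
import Cfsg.Agent.S2694
import Cfsg.Agent.S2695
import Cfsg.Agent.S2696

/-!
# KZ: the situations of the orthogonal groups (helper19)

`sitB`, `sitP`, `sitM` (and `sitB_of`, `sitP_of`, `sitM_of` with the automorphism group as a hypothesis).
-/

set_option autoImplicit false
set_option maxHeartbeats 400000
set_option linter.unusedSectionVars false
set_option linter.unnecessarySeqFocus false

namespace Cfsg.Agent.KZ.Dat.Om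

open CoxeterSystem Cfsg.Agent.ChevalleyStructure.CoxeterGeom Matrix Sum QuadraticMap Cfsg.Agent.LangThm Cfsg.Agent.DL
  Cfsg.Agent.DL.PP Cfsg.Agent.KZ.Lie Cfsg.Agent.ClassicalGeometry.Reflection Cfsg.Agent.ClassicalGeometry.OrthDickson
  Cfsg.Agent.LieClassical.OrthForms Cfsg.Agent.LieClassical.OrthCore
open Cfsg.Agent.Nodes.TypeC (wt ng ng_ng)
open Cfsg.Agent.ODD.C2 (BD)

variable {ι : Type} [Fintype ι] [DecidableEq ι] {F : Type} [Field F] {m : ℕ} {J : Type} [Fintype J] [DecidableEq J]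
  {k : Type} [Field k] {p : ℕ} [Fact p.Prime] [CharP k p]

theorem nice_of {Q : QuadraticForm F (ι → F)} (h : Nondeg Q) (h5 : 5 ≤ Fintype.card ι) (i : ι) (hi : Q (Pi.single i 1) = 0) :
    Nice Q :=
  ⟨⟨h, fun x hx => h x fun y => (polar_comm _ _ _).trans (hx y)⟩, h5, _, fun e => by simpa using congrFun e i, hi⟩

/-- base change along a linear equivalence -/
noncomputable def Bc.of (f : F →+* k) (Q0 : QuadraticForm F (ι → F)) (e : ℕ) {s : Fin m × Bool → Fin m × Bool}
    (hs : Function.Involutive s) (L : (ι → k) ≃ₗ[k] (NN m J → k)) (h1 : ∀ v : ι → F, QQ m J k (L (f ∘ v)) = f (Q0 v))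
    (h2 : ∀ j z, L (Pi.single j 1) z ^ p ^ e = L (Pi.single j 1) (Sum.map s id z)) : Bc p f Q0 e (rr J k hs) where
  P := LinearMap.toMatrix' L.toLinearMap
  P' := LinearMap.toMatrix' L.symm.toLinearMap
  h1 := by rw [← LinearMap.toMatrix'_comp, LinearEquiv.comp_symm, LinearMap.toMatrix'_id]
  h2 := by rw [← LinearMap.toMatrix'_comp, LinearEquiv.symm_comp, LinearMap.toMatrix'_id]
  form v := by rw [LinearMap.toMatrix'_mulVec, LinearEquiv.coe_coe, h1]
  fr := by
    ext z j
    have h3 : ∀ w, (rr J k hs).val z w = if w = Sum.map s id z then 1 else 0 := fun w => by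
      have h4 := congrFun (mo_rr (k := k) hs w) z
      rw [bv, mulVec_single_one, one_smul, bv_apply] at h4
      exact h4.trans (if_congr ⟨fun e => by rw [e, map_map hs], fun e => by rw [e, map_map hs]⟩ rfl rfl)
    simp [mul_apply, h3, iterateFrobenius_def, h2, map_map hs]

theorem single_pow (j i : ι) (e : ℕ) : (Pi.single j 1 : ι → k) i ^ p ^ e = (Pi.single j 1 : ι → k) i := by
  rw [← iterateFrobenius_def, Pi.single_apply, apply_ite (iterateFrobenius k p e), map_one, map_zero]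

/-- the indices of the hyperbolic part -/
def ix (m : ℕ) : Fin m × Bool ≃ Fin m ⊕ Fin m where
  toFun y := if y.2 then inl y.1 else inr y.1
  invFun := Sum.elim (·, true) (·, false)
  left_inv := by rintro ⟨i, _ | _⟩ <;> rfl
  right_inv := by rintro (i | i) <;> rfl

/-- the split form in even dimension -/
noncomputable def bcP (f : F →+* k) (m e : ℕ) :
    Bc p f (plusForm m F) e (rr Empty k (s := (id : Fin m × Bool → _)) fun _ => rfl) :=
  Bc.of f _ e _ (LinearEquiv.funCongrLeft k k ((Equiv.sumEmpty _ _).trans (ix m)))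
    (fun v => by simp [QQ_apply, coe_plusForm, quadFormPlus_apply, ix]) fun j z => by
      rw [Sum.map_id_id]
      exact single_pow _ _ _

/-- the form in odd dimension -/
noncomputable def bcB (f : F →+* k) (m e : ℕ) :
    Bc p f (oddForm m F) e (rr Unit k (s := (id : Fin m × Bool → _)) fun _ => rfl) :=
  Bc.of f _ e _ (LinearEquiv.funCongrLeft k k ((Equiv.sumComm _ _).trans (Equiv.sumCongr (Equiv.refl _) (ix m))))
    (fun v => by simp [QQ_apply, coe_oddForm, quadFormOdd_apply, ix, add_comm, pow_two]) fun j z => by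
      rw [Sum.map_id_id]
      exact single_pow _ _ _

/-- the coordinates for the non-split form -/
def LM (n : ℕ) (l l' : k) (h : l ≠ l') : ((Fin n ⊕ Fin n) ⊕ Fin 2 → k) ≃ₗ[k] (Fin (n + 1) × Bool → k) where
  toFun w b := Fin.lastCases (w (.inr 0) + (if b.2 then l else l') * w (.inr 1))
    (fun i => w (.inl (if b.2 then .inl i else .inr i))) b.1
  map_add' v w := by
    funext ⟨i, s⟩
    induction i using Fin.lastCases with
    | last => simp only [Fin.lastCases_last, Pi.add_apply]; ring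
    | cast i => simp only [Fin.lastCases_castSucc, Pi.add_apply]
  map_smul' c v := by
    funext ⟨i, s⟩
    induction i using Fin.lastCases with
    | last => simp only [Fin.lastCases_last, Pi.smul_apply, smul_eq_mul, RingHom.id_apply]; ring
    | cast i => simp only [Fin.lastCases_castSucc, Pi.smul_apply, RingHom.id_apply]
  invFun v := Sum.elim (Sum.elim (fun i => v (i.castSucc, true)) fun i => v (i.castSucc, false))
    ![(l * v (Fin.last n, false) - l' * v (Fin.last n, true)) / (l - l'),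
      (v (Fin.last n, true) - v (Fin.last n, false)) / (l - l')]
  left_inv w := by
    have := sub_ne_zero.2 h
    funext j
    rcases j with (j | j) | j
    · simp
    · simp
    · fin_cases j <;> simp <;> field_simp <;> ring
  right_inv v := by
    have := sub_ne_zero.2 h
    funext ⟨i, s⟩
    induction i using Fin.lastCases with
    | last => cases s <;> (simp; field_simp; ring)
    | cast i => cases s <;> simp

theorem LM_last {n : ℕ} {l l' : k} (h : l ≠ l') (w : (Fin n ⊕ Fin n) ⊕ Fin 2 → k) (s : Bool) :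
    LM n l l' h w (Fin.last n, s) = w (.inr 0) + (if s then l else l') * w (.inr 1) := by simp [LM]

theorem LM_cast {n : ℕ} {l l' : k} (h : l ≠ l') (w : (Fin n ⊕ Fin n) ⊕ Fin 2 → k) (i : Fin n) (s : Bool) :
    LM n l l' h w (i.castSucc, s) = w (.inl (if s then .inl i else .inr i)) := by simp [LM]

/-- the non-split form -/
noncomputable def bcM (f : F →+* k) (n e : ℕ) {a b : F} {l l' : k} (h : l ≠ l') (ha : l + l' = f a) (hb : l * l' = f b)
    (h1 : l ^ p ^ e = l') (h2 : l' ^ p ^ e = l) : Bc p f (minusForm n F a b) e (rr Empty k (sw_inv (Fin.last n, true))) :=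
  Bc.of f _ e _ ((LM n l l' h).trans (LinearEquiv.funCongrLeft k k (Equiv.sumEmpty _ _)))
    (fun v => by
      have h3 : ∀ w y, ((LM n l l' h).trans (LinearEquiv.funCongrLeft k k (Equiv.sumEmpty _ Empty))) w (inl y) =
        LM n l l' h w y := fun _ _ => rfl
      rw [QQ_apply, coe_minusForm, quadFormMinus_apply, Fin.sum_univ_castSucc]
      simp only [h3, LM_last, LM_cast, map_add, map_sum, map_mul, map_pow, Function.comp_apply, if_true,
        Bool.false_eq_true, if_false, ← ha, ← hb, Finset.univ_eq_empty, Finset.sum_empty]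
      ring) fun j => by
    rintro (⟨i, s⟩ | z)
    · show LM n l l' h _ (i, s) ^ p ^ e = LM n l l' h _ (Equiv.swap _ _ (i, s))
      rw [sw_apply]
      induction i using Fin.lastCases with
      | last =>
        rw [if_pos rfl, ng, LM_last, LM_last, add_pow_char_pow, mul_pow, single_pow, single_pow]
        cases s <;> simp [h1, h2]
      | cast i => rw [if_neg (Fin.castSucc_lt_last i).ne, LM_cast, single_pow]
    · exact z.elim

variable [IsAlgClosed k] [Fintype F] (f : F →+* k) {e : ℕ} (hF : Fintype.card F = p ^ e)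

omit [IsAlgClosed k] [CharP k p] [Fact p.Prime] in
include hF in
theorem pow_fq (a : F) : f a ^ p ^ e = f a := by rw [← map_pow, ← hF, FiniteField.pow_card]

include hF in
theorem exists_roots {a b : F} (hab : ∀ z₁ z₂ : F, z₁ ^ 2 + a * z₁ * z₂ + b * z₂ ^ 2 = 0 → z₁ = 0 ∧ z₂ = 0) :
    ∃ l l' : k, l ≠ l' ∧ l + l' = f a ∧ l * l' = f b ∧ l ^ p ^ e = l' ∧ l' ^ p ^ e = l := by
  obtain ⟨l, hl⟩ := IsAlgClosed.exists_root (Polynomial.X ^ 2 - Polynomial.C (f a) * Polynomial.X + Polynomial.C (f b))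
    (by
      have h : (Polynomial.X ^ 2 - Polynomial.C (f a) * Polynomial.X + Polynomial.C (f b)).degree = 2 := by compute_degree!
      rw [h]
      decide)
  have h1 : l ^ 2 - f a * l + f b = 0 := by simpa using hl
  have h2 : ∀ t, iterateFrobenius k p e (f t) = f t := fun t => by rw [iterateFrobenius_def, pow_fq f hF]
  have h3 : iterateFrobenius k p e l ≠ l := fun h => by
    obtain ⟨t, rfl⟩ := H390.PslSpec.mem_range_of_pow_card f (x := l) (by rw [hF, ← iterateFrobenius_def, h])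
    refine one_ne_zero (hab (-t) 1 (f.injective ?_)).2
    simp only [map_add, map_mul, map_pow, map_neg, map_one, map_zero]
    linear_combination h1
  have h4 := congrArg (iterateFrobenius k p e) h1
  rw [map_add, map_sub, map_mul, map_pow, h2, h2, map_zero] at h4
  have h5 : iterateFrobenius k p e l = f a - l :=
    mul_left_cancel₀ (sub_ne_zero.2 h3) (by linear_combination h4 - h1)
  refine ⟨l, f a - l, h5 ▸ h3.symm, by ring, by linear_combination -h1, by rw [← h5, iterateFrobenius_def], ?_⟩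
  rw [← iterateFrobenius_def, map_sub, h2, h5, sub_sub_cancel]

theorem OS.Sy.F_dg {W : Type} [Group W] {M : CoxeterMatrix (Fin m)} {A : Fin m → Fin m → ℤ} {cs : CoxeterSystem M W}
    {h : IsCartan M A} {O : OS J cs h} {s : Fin m × Bool → Fin m × Bool} {γ : (Fin m → ℤ) → Fin m → ℤ}
    {B : Matrix (Fin m) (Fin m) ℤ} (S : O.Sy s γ B) {d d' : NN m J → kˣ} (hd : ∀ z, d z ^ p ^ e = d' (Sum.map s id z)) :
    S.F k p e (dg d) = dg d' := by
  rw [S.F_apply, mul_inv_eq_iff_eq_mul, frob, map_dg]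
  exact ((mo_rr _).mul (mo_dg _)).ext ((mo_dg _).mul (mo_rr _)) (fun _ => rfl) fun z => by
    simp [← hd, iterateFrobenius_def]

variable (hk : ∀ a : k, ∃ j, 0 < j ∧ a ^ p ^ j = a) (he : 0 < e)

/-! ### type `D` -/

section D

variable {n : ℕ} {s : Fin (n + 2) × Bool → Fin (n + 2) × Bool} {γ : (Fin (n + 2) → ℤ) → Fin (n + 2) → ℤ}
  {B : Matrix (Fin (n + 2)) (Fin (n + 2)) ℤ} (S : (osD n).Sy s γ B)

theorem decD (h1 : S.F k p e (rr Empty k (syD n).inv) = rr Empty k (syD n).inv)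
    (h3 : ∀ c : Fˣ, ∃ d : Fin (n + 2) × Bool → kˣ, (∀ y, d y ^ p ^ e = d (s y)) ∧ ∀ y, (d y * d (ng y) : k) = f c) :
    haveI := ODD.C2.finD n
    Dec S h2D hk he f (AdmD p n) := by
  have := ODD.C2.finD n
  intro g c hg hF
  obtain ⟨d, h4, h5⟩ := h3 c
  have hc : f c ≠ 0 := (map_ne_zero f).2 c.ne_zero
  have h6 : Mo (dg (Sum.elim d fun _ : Empty => 1)) (Sum.map id id) _ := Sum.map_id_id ▸ mo_dg _
  have h7 := sg_id.sim (c := f c) h6 (by rintro (y | j); exacts [h5 y, j.elim])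
  have h8 := S.F_dg (p := p) (e := e) (d := Sum.elim d fun _ : Empty => 1) (d' := Sum.elim d fun _ : Empty => 1)
    (by rintro (y | j); exacts [h4 y, j.elim])
  rcases (osD n).mem_or h2D (Fin.last (n + 1), true) (mul_inv_cancel₀ hc ▸ hg.mul (h7.inv hc)) with h | h
  · exact ⟨_, ⟨h, show S.F k p e _ = _ by rw [map_mul, map_inv, hF, h8]; rfl⟩, _, 1, S.au_conj h2D hk he (osD n).sy_id h7 hc h6 h8,
      fun j => ⟨j, .inl (one_mul _)⟩, fun y => by rw [MulAut.conj_apply]; group⟩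
  · refine ⟨_, ⟨h, show S.F k p e _ = _ by rw [map_mul, map_mul, map_inv, hF, h8, h1]; rfl⟩, _, BD n,
      S.au_conj h2D hk he (syD n) (one_mul (f c) ▸ (syD n).sim.mul h7) hc ((mo_rr _).mul (mo_dg _)) (by rw [map_mul, h1, h8]),
      fun j => ⟨j, .inr (by rw [mul_smul_comm, mul_one])⟩, fun y => ?_⟩
    rw [MulAut.conj_apply, ← mul_assoc, ← mul_assoc, ← mul_assoc, mul_assoc _ _ (rr _ _ _), rr_rr, mul_assoc _ _⁻¹ _⁻¹,
      ← _root_.mul_inv_rev, mul_assoc _ (rr _ _ _), ← mul_assoc (rr _ _ _), rr_rr]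
    group

include f hF

/-- the situation of `PΩ⁺` -/
theorem sitP_of (hn : 1 ≤ n) (hg : gammaPOmega F (quadFormPlus (n + 2) F) = ⊤) :
    ∃ t : Sit (datP n hk he) (AdmD p n) (POmega F (quadFormPlus (n + 2) F)),
      (∀ g ∈ GF ((osD n).sy_id.F k p e) ((osD n).G k), g ^ 2 ∈ t.H0) ∧ ∀ z, t.π z = 1 → z ^ 2 = 1 := by
  have := ODD.C2.finD n
  rw [← coe_plusForm] at hg ⊢
  refine (bcP f (n + 2) e).sit (osD n).sy_id h2D hk he hF (nice_of (nondeg_plusForm _ _) (by simp; omega) (inl 0)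
    (by simp [coe_plusForm, quadFormPlus_apply])) (0, true) (admD_one p n) AdmD.mul (decD f hk he _ ?_ fun c => ?_) hg
  · rw [OS.Sy.F_apply, rr_id, one_mul, inv_one, mul_one]
    exact map_rr _ _
  · refine ⟨fun y => if y.2 then Units.map (f : F →* k) c else 1, ?_, ?_⟩ <;> rintro ⟨i, _ | _⟩
    · exact one_pow _
    · exact Units.ext (pow_fq f hF _)
    · exact one_mul _
    · exact mul_one _

/-- the situation of `PΩ⁻` -/
theorem sitM_of (hn : 1 ≤ n) {a b : F} (hab : ∀ z₁ z₂ : F, z₁ ^ 2 + a * z₁ * z₂ + b * z₂ ^ 2 = 0 → z₁ = 0 ∧ z₂ = 0)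
    (hg : gammaPOmega F (quadFormMinus (n + 1) F a b) = ⊤) :
    ∃ t : Sit (datM n hk he) (AdmD p n) (POmega F (quadFormMinus (n + 1) F a b)),
      (∀ g ∈ GF ((syD n).F k p e) ((osD n).G k), g ^ 2 ∈ t.H0) ∧ ∀ z, t.π z = 1 → z ^ 2 = 1 := by
  have := ODD.C2.finD n
  obtain ⟨l, l', h1, h2, h3, h4, h5⟩ := exists_roots f hF hab
  rw [← coe_minusForm] at hg ⊢
  refine (bcM f (n + 1) e h1 h2 h3 h4 h5).sit (syD n) h2D hk he hF (nice_of (nondeg_minusForm _ _ _ _ hab) (by simp; omega)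
    (inl (inl 0)) (by simp [coe_minusForm, quadFormMinus_apply])) (0, true) (admD_one p n) AdmD.mul
    (decD f hk he _ ?_ fun c => ?_) hg
  · rw [OS.Sy.F_apply, frob, map_rr, mul_inv_cancel_right]
  · obtain ⟨u, hu⟩ := IsAlgClosed.exists_pow_nat_eq (f c) (p ^ e).succ_pos
    have h0 : u ≠ 0 := fun h => c.ne_zero (f.injective (by rw [← hu, h, map_zero, zero_pow (Nat.succ_ne_zero _)]))
    have h6 : u ^ p ^ e * u = f c := hu ▸ (pow_succ _ _).symm
    have h7 : (u ^ p ^ e) ^ p ^ e = u := mul_right_cancel₀ (pow_ne_zero (p ^ e) h0) (by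
      rw [← mul_pow, h6, pow_fq f hF, ← h6, mul_comm])
    lift u to kˣ using h0.isUnit
    refine ⟨fun y => if y.1 = Fin.last _ then if y.2 then u else u ^ p ^ e else if y.2 then Units.map (f : F →* k) c else 1,
      ?_, ?_⟩ <;> rintro ⟨i, t⟩
    · rw [sw_apply]
      by_cases h : i = Fin.last _ <;> cases t <;> simp [h, ng, Units.ext_iff, h7, pow_fq f hF]
    · by_cases h : i = Fin.last _ <;> cases t <;> simp [h, ng, ← h6, mul_comm]

/-- **the situation of `PΩ⁺`, rank at least five** -/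
theorem sitP (hn : 3 ≤ n) : ∃ t : Sit (datP n hk he) (AdmD p n) (POmega F (quadFormPlus (n + 2) F)),
    (∀ g ∈ GF ((osD n).sy_id.F k p e) ((osD n).G k), g ^ 2 ∈ t.H0) ∧ ∀ z, t.π z = 1 → z ^ 2 = 1 :=
  sitP_of f hF hk he (by omega) (S2695.result (by omega))

/-- **the situation of `PΩ⁻`, rank at least four** -/
theorem sitM (hn : 2 ≤ n) {a b : F} (hab : ∀ z₁ z₂ : F, z₁ ^ 2 + a * z₁ * z₂ + b * z₂ ^ 2 = 0 → z₁ = 0 ∧ z₂ = 0) :
    ∃ t : Sit (datM n hk he) (AdmD p n) (POmega F (quadFormMinus (n + 1) F a b)),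
      (∀ g ∈ GF ((syD n).F k p e) ((osD n).G k), g ^ 2 ∈ t.H0) ∧ ∀ z, t.π z = 1 → z ^ 2 = 1 :=
  sitM_of f hF hk he (by omega) hab (S2696.result (by omega) a b hab)

end D

/-! ### type `B` -/

section B

theorem mo_sc (u : kˣ) : Mo (dg fun _ : NN m J => u) id fun _ => u := mo_dg _

theorem sc_comm (u : kˣ) (y : GL (NN m J) k) : dg (fun _ => u) * y = y * dg fun _ => u := Units.ext (by
  rw [Units.val_mul, Units.val_mul, coe_dg, ← smul_one_eq_diagonal, smul_mul_assoc, mul_smul_comm, one_mul, mul_one])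

theorem sim_sc (u : kˣ) : Sim (dg fun _ : NN m J => u) (u * u) := sg_id.sim (Sum.map_id_id ▸ mo_sc u) fun _ => rfl

variable (h2 : (2 : k) ≠ 0)

include h2 in
theorem refl_e0 : ∃ h, reflGL (QQ m Unit k) (bv k (inr ())) h = dg (fun _ => -1) * τ Unit k fun _ => -1 :=
  ⟨by rw [QQ_bv]; exact one_ne_zero, ext_bv fun z => by
    rw [(mo_sc _).mul (mo_τ _), coe_reflGL, reflectionMatrix_mulVec, QQ_bv, polar_bv]
    rcases z with ⟨i, _ | _⟩ | j
    · simp [bv_apply, chr_false]
    · simp [bv_apply, chr_true]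
    · simp [bv_apply, chr_zero]
      module⟩

include h2 in
theorem neg_notMem : dg (fun _ => -1) ∉ (osB m).G k := fun h => by
  have := finB m
  obtain ⟨h1, h3⟩ := refl_e0 (m := m) h2
  have h4 : dsign _ (reflIso _ _ h1) = 1 := (osB m).dsign_G (fun _ => h2) (h3 ▸ mul_mem h ((osB m).τ_mem _))
  rw [dsign_refl _ (QQ_nondeg fun _ => h2)] at h4
  exact absurd h4 (by decide)

include h2 in
theorem mem_or_neg (l : Fin m × Bool) {g : GL (NN m Unit) k} (hg : Sim g 1) :
    g ∈ (osB m).G k ∨ dg (fun _ => -1) * g ∈ (osB m).G k := by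
  have := finB m
  obtain ⟨h1, h3⟩ := refl_e0 (m := m) h2
  rcases Int.units_eq_one_or (dsign (QQ m Unit k) ⟨g, sim_iff.1 hg⟩) with e | e
  · exact .inl (((osB m).mem_G (fun _ => h2) l _).2 e)
  · have h4 := ((osB m).mem_G (fun _ => h2) l (reflIso _ _ h1 * ⟨g, sim_iff.1 hg⟩)).2 (by
      rw [dsign_refl_mul _ (QQ_nondeg fun _ => h2), e, neg_neg])
    change reflGL _ _ h1 * g ∈ _ at h4
    rw [h3, sc_comm, mul_assoc] at h4
    exact .inr ((Subgroup.mul_mem_cancel_left _ ((osB m).τ_mem _)).1 h4)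

theorem decB (l : Fin m × Bool) :
    haveI := finB m
    Dec (osB m).sy_id (fun _ => h2) hk he f (AdmQ p) := by
  have := finB m
  intro g c hg hF
  obtain ⟨u, hu⟩ : ∃ u : kˣ, dg (fun _ => u) * g ∈ (osB m).G k := by
    obtain ⟨u, hu⟩ := IsAlgClosed.exists_eq_mul_self (f c)⁻¹
    have hc : f c ≠ 0 := (map_ne_zero f).2 c.ne_zero
    lift u to kˣ using (left_ne_zero_of_mul (hu ▸ inv_ne_zero hc)).isUnit
    rcases mem_or_neg h2 l (inv_mul_cancel₀ hc ▸ hu ▸ (sim_sc u).mul hg) with h | h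
    · exact ⟨u, h⟩
    · exact ⟨-1 * u, by rwa [← mul_assoc, ← map_mul] at h⟩
  have h3 : (osB m).sy_id.F k p e (dg (fun _ => u) * g) = dg (fun _ => u ^ p ^ e) * g := by
    rw [map_mul, hF, (osB m).sy_id.F_dg (d' := fun _ => u ^ p ^ e) fun _ => rfl]
  have h4 : dg (fun _ => u ^ p ^ e * u⁻¹) ∈ (osB m).G k := by
    have h5 := mul_mem (h3 ▸ (datB m h2 hk he).F_mem_G hu) (inv_mem hu)
    rwa [_root_.mul_inv_rev, mul_assoc, mul_inv_cancel_left, ← map_inv, ← map_mul] at h5
  have h5 := (sim_sc (u ^ p ^ e * u⁻¹) (bv k (inr ()))).symm.trans (sim_iff.2 ((osB m).G_le_iso h4) _)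
  rw [QQ_bv, qd_inr, mul_one, mul_one, mul_self_eq_one_iff] at h5
  have h6 : u ^ p ^ e = u := mul_inv_eq_one.1 (Units.ext (h5.resolve_right fun h => neg_notMem h2 (by
    rwa [show u ^ p ^ e * u⁻¹ = -1 from Units.ext h] at h4)))
  exact ⟨_, ⟨hu, h3.trans (by rw [h6]; rfl)⟩, 1, 1, au_one, fun j => ⟨j, one_mul _⟩, fun y => by
    rw [MulAut.one_apply, _root_.mul_inv_rev, mul_assoc _ g, mul_assoc _ (g * y), sc_comm]
    group⟩

include f hF

/-- the situation of `Ω` in odd dimension -/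
theorem sitB_of (hm : 2 ≤ m) (hg : gammaPOmega F (quadFormOdd m F) = ⊤) :
    ∃ t : Sit (datB m h2 hk he) (AdmQ p) (POmega F (quadFormOdd m F)),
      (∀ g ∈ GF ((osB m).sy_id.F k p e) ((osB m).G k), g ^ 2 ∈ t.H0) ∧ ∀ z, t.π z = 1 → z ^ 2 = 1 := by
  have := finB m
  rw [← coe_oddForm] at hg ⊢
  exact (bcB f m e).sit (osB m).sy_id (fun _ => h2) hk he hF (nice_of (nondeg_oddForm _ _ fun h => h2 (by
    rw [← map_ofNat f, h, map_zero])) (by simp; omega) (inr (inl ⟨0, by omega⟩)) (by simp [coe_oddForm, quadFormOdd_apply]))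
    (⟨0, by omega⟩, true) (admQ_one p) AdmQ.mul (decB f hk he h2 (⟨0, by omega⟩, true)) hg

omit f h2 [IsAlgClosed k] in
theorem two_ne (hodd : Odd (Fintype.card F)) (he : 0 < e) : (2 : k) ≠ 0 := fun h => by
  have h1 : p ∣ 2 := (CharP.cast_eq_zero_iff k p 2).1 h
  rw [hF, (Nat.prime_dvd_prime_iff_eq Fact.out Nat.prime_two).1 h1] at hodd
  exact (Nat.not_even_iff_odd.2 hodd) (even_two.pow_of_ne_zero he.ne')

/-- **the situation of `Ω` in odd dimension, rank at least three** -/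
theorem sitB (hodd : Odd (Fintype.card F)) (hm : 3 ≤ m) :
    ∃ t : Sit (datB m h2 hk he) (AdmQ p) (POmega F (quadFormOdd m F)),
      (∀ g ∈ GF ((osB m).sy_id.F k p e) ((osB m).G k), g ^ 2 ∈ t.H0) ∧ ∀ z, t.π z = 1 → z ^ 2 = 1 :=
  sitB_of f hF hk he h2 (by omega) (S2694.result hodd hm)

end B

end Cfsg.Agent.KZ.Dat.Om
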