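import Cfsg.Agent.KZ.Dat.GlS
import Cfsg.Agent.KZ.ClA.Defs
import Cfsg.Agent.KZ.ClM.Mat
import Cfsg.Agent.S0277

/-!
# KZ: the packages of type `A` (helper46)

`alikeL`, `alikeU`, `hasA_psl`, `hasA_psu` (for `KZ.ClA`); `amL`, `amU`, `hasM_psl`, `hasM_psu` (for `KZ.ClM`).
-/

set_option autoImplicit false
set_option linter.unusedSectionVars false

namespace Cfsg.Agent.KZ.Dat

open Cfsg Matrix Cfsg.Agent.DL Cfsg.Agent.DL.PP Cfsg.Agent.Nodes.RootsA Cfsg.Agent.ODD.C2 Cfsg.Agent.KZ.Lie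
  Cfsg.Agent.KZ.ClA Cfsg.Agent.KZ.ClM

attribute [local instance] finite_WA

theorem prod_gl (q n : ℕ) : ∏ i ∈ Finset.range n, (q ^ n - q ^ i) =
    q ^ (∑ i ∈ Finset.range n, i) * ∏ i ∈ Finset.range n, (q ^ (i + 1) - 1) := by
  rw [← Finset.prod_pow_eq_pow_sum, ← Finset.prod_range_reflect (fun i => q ^ (i + 1) - 1), ← Finset.prod_mul_distrib]
  refine Finset.prod_congr rfl fun i hi => ?_
  rw [Finset.mem_range] at hi
  rw [Nat.mul_sub, mul_one, ← pow_add, show i + (n - 1 - i + 1) = n by omega]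

theorem abs_L {q : ℕ} (hq : 0 < q) (i : ℕ) : ((q : ℤ) ^ (i + 1) - 1).natAbs = q ^ (i + 1) - 1 := by
  have := Nat.one_le_pow (i + 1) q hq
  rw [← Nat.cast_pow]
  omega

theorem abs_U {q : ℕ} (hq : 0 < q) (i : ℕ) :
    ((-q : ℤ) ^ (i + 1) - 1).natAbs = if Even i then q ^ (i + 1) + 1 else q ^ (i + 1) - 1 := by
  have := Nat.one_le_pow (i + 1) q hq
  split_ifs with h
  · rw [h.add_one.neg_pow, ← Nat.cast_pow]
    omega
  · rw [(Nat.not_even_iff_odd.1 h).add_one.neg_pow, ← Nat.cast_pow]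
    omega

variable {n p : ℕ} [Fact p.Prime] {k : Type} [Field k] [CharP k p] [IsAlgClosed k] {F : Type} [Field F] [Fintype F]
  (f : F →+* k) {e : ℕ} (hk : ∀ a : k, ∃ j, 0 < j ∧ a ^ p ^ j = a) (he : 0 < e)

include f in
theorem card_L (hF : Fintype.card F = p ^ e) : Nat.card (GF (1 * frP _ p k e) (GA n k)) =
    p ^ (e * ∑ i ∈ Finset.range (n + 1), i) * ∏ i ∈ Finset.range (n + 1), (((p ^ e : ℕ) : ℤ) ^ (i + 1) - 1).natAbs := by
  rw [card_GFL f hF, card_GL_field, hF, Fin.prod_univ_eq_prod_range (fun i => (p ^ e) ^ (n + 1) - (p ^ e) ^ i), prod_gl,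
    ← pow_mul]
  simp only [abs_L (pow_pos (Fact.out : p.Prime).pos e)]

include f hk he in
theorem card_U (hF : Fintype.card F = (p ^ e) ^ 2) : Nat.card (GF (γA n k * frP _ p k e) (GA n k)) =
    p ^ (e * ((n + 1) * n / 2)) * ∏ i ∈ Finset.range (n + 1), ((-(p ^ e : ℕ) : ℤ) ^ (i + 1) - 1).natAbs := by
  rw [card_GFU f hk he hF, S0277.result hF, ← pow_mul, Nat.add_sub_cancel]
  simp only [abs_U (pow_pos (Fact.out : p.Prime).pos e)]

section gen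

variable {α : MulAut (GL (Fin (n + 1)) k)} {g : (Fin n → ℤ) → Fin n → ℤ} {B : Matrix (Fin (n + 1)) (Fin (n + 1)) ℤ}
  (S : (smA n).Sy (csA n) (isCartan n) α g B)

theorem datA_Wm' (π : Equiv.Perm (Fin (n + 1))) : (datA hk he S).Wm ((pwA n).symm π) = spm π 1 :=
  (datA_Wm hk he S _).trans (by rw [MulEquiv.apply_symm_apply])

theorem datA_rt' {a : Fin n → ℤ} (ha : (datA hk he S).Rt a) : ∃ i j : Fin (n + 1), i ≠ j ∧
    (datA hk he S).wt a = (Pi.single i 1 - Pi.single j 1 : Fin (n + 1) → ℤ) ∧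
    (datA hk he S).cor a = (Pi.single i 1 - Pi.single j 1 : Fin (n + 1) → ℤ) := by
  obtain ⟨i, j, hij, rfl⟩ := (datA_rt hk he S a).1 ha
  exact ⟨i, j, hij, datA_wt hk he S i j, (datA_cor hk he S ha).trans (datA_wt hk he S i j)⟩

theorem cen_A {Adm : _ → Prop} {T : Type} [Group T] (s : Sit (datA hk he S) Adm T)
    (hs : ∀ y ∈ s.H0, GeneralLinearGroup.det y = 1) (z : s.H0) (hz : s.π z = 1) :
    ∃ t : kˣ, t ^ Fintype.card (Fin (n + 1)) = 1 ∧ (z : GL (Fin (n + 1)) k) = (datA hk he S).τ fun _ => t := by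
  obtain ⟨t, ht⟩ := (cen_iff _).1 ((s.ker z).1 hz)
  refine ⟨t, ?_, ht⟩
  rw [← hs _ z.2, ht, ← Finset.card_univ, ← Finset.prod_const]
  exact (datA_det hk he S fun _ => t).symm

end gen

theorem admA_eq {A : Matrix (Fin (n + 1)) (Fin (n + 1)) ℤ} (h : AdmA p n A) :
    ∃ (j : ℕ) (s : ℤˣ) (π : Equiv.Perm (Fin (n + 1))), A = ((s : ℤ) * (p : ℤ) ^ j) • spm π 1 := by
  obtain ⟨j, rfl | rfl⟩ := h
  · exact ⟨j, 1, 1, by rw [spm_one, Units.val_one, one_mul]⟩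
  · exact ⟨j, -1, Fin.revPerm, by rw [BA_eq, Units.val_neg, Units.val_one, neg_one_mul, smul_neg, neg_smul]⟩

theorem AdmQ.admA {A : Matrix (Fin (n + 1)) (Fin (n + 1)) ℤ} (h : AdmQ p A) : AdmA p n A := h.imp fun _ => .inl

omit [Fact p.Prime] in
theorem Mx_U : (p : ℤ) ^ e • BA n = (-(p ^ e : ℕ) : ℤ) • spm Fin.revPerm 1 := by
  rw [BA_eq, smul_neg, neg_smul, Nat.cast_pow]

theorem not_dvd_pow (hp : p ≠ 3) (s : ℤˣ) (j : ℕ) : ¬ (3 : ℤ) ∣ s * (p : ℤ) ^ j := fun h =>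
  hp ((Nat.prime_dvd_prime_iff_eq Nat.prime_three Fact.out).1 (Nat.prime_three.dvd_of_dvd_pow (n := j)
    (by exact_mod_cast (Units.dvd_mul_left.1 h)))).symm

/-- `PSL` -/
noncomputable def alikeL [Fintype (GF (1 * frP _ p k e) (GA n k))] (hp : p ≠ 3) (hF : Fintype.card F = p ^ e) (hn : 1 ≤ n)
    (h4 : n = 1 → 4 ≤ Fintype.card F) : ALike (covL f hk he hF hn h4).sit (p ^ e : ℕ) where
  e := pwA n
  Wm_eq := datA_Wm hk he _
  w0 := 1
  hQ := by rw [Datum.Wm_one, Matrix.one_mul, Nat.cast_pow]; rfl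
  adm _ h := let ⟨j, s, π, h1⟩ := admA_eq h; ⟨_, (pwA n).symm π, not_dvd_pow hp s j, h1.trans (congrArg _ (datA_Wm' hk he _ π).symm)⟩
  rt _ := datA_rt' hk he _
  cen := cen_A hk he _ _ fun y hy => ((covL_H0 f hk he hF hn h4 y).1 hy).2

/-- `PSU` -/
noncomputable def alikeU [Fintype (GF (γA n k * frP _ p k e) (GA n k))] (hp : p ≠ 3) (hF : Fintype.card F = (p ^ e) ^ 2)
    (hn : 2 ≤ n) (h2 : ¬ (n = 2 ∧ p ^ e = 2)) : ALike (covU f hk he hF hn h2).sit (-(p ^ e : ℕ)) where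
  e := pwA n
  Wm_eq := datA_Wm hk he _
  w0 := (pwA n).symm Fin.revPerm
  hQ := by
    show (okA n).wm hk he syG _ * ((p : ℤ) ^ e • BA n) = (-(p ^ e : ℕ) : ℤ) • (1 : Matrix (Fin (n + 1)) (Fin (n + 1)) ℤ)
    rw [wm_A, MulEquiv.apply_symm_apply, Mx_U, mul_smul_comm, ← neg_mul_neg, ← BA_eq, BA_BA]
  adm _ h := let ⟨j, s, π, h1⟩ := admA_eq h.admA
    ⟨_, (pwA n).symm π, not_dvd_pow hp s j, h1.trans (congrArg _ (datA_Wm' hk he _ π).symm)⟩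
  rt _ := datA_rt' hk he _
  cen := cen_A hk he _ _ fun y hy => ((covU_H0 f hk he hF hn h2 y).1 hy).2

include f in
theorem amL (hF : Fintype.card F = p ^ e) (h3 : (3 : ℤ) ∣ (p ^ e : ℕ) + 1) : AM (datL n hk he) (AdmA p n) (p ^ e : ℕ) where
  ex π := ⟨_, datA_Wm' hk he _ π⟩
  wm w := ⟨_, datA_Wm hk he _ w⟩
  mx := ⟨1, by rw [spm_one, Nat.cast_pow]; rfl⟩
  rt _ := datA_rt' hk he _
  rt' i j hij := ⟨_, (datA_rt hk he _ _).2 ⟨i, j, hij, rfl⟩, datA_wt hk he _ i j⟩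
  adm _ := admA_eq
  Q3 := h3
  Qp := ⟨e, he, Int.natAbs_natCast _⟩
  card := ⟨_, (card_L f hF).trans (by rw [show Fintype.card (datL n hk he).R = n + 1 from Fintype.card_fin _])⟩

include f in
theorem amU (hF : Fintype.card F = (p ^ e) ^ 2) (h3 : (3 : ℤ) ∣ -(p ^ e : ℕ) + 1) :
    AM (datU n hk he) (AdmQ p) (-(p ^ e : ℕ)) where
  ex π := ⟨_, datA_Wm' hk he _ π⟩
  wm w := ⟨_, datA_Wm hk he _ w⟩
  mx := ⟨Fin.revPerm, Mx_U⟩
  rt _ := datA_rt' hk he _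
  rt' i j hij := ⟨_, (datA_rt hk he _ _).2 ⟨i, j, hij, rfl⟩, datA_wt hk he _ i j⟩
  adm _ h := admA_eq h.admA
  Q3 := h3
  Qp := ⟨e, he, (Int.natAbs_neg _).trans (Int.natAbs_natCast _)⟩
  card := ⟨_, (card_U f hk he hF).trans (by rw [show Fintype.card (datU n hk he).R = n + 1 from Fintype.card_fin _])⟩

omit f hk he

theorem hasA_psl {m : ℕ} (hm : 2 ≤ m) (h4 : m = 2 → 4 ≤ Fintype.card F) (h3 : ¬ 3 ∣ Fintype.card F) :
    HasA m (Fintype.card F) (ProjectiveSpecialLinearGroup (Fin m) F) := by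
  obtain ⟨n, rfl⟩ : ∃ n, m = n + 1 := ⟨m - 1, by omega⟩
  obtain ⟨p, _, e, k, _, _, _, f, hk, he, hF⟩ := hasL F
  have hp : p ≠ 3 := fun h => h3 (by rw [hF, h]; exact dvd_pow_self 3 he.ne')
  have := (datL n hk he).amb.finite_GF (GA n k)
  have := Fintype.ofFinite (GF (1 * frP _ p k e) (GA n k))
  rw [hF]
  exact ⟨p, ‹_›, k, _, ‹_›, ‹_›, _, _, _, _, _, _, _, _, datL n hk he, this, _, _, hp, Fintype.card_fin _,
    ⟨alikeL f hk he hp hF (by omega) fun h => h4 (by omega)⟩⟩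

theorem hasA_psu {m q : ℕ} (hF : Fintype.card F = q ^ 2) (hm : 3 ≤ m) (h2 : ¬ (m = 3 ∧ q = 2)) (h3 : ¬ 3 ∣ q) :
    HasA m (-q) (PSU m F q) := by
  obtain ⟨n, rfl⟩ : ∃ n, m = n + 1 := ⟨m - 1, by omega⟩
  obtain ⟨p, _, e, k, _, _, _, f, hk, he, rfl⟩ := hasU F hF
  have hp : p ≠ 3 := fun h => h3 (by rw [h]; exact dvd_pow_self 3 he.ne')
  have := (datU n hk he).amb.finite_GF (GA n k)
  have := Fintype.ofFinite (GF (γA n k * frP _ p k e) (GA n k))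
  exact ⟨p, ‹_›, k, _, ‹_›, ‹_›, _, _, _, _, _, _, _, _, datU n hk he, this, _, _, hp, Fintype.card_fin _,
    ⟨alikeU f hk he hp hF (by omega) fun h => h2 ⟨by omega, h.2⟩⟩⟩

/-- the group `S` has a datum of type `A ^ (-ε)` -/
def HasM (m : ℕ) (Q : ℤ) (S : Type) [Group S] : Prop :=
  ∃ (p : ℕ) (_ : Fact p.Prime) (k : Type) (_ : Field k) (_ : CharP k p) (_ : IsAlgClosed k) (Y : Type) (_ : Group Y)
    (N : Type) (_ : Fintype N) (_ : DecidableEq N) (ρ : Y →* GL N k) (F : MulAut Y) (G : Subgroup Y) (D : Datum p ρ F G)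
    (_ : Fintype ↥(GF F G)) (Adm : Matrix D.R D.R ℤ → Prop) (s : Sit D Adm S),
    Fintype.card D.R = m ∧ AM D Adm Q ∧ Nonempty (ALike s Q)

theorem hasM_psl {m : ℕ} (hm : 2 ≤ m) (h4 : m = 2 → 4 ≤ Fintype.card F) (h3 : 3 ∣ Fintype.card F + 1) :
    HasM m (Fintype.card F) (ProjectiveSpecialLinearGroup (Fin m) F) := by
  obtain ⟨n, rfl⟩ : ∃ n, m = n + 1 := ⟨m - 1, by omega⟩
  obtain ⟨p, _, e, k, _, _, _, f, hk, he, hF⟩ := hasL F
  have h1 := amL (n := n) f hk he hF (by rw [← hF]; exact_mod_cast h3)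
  have := (datL n hk he).amb.finite_GF (GA n k)
  have := Fintype.ofFinite (GF (1 * frP _ p k e) (GA n k))
  rw [hF]
  exact ⟨p, ‹_›, k, _, ‹_›, ‹_›, _, _, _, _, _, _, _, _, datL n hk he, this, _, _, Fintype.card_fin _, h1,
    ⟨alikeL f hk he h1.p_ne hF (by omega) fun h => h4 (by omega)⟩⟩

theorem hasM_psu {m q : ℕ} (hF : Fintype.card F = q ^ 2) (hm : 3 ≤ m) (h3 : (3 : ℤ) ∣ -q + 1) : HasM m (-q) (PSU m F q) := by
  obtain ⟨n, rfl⟩ : ∃ n, m = n + 1 := ⟨m - 1, by omega⟩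
  obtain ⟨p, _, e, k, _, _, _, f, hk, he, rfl⟩ := hasU F hF
  have h1 := amU (n := n) f hk he hF h3
  have := (datU n hk he).amb.finite_GF (GA n k)
  have := Fintype.ofFinite (GF (γA n k * frP _ p k e) (GA n k))
  exact ⟨p, ‹_›, k, _, ‹_›, ‹_›, _, _, _, _, _, _, _, _, datU n hk he, this, _, _, Fintype.card_fin _, h1,
    ⟨alikeU f hk he h1.p_ne hF (by omega) fun h => by rw [h.2] at h3; omega⟩⟩

end Cfsg.Agent.KZ.Dat
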