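import Cfsg.Agent.KZ.Dat.GlD
import Cfsg.Agent.KZ.Dat.AuOf
import Cfsg.Agent.S2689
import Cfsg.Agent.S2691

/-!
# KZ: `PSL` and `PSU` as sections of `GL (n + 1) (q)`, `GU (n + 1) (q)` (helper46)

`covL`, `covU` (`.sit` is the situation); `mem_ιL`, `mem_ιU` (determinant one); `eqvL`, `eqvU` (the finite groups);
`hasL`, `hasU`.
-/

set_option autoImplicit false
set_option linter.unusedSectionVars false

namespace Cfsg.Agent.KZ.Dat

open Cfsg Cfsg.Agent.Tits.Roots Matrix Cfsg.Agent.LangThm Cfsg.Agent.DL Cfsg.Agent.DL.PP Cfsg.Agent.DL.Uni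
  Cfsg.Agent.Nodes.RootsA Cfsg.Agent.ODD.C2 Cfsg.Agent.ODD.C2.GlA Cfsg.Agent.KZ.Lie

attribute [local instance] finite_WA

/-- field and graph automorphisms -/
def AdmA (p n : ℕ) (A : Matrix (Fin (n + 1)) (Fin (n + 1)) ℤ) : Prop :=
  ∃ j : ℕ, A = (p : ℤ) ^ j • (1 : Matrix (Fin (n + 1)) (Fin (n + 1)) ℤ) ∨ A = (p : ℤ) ^ j • BA n

theorem AdmA.mul {p n : ℕ} (A B : Matrix (Fin (n + 1)) (Fin (n + 1)) ℤ) (h : AdmA p n A) (h' : AdmA p n B) :
    AdmA p n (A * B) := by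
  obtain ⟨i, rfl | rfl⟩ := h <;> obtain ⟨j, rfl | rfl⟩ := h' <;> refine ⟨i + j, ?_⟩ <;>
    simp only [smul_mul_smul_comm, pow_add, one_mul, mul_one, BA_BA, true_or, or_true]

theorem mem_GU_iff {F : Type*} [Field F] {n q : ℕ} {σ : F →+* F} (hs : ∀ x, σ x = x ^ q) (g : GL (Fin n) F) :
    g ∈ GU n F q ↔ g ∈ GUs σ (Fin n) := by
  have key : ∀ (A : Matrix (Fin n) (Fin n) F) u v,
      hermForm n F q (A *ᵥ u) (A *ᵥ v) = hermForm n F q ((st σ A * A) *ᵥ u) v := by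
    intro A u v
    simp only [hermForm, ← hs, ← mulVec_mulVec]
    simp only [mulVec, dotProduct, st, transpose_apply, map_apply, map_sum, map_mul, Finset.mul_sum, Finset.sum_mul]
    rw [Finset.sum_comm]
    exact Finset.sum_congr rfl fun i _ => Finset.sum_congr rfl fun j _ => Finset.sum_congr rfl fun l _ => by ring
  refine ⟨fun hg => Matrix.ext fun i j => ?_, fun hg u v => (key g u v).trans (by rw [(mem_GUs σ).1 hg, one_mulVec])⟩
  simpa [hermForm, ← hs, Pi.single_apply, one_apply, apply_ite σ, eq_comm] using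
    (key _ _ _).symm.trans (hg (Pi.single j 1) (Pi.single i 1))

variable {n p : ℕ} [Fact p.Prime] {k : Type} [Field k] [CharP k p] [IsAlgClosed k]

/-- the covering by the elements of determinant one -/
def covDet {Φ : MulAut (GL (Fin (n + 1)) k)} {D : Datum p (MonoidHom.id _) Φ (GA n k)} {Adm : Matrix D.R D.R ℤ → Prop}
    {St : Type} [Group St] (qs : D.QS) (h1 : Adm 1) (ι : St →* GL (Fin (n + 1)) k) (inj : Function.Injective ι)
    (mem : ∀ y, y ∈ ι.range ↔ y ∈ GF Φ (GA n k) ∧ GeneralLinearGroup.det y = 1)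
    (cen : ∀ s ∈ Subgroup.center St, ∃ a : kˣ, ι s = (mnA n).τ k (coch 1 a))
    (aut : ∀ σ, Lf D Adm ι (QuotientGroup.mk' (Subgroup.center St)) σ) : Cov D Adm St (St ⧸ Subgroup.center St) where
  qs := qs
  adm_one := h1
  ι := ι
  inj := inj
  mem s := ((mem _).1 ⟨s, rfl⟩).1
  comm a ha b hb := (mem _).2 ⟨mul_mem (mul_mem (mul_mem ha hb) (inv_mem ha)) (inv_mem hb), by
    rw [map_mul, map_mul, map_mul, map_inv, map_inv, mul_inv_cancel_comm, mul_inv_cancel]⟩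
  uni u hu h := let ⟨j, hj⟩ := h; (mem _).2 ⟨hu, eq_one_of_pow (p := p) (j := j) (by
    rw [← map_pow, ← hj, pow_orderOf_eq_one, map_one])⟩
  q := QuotientGroup.mk' _
  surj := QuotientGroup.mk'_surjective _
  ker s := (QuotientGroup.eq_one_iff s).trans ⟨fun h y _ => by
    obtain ⟨a, ha⟩ := cen s h
    rw [ha, τ_scalar_comm], fun h => Subgroup.mem_center_iff.2 fun g => inj (by rw [map_mul, map_mul, h _ (mem_GA _)])⟩
  aut := aut

variable {F : Type} [Field F] [Fintype F] (f : F →+* k) {e : ℕ}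

/-! ### linear groups -/

theorem mem_GFL {y : GL (Fin (n + 1)) k} : y ∈ GF (1 * frP _ p k e) (GA n k) ↔ y ∈ lv _ p k e :=
  ⟨fun h => h.2, fun h => ⟨mem_GA y, h⟩⟩

theorem range_L (hF : Fintype.card F = p ^ e) : (GeneralLinearGroup.map f).range = GF (1 * frP _ p k e) (GA n k) :=
  Subgroup.ext fun _ => ⟨fun ⟨g, hg⟩ => hg ▸ mem_GFL.2 (glmap_mem_lv f hF g), fun h => exists_glmap f hF (mem_GFL.1 h)⟩

/-- `GL (n + 1) F` is the group of fixed points -/
noncomputable def eqvL (hF : Fintype.card F = p ^ e) : GL (Fin (n + 1)) F ≃* GF (1 * frP _ p k e) (GA n k) :=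
  (MonoidHom.ofInjective (glmap_inj f)).trans (MulEquiv.subgroupCongr (range_L f hF))

theorem mem_ιL (hF : Fintype.card F = p ^ e) (y : GL (Fin (n + 1)) k) :
    y ∈ (ιL n f).range ↔ y ∈ GF (1 * frP _ p k e) (GA n k) ∧ GeneralLinearGroup.det y = 1 := by
  rw [← range_L f hF]
  constructor
  · rintro ⟨s, rfl⟩
    exact ⟨⟨_, rfl⟩, det_ιL f s⟩
  · rintro ⟨⟨g, rfl⟩, h⟩
    obtain ⟨s, rfl⟩ := exists_sl f h
    exact ⟨s, rfl⟩

theorem det_GFL {y : GL (Fin (n + 1)) k} (hy : y ∈ GF (1 * frP _ p k e) (GA n k)) :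
    GeneralLinearGroup.det y ^ p ^ e = GeneralLinearGroup.det y := by rw [← det_frob, show frob p e y = y from hy.2]

theorem τ_mem_GFL {c : Fin (n + 1) → kˣ} : (smA n).τ k c ∈ GF (1 * frP _ p k e) (GA n k) ↔ c ^ p ^ e = c :=
  mem_GFL.trans (smA n).τ_mem_lv

theorem exists_sl_conj (g : GL (Fin (n + 1)) F) (σ : F →+* F) (s : SpecialLinearGroup (Fin (n + 1)) F) :
    ∃ s' : SpecialLinearGroup (Fin (n + 1)) F,
      SpecialLinearGroup.toGL s' = g * GeneralLinearGroup.map σ (SpecialLinearGroup.toGL s) * g⁻¹ :=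
  exists_sl (RingHom.id F) (show GeneralLinearGroup.det (g * ιL n σ s * g⁻¹) = 1 by
    rw [map_mul, map_mul, map_inv, mul_inv_cancel_comm, det_ιL])

variable (hk : ∀ a : k, ∃ j, 0 < j ∧ a ^ p ^ j = a) (he : 0 < e)

theorem autL (hF : Fintype.card F = p ^ e) (hn : 1 ≤ n) (h4 : n = 1 → 4 ≤ Fintype.card F)
    (β : MulAut (ProjectiveSpecialLinearGroup (Fin (n + 1)) F)) :
    Lf (datL n hk he) (AdmA p n) (ιL n f) (QuotientGroup.mk' _) β := by
  have : CharP F p := charP_of_card_eq_prime_pow hF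
  have h1 := S2689.result hF he (n := n + 1) (by omega) fun h => h4 (by omega)
  rw [gammaPSL, autSubgroupOf, autSubgroupOf, ← Subgroup.closure_union] at h1
  refine lf_of_closure ⟨0, .inl (by rw [pow_zero, one_smul]; rfl)⟩ AdmA.mul ?_ (h1.ge (Subgroup.mem_top β))
  rintro β (⟨g, σ, h⟩ | h)
  · obtain ⟨j, hj⟩ := exists_frob p σ
    refine ⟨_, (range_L f hF).le ⟨g, rfl⟩, _, _, (okA n).au_fr hk he _ j, ⟨j, .inl rfl⟩, fun s => ?_⟩
    obtain ⟨s', hs⟩ := exists_sl_conj g σ s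
    refine ⟨s', (congrArg (GeneralLinearGroup.map f) hs).trans ?_, (h s s' (congrArg Units.val hs)).symm⟩
    rw [map_mul, map_mul, map_inv, ← frob_glmap f (σ := σ) hj]
    rfl
  · refine ⟨_, inv_mem (mem_GFL.2 (map_pm _ Fin.revPerm)), _, _, (okA n).au_sy hk he _ syG (fun _ _ h i => h _)
      (Commute.one_right _), ⟨0, .inr (by rw [pow_zero, one_smul])⟩, fun s => ?_⟩
    obtain ⟨s', hs⟩ := exists_sl f (g := itA _ F (SpecialLinearGroup.toGL s)) (by
      rw [map_itA, det_itA, inv_eq_one]; exact det_ιL f s)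
    refine ⟨s', (congrArg (GeneralLinearGroup.map f) hs).trans ?_, (h s s' (congrArg Units.val hs)).symm⟩
    rw [map_itA, MulAut.mul_apply, MulAut.conj_apply, inv_inv, ← mul_assoc, inv_mul_cancel_right, inv_mul_cancel_left]
    rfl

/-- **`PSL (n + 1) F`** -/
noncomputable def covL (hF : Fintype.card F = p ^ e) (hn : 1 ≤ n) (h4 : n = 1 → 4 ≤ Fintype.card F) :
    Cov (datL n hk he) (AdmA p n) (SpecialLinearGroup (Fin (n + 1)) F) (ProjectiveSpecialLinearGroup (Fin (n + 1)) F) :=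
  covDet (datL_qs n hk he) ⟨0, .inl (by rw [pow_zero, one_smul]; rfl)⟩ (ιL n f) (ιL_inj f) (mem_ιL f hF)
    (fun _ => center_ιL f) (autL f hk he hF hn h4)

theorem covL_H0 (hF : Fintype.card F = p ^ e) (hn : 1 ≤ n) (h4 : n = 1 → 4 ≤ Fintype.card F) (y : GL (Fin (n + 1)) k) :
    y ∈ (covL f hk he hF hn h4).sit.H0 ↔ y ∈ GF (1 * frP _ p k e) (GA n k) ∧ GeneralLinearGroup.det y = 1 := mem_ιL f hF y

/-! ### unitary groups -/

omit hk he in
theorem mem_GFU {y : GL (Fin (n + 1)) k} : y ∈ GF (γA n k * frP _ p k e) (GA n k) ↔ γA n k (frob p e y) = y :=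
  ⟨fun h => h.2, fun h => ⟨mem_GA y, h⟩⟩

omit hk he in
theorem det_GFU {y : GL (Fin (n + 1)) k} (hy : y ∈ GF (γA n k * frP _ p k e) (GA n k)) :
    GeneralLinearGroup.det y ^ (p ^ e + 1) = 1 := by
  have h := congrArg GeneralLinearGroup.det (mem_GFU.1 hy)
  rw [det_γA, det_frob, inv_eq_iff_mul_eq_one] at h
  rw [pow_succ, h]

omit hk he in
theorem τ_mem_GFU {c : Fin (n + 1) → kˣ} :
    (smA n).τ k c ∈ GF (γA n k * frP _ p k e) (GA n k) ↔ ∀ j, (c j.rev ^ p ^ e)⁻¹ = c j := by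
  rw [mem_GFU, (smA n).frob_τ, syG.τ, ((smA n).τ_inj k).eq_iff, funext_iff]
  exact forall_congr' fun j => by rw [mon_BA, Pi.pow_apply]

variable (n) in
include hk he in
/-- Lang's theorem for the standard unitary form -/
theorem exists_lz : ∃ z : GL (Fin (n + 1)) k, pm k Fin.revPerm = z * (itA _ k (frob p e z))⁻¹ :=
  let ⟨z, _, hz⟩ := ((okA n).datT hk he (smA n).sy_it).lang_G' (mem_GA (pm k Fin.revPerm)); ⟨z, hz⟩

variable (n) in
/-- the change of the form -/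
noncomputable def lz : GL (Fin (n + 1)) k := (exists_lz n hk he).choose

theorem lz_spec : pm k Fin.revPerm = lz n hk he * (itA _ k (frob p e (lz n hk he)))⁻¹ := (exists_lz n hk he).choose_spec

theorem conj_GFU (y : GL (Fin (n + 1)) k) :
    lz n hk he * y * (lz n hk he)⁻¹ ∈ GF (γA n k * frP _ p k e) (GA n k) ↔ itA _ k (frob p e y) = y := by
  rw [mem_GFU, MulAut.mul_apply, MulAut.conj_apply, lz_spec hk he, map_mul, map_mul, map_mul, map_mul, map_inv, map_inv,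
    mul_assoc (lz n hk he) _⁻¹, ← mul_assoc _⁻¹, inv_mul_cancel_left, _root_.mul_inv_rev, inv_inv, ← mul_assoc,
    ← mul_assoc, inv_mul_cancel_right, mul_left_inj, mul_right_inj]

theorem lz_mem (j : ℕ) : lz n hk he * (frob p j (lz n hk he))⁻¹ ∈ GF (γA n k * frP _ p k e) (GA n k) := by
  have h1 := lz_spec (n := n) hk he
  have h2 := congrArg (frob p j) h1
  have h3 : frob p j (itA _ k (frob p e (lz n hk he))) = itA _ k (frob p e (frob p j (lz n hk he))) :=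
    (map_itA _ _).trans (congrArg _ (DFunLike.congr_fun (frP_comm j e).eq _))
  rw [show frob p j (pm k Fin.revPerm) = _ from map_pm _ _, map_mul, map_inv, h3] at h2
  rw [mem_GFU, MulAut.mul_apply, MulAut.conj_apply, map_mul, map_mul, map_inv, map_inv]
  nth_rw 1 [h1]
  rw [h2]
  group

omit hk he in
theorem it_iff (hF : Fintype.card F = (p ^ e) ^ 2) (g : GL (Fin (n + 1)) F) :
    itA _ k (frob p e (GeneralLinearGroup.map f g)) = GeneralLinearGroup.map f g ↔ g ∈ GU (n + 1) F (p ^ e) := by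
  have : CharP F p := charP_of_card_eq_prime_pow (hF.trans (pow_mul p e 2).symm)
  rw [frob_glmap f (iterateFrobenius_def p e), ← map_itA, (glmap_inj f).eq_iff, mem_GU_iff (iterateFrobenius_def p e),
    mem_GUs, ← inv_mul_eq_one, Units.ext_iff]
  rfl

/-- the embedding of `GU` -/
noncomputable def jU : GU (n + 1) F (p ^ e) →* GL (Fin (n + 1)) k :=
  (MulAut.conj (lz n hk he)).toMonoidHom.comp ((GeneralLinearGroup.map f).comp (GU (n + 1) F (p ^ e)).subtype)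

theorem range_U (hF : Fintype.card F = (p ^ e) ^ 2) : (jU f hk he).range = GF (γA n k * frP _ p k e) (GA n k) := by
  refine Subgroup.ext fun y => ⟨fun ⟨g, hg⟩ => hg ▸ (conj_GFU hk he _).2 ((it_iff f hF _).2 g.2), fun h => ?_⟩
  obtain ⟨y, rfl⟩ := (MulAut.conj (lz n hk he)).surjective y
  have h1 := (conj_GFU hk he y).1 h
  obtain ⟨g, rfl⟩ := exists_glmap f (e := 2 * e) (by rw [hF, ← pow_mul, mul_comm])
    (((smA n).sy_it (cs := csA n) (h := isCartan n)).fix_le (d := 2) (by rw [sq]; rfl) e h1)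
  exact ⟨⟨g, (it_iff f hF g).1 h1⟩, rfl⟩

/-- `GU (n + 1) F q` is the group of fixed points -/
noncomputable def eqvU (hF : Fintype.card F = (p ^ e) ^ 2) : GU (n + 1) F (p ^ e) ≃* GF (γA n k * frP _ p k e) (GA n k) :=
  (MonoidHom.ofInjective (f := jU f hk he) ((MulAut.conj _).injective.comp ((glmap_inj f).comp Subtype.val_injective))).trans
    (MulEquiv.subgroupCongr (range_U f hk he hF))

theorem mem_ιU (hF : Fintype.card F = (p ^ e) ^ 2) (y : GL (Fin (n + 1)) k) : y ∈ (ιU (lz n hk he) f (p ^ e)).range ↔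
    y ∈ GF (γA n k * frP _ p k e) (GA n k) ∧ GeneralLinearGroup.det y = 1 := by
  rw [← range_U f hk he hF]
  constructor
  · rintro ⟨s, rfl⟩
    exact ⟨⟨⟨SpecialLinearGroup.toGL s.1, s.2⟩, rfl⟩, by
      rw [ιU_apply, map_mul, map_mul, det_ιL, mul_one, map_inv, mul_inv_cancel]⟩
  · rintro ⟨⟨⟨g, hg⟩, rfl⟩, h⟩
    have h1 : GeneralLinearGroup.det (lz n hk he * GeneralLinearGroup.map f g * (lz n hk he)⁻¹) = 1 := h
    rw [map_mul, map_mul, map_inv, mul_inv_cancel_comm] at h1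
    obtain ⟨s, rfl⟩ := exists_sl f h1
    exact ⟨⟨s, hg⟩, rfl⟩

theorem autU (hF : Fintype.card F = (p ^ e) ^ 2) (hn : 2 ≤ n) (h2 : ¬ (n = 2 ∧ p ^ e = 2)) (β : MulAut (PSU (n + 1) F (p ^ e))) :
    Lf (datU n hk he) (AdmQ p) (ιU (lz n hk he) f (p ^ e)) (QuotientGroup.mk' _) β := by
  have : CharP F p := charP_of_card_eq_prime_pow (hF.trans (pow_mul p e 2).symm)
  have h1 := S2691.result rfl he hF (n := n + 1) (by omega) fun h => h2 ⟨by omega, h.2⟩
  refine lf_of_closure (admQ_one p) AdmQ.mul ?_ (h1.ge (Subgroup.mem_top β))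
  rintro β ⟨g, σ, hg, h⟩
  obtain ⟨j, hj⟩ := exists_frob p σ
  have h3 := mul_mem ((range_U f hk he hF).le ⟨⟨g, hg⟩, rfl⟩) (lz_mem hk he j)
  refine ⟨_, h3, _, _, (okA n).au_fr hk he _ j, ⟨j, rfl⟩, fun s => ?_⟩
  obtain ⟨s', hs⟩ := exists_sl_conj g σ s
  have h4 : lz n hk he * ιL n f s' * (lz n hk he)⁻¹ = jU f hk he ⟨g, hg⟩ * (lz n hk he * (frob p j (lz n hk he))⁻¹) *
      frob p j (ιU (lz n hk he) f (p ^ e) s) * (jU f hk he ⟨g, hg⟩ * (lz n hk he * (frob p j (lz n hk he))⁻¹))⁻¹ := by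
    rw [show ιL n f s' = _ from congrArg (GeneralLinearGroup.map f) hs, map_mul, map_mul, map_inv,
      ← frob_glmap f (σ := σ) hj, ιU_apply, map_mul, map_mul, map_inv,
      show jU f hk he ⟨g, hg⟩ = lz n hk he * GeneralLinearGroup.map f g * (lz n hk he)⁻¹ from rfl,
      show ιL n f s = GeneralLinearGroup.map f (SpecialLinearGroup.toGL s.1) from rfl]
    group
  have h5 : s' ∈ SU (n + 1) F (p ^ e) := (it_iff f hF (SpecialLinearGroup.toGL s')).1 ((conj_GFU hk he _).1 (h4 ▸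
    mul_mem (mul_mem h3 (au_GF ((okA n).au_fr hk he syG j) ((mem_ιU f hk he hF _).1 ⟨s, rfl⟩).1)) (inv_mem h3)))
  exact ⟨⟨s', h5⟩, h4, (h s ⟨s', h5⟩ (congrArg Units.val hs)).symm⟩

/-- **`PSU (n + 1) F q`** -/
noncomputable def covU (hF : Fintype.card F = (p ^ e) ^ 2) (hn : 2 ≤ n) (h2 : ¬ (n = 2 ∧ p ^ e = 2)) :
    Cov (datU n hk he) (AdmQ p) (SU (n + 1) F (p ^ e)) (PSU (n + 1) F (p ^ e)) :=
  covDet (datU_qs n hk he) (admQ_one p) (ιU (lz n hk he) f (p ^ e)) (ιU_inj _ f _) (mem_ιU f hk he hF)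
    (fun _ => center_ιU _ f hF hn) (autU f hk he hF hn h2)

theorem covU_H0 (hF : Fintype.card F = (p ^ e) ^ 2) (hn : 2 ≤ n) (h2 : ¬ (n = 2 ∧ p ^ e = 2)) (y : GL (Fin (n + 1)) k) :
    y ∈ (covU f hk he hF hn h2).sit.H0 ↔ y ∈ GF (γA n k * frP _ p k e) (GA n k) ∧ GeneralLinearGroup.det y = 1 :=
  mem_ιU f hk he hF y

/-! ### orders, centre, determinants, packages -/

include f in
theorem card_GFL (hF : Fintype.card F = p ^ e) :
    Nat.card (GF (1 * frP _ p k e) (GA n k)) = Nat.card (GL (Fin (n + 1)) F) := Nat.card_congr (eqvL f hF).symm.toEquiv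

include f hk he in
theorem card_GFU (hF : Fintype.card F = (p ^ e) ^ 2) :
    Nat.card (GF (γA n k * frP _ p k e) (GA n k)) = Nat.card (GU (n + 1) F (p ^ e)) :=
  Nat.card_congr (eqvU f hk he hF).symm.toEquiv

omit hk he [CharP k p] [IsAlgClosed k] in
/-- the centre of `GL` -/
theorem cen_iff (z : GL (Fin (n + 1)) k) : (∀ y ∈ GA n k, y * z = z * y) ↔ ∃ a : kˣ, z = (smA n).τ k fun _ => a := by
  have h1 : ∀ a : kˣ, coch (1 : Fin (n + 1) → ℤ) a = fun _ => a := fun a => funext fun _ => zpow_one a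
  refine ⟨fun h => ?_, fun ⟨a, ha⟩ y _ => by rw [ha, ← h1]; exact (τ_scalar_comm a y).symm⟩
  obtain ⟨c, hc⟩ := (Matrix.mem_range_scalar_iff_commute_transvectionStruct (M := (z : Matrix (Fin (n + 1)) (Fin (n + 1)) k))).2
    fun t => by
      have h2 := congrArg Units.val (h _ (mem_GA ((smA n).x k (rtA t.i t.j) t.c)))
      rwa [Units.val_mul, Units.val_mul, coe_xa t.hij] at h2
  obtain ⟨a, ha⟩ := eq_τ_of_scalar (c := c) hc.symm
  exact ⟨a, h1 a ▸ ha⟩

omit hk he in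
theorem exists_det_L {d : kˣ} (hd : d ^ p ^ e = d) :
    ∃ c, (smA n).τ k c ∈ GF (1 * frP _ p k e) (GA n k) ∧ GeneralLinearGroup.det ((smA n).τ k c) = d :=
  ⟨Pi.mulSingle 0 d, τ_mem_GFL.2 (by rw [← Pi.mulSingle_pow, hd]), (det_τA _).trans (chr_one_single _ _)⟩

include hk he in
theorem exists_det_U {d : kˣ} (hd : d ^ (p ^ e + 1) = 1) :
    ∃ y ∈ GF (γA n k * frP _ p k e) (GA n k), GeneralLinearGroup.det y = d :=
  ⟨_, (conj_GFU hk he ((smA n).τ k (Pi.mulSingle 0 d))).2 (by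
    rw [(smA n).frob_τ, (smA n).itA_τ, ← Pi.mulSingle_pow, ← Pi.mulSingle_inv, inv_eq_of_mul_eq_one_right ((pow_succ _ _).symm.trans hd)]),
    by rw [map_mul, map_mul, map_inv, mul_inv_cancel_comm]; exact (det_τA _).trans (chr_one_single _ _)⟩

omit hk he in
/-- the setting for a field with `q` elements -/
theorem hasL (F : Type) [Field F] [Fintype F] : ∃ (p : ℕ) (_ : Fact p.Prime) (e : ℕ) (k : Type) (_ : Field k) (_ : CharP k p)
    (_ : IsAlgClosed k) (_ : F →+* k), (∀ a : k, ∃ j, 0 < j ∧ a ^ p ^ j = a) ∧ 0 < e ∧ Fintype.card F = p ^ e := by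
  obtain ⟨p, _⟩ := CharP.exists F
  obtain ⟨e, hp, h⟩ := FiniteField.card F p
  have := Fact.mk hp
  exact ⟨p, this, e, AlgebraicClosure F, _, inferInstance, inferInstance, algebraMap _ _, lf_closure p F, e.pos, h⟩

omit hk he in
/-- the setting for a field with `q ^ 2` elements -/
theorem hasU (F : Type) [Field F] [Fintype F] {q : ℕ} (hq : Fintype.card F = q ^ 2) : ∃ (p : ℕ) (_ : Fact p.Prime) (e : ℕ)
    (k : Type) (_ : Field k) (_ : CharP k p) (_ : IsAlgClosed k) (_ : F →+* k),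
    (∀ a : k, ∃ j, 0 < j ∧ a ^ p ^ j = a) ∧ 0 < e ∧ q = p ^ e := by
  obtain ⟨p, hp, d, k, _, _, _, f, hk, hd, h⟩ := hasL F
  obtain ⟨e, -, rfl⟩ := (Nat.dvd_prime_pow hp.out).1 (h ▸ hq ▸ dvd_pow_self q two_ne_zero : q ∣ p ^ d)
  refine ⟨p, hp, e, k, _, ‹_›, ‹_›, f, hk, Nat.pos_of_ne_zero ?_, rfl⟩
  rintro rfl
  exact (Fintype.one_lt_card (α := F)).ne' (by rw [hq, pow_zero, one_pow])

end Cfsg.Agent.KZ.Dat
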