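import Cfsg.Agent.KZ.Lie.Iface

/-!
# KZ: automorphisms of a frame, lifts, coverings (helper46)

* `Pre D α` : `α` maps the torus and the (positive) root groups into themselves; `au_of_pre`, `au_one`, `au_mul`, `au_conj`;
* `Lf D Adm ι q σ` : the automorphism `σ` is lifted; `Lf.mul`, `lf_of_closure`, `lf_conj`;
* `Cov D Adm St S` : `ι : St →* G ^ F`, `q : St →* S`; `Cov.sit`.
-/

set_option autoImplicit false
set_option linter.unusedSectionVars false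

namespace Cfsg.Agent.KZ.Dat

open Cfsg.Agent.DL Cfsg.Agent.DL.PP Cfsg.Agent.DL.Uni Cfsg.Agent.KZ.Lie Cfsg.Agent.Nodes.BNOf Cfsg.Agent.Nodes.Bruhat Matrix

variable {p : ℕ} [Fact p.Prime] {k : Type} [Field k] [CharP k p] {Y : Type} [Group Y] {N : Type} [Fintype N]
  [DecidableEq N] {ρ : Y →* GL N k} {F : MulAut Y} {G : Subgroup Y} [IsAlgClosed k] (D : Datum p ρ F G)

/-- `α` maps the frame into itself -/
structure Pre (α : MulAut Y) : Prop where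
  T : ∀ c, α (D.τ c) ∈ D.T
  X : ∀ a, D.Rt a → ∃ b, D.Rt b ∧ (0 ≤ a → 0 ≤ b) ∧ ∀ u, ∃ v, α (D.x a u) = D.x b v

variable {D} {α β : MulAut Y} {A B : Matrix D.R D.R ℤ}

theorem Pre.memT (h : Pre D α) {y : Y} (hy : y ∈ D.T) : α y ∈ D.T := by
  obtain ⟨c, rfl⟩ := (D.mem_T y).1 hy
  exact h.T c

theorem Pre.memU (h : Pre D α) : D.U ≤ D.U.comap α.toMonoidHom := RGD.Sup_le fun a ha y hy => by
  obtain ⟨u, rfl⟩ := (D.mem_X a ha.1 y).1 hy
  obtain ⟨b, h1, h2, h3⟩ := h.X a ha.1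
  obtain ⟨v, h4⟩ := h3 u
  exact RGD.le_Sup (S := RGD.Pos D.cs D.h) ⟨h1, h2 ha.2⟩ ((D.mem_X b h1 _).2 ⟨v, h4.symm⟩)

theorem Pre.memG (h : Pre D α) : G ≤ G.comap α.toMonoidHom := by
  rw [← D.G_eq]
  refine sup_le (fun y hy => Subgroup.mem_sup_left (h.memT hy)) (RGD.Sup_le fun a ha y hy => ?_)
  obtain ⟨u, rfl⟩ := (D.mem_X a ha y).1 hy
  obtain ⟨b, h1, -, h3⟩ := h.X a ha
  obtain ⟨v, h4⟩ := h3 u
  exact Subgroup.mem_sup_right (RGD.le_Sup (S := {x | D.Rt x}) h1 ((D.mem_X b h1 _).2 ⟨v, h4.symm⟩))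

theorem Pre.mul (h : Pre D α) (h' : Pre D β) : Pre D (α * β) :=
  ⟨fun c => h.memT (h'.T c), fun a ha => by
    obtain ⟨b, h1, h2, h3⟩ := h'.X a ha
    obtain ⟨c, h4, h5, h6⟩ := h.X b h1
    refine ⟨c, h4, h5 ∘ h2, fun u => ?_⟩
    obtain ⟨v, h7⟩ := h3 u
    rw [MulAut.mul_apply, h7]
    exact h6 v⟩

theorem pre_one : Pre D 1 := ⟨D.τ_mem, fun a ha => ⟨a, ha, id, fun u => ⟨u, rfl⟩⟩⟩

theorem Pre.pow (h : Pre D α) (n : ℕ) : Pre D (α ^ n) := by
  induction n with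
  | zero => exact pre_one
  | succ n ih => exact pow_succ α n ▸ ih.mul h

theorem Pre.inv (h : Pre D α) (hα : IsOfFinOrder α) : Pre D α⁻¹ := by
  obtain ⟨n, hn⟩ := (hα.powers_eq_zpowers.ge (inv_mem (Subgroup.mem_zpowers α)) : α⁻¹ ∈ Submonoid.powers α)
  exact hn ▸ h.pow n

theorem au_of_pre (h : Pre D α) (h' : Pre D α⁻¹) (hF : ∀ y, α (F y) = F (α y)) (hτ : ∀ c, α (D.τ c) = D.τ (mon A c)) :
    Au D α A :=
  ⟨hF, fun y => ⟨fun hy => α.symm_apply_apply y ▸ h'.memG hy, fun hy => h.memG hy⟩,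
    fun y => ⟨fun hy => α.symm_apply_apply y ▸ h'.memT hy, h.memT⟩,
    fun y => ⟨fun hy => α.symm_apply_apply y ▸ h'.memU hy, fun hy => h.memU hy⟩, hτ⟩

theorem au_one : Au D 1 1 := ⟨fun _ => rfl, fun _ => Iff.rfl, fun _ => Iff.rfl, fun _ => Iff.rfl, fun c => by rw [mon_one]; rfl⟩

theorem au_mul (h : Au D α A) (h' : Au D β B) : Au D (α * β) (A * B) :=
  ⟨fun y => (congrArg α (h'.comm y)).trans (h.comm _), fun y => (h.memG _).trans (h'.memG y),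
    fun y => (h.memT _).trans (h'.memT y), fun y => (h.memU _).trans (h'.memU y),
    fun c => by rw [MulAut.mul_apply, h'.tau, h.tau, mon_mul]⟩

theorem pre_conj (c : D.R → kˣ) : Pre D (MulAut.conj (D.τ c)) :=
  ⟨fun c' => mul_mem (mul_mem (D.τ_mem c) (D.τ_mem c')) (inv_mem (D.τ_mem c)),
    fun a ha => ⟨a, ha, id, fun u => ⟨_, D.tor a ha c u⟩⟩⟩

/-- diagonal automorphisms -/
theorem au_conj {c : D.R → kˣ} (hc : ∀ y, (D.τ c)⁻¹ * F (D.τ c) * y = y * ((D.τ c)⁻¹ * F (D.τ c))) :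
    Au D (MulAut.conj (D.τ c)) 1 := by
  refine au_of_pre (pre_conj c) (by rw [← map_inv, ← map_inv]; exact pre_conj _) (fun y => ?_) fun c' => ?_
  · rw [MulAut.conj_apply, MulAut.conj_apply, map_mul, map_mul, map_inv, ← mul_inv_cancel_left (D.τ c) (F (D.τ c)),
      mul_assoc (D.τ c) (_ * _), hc]
    group
  · rw [mon_one, MulAut.conj_apply, ← map_inv, ← map_mul, ← map_mul, mul_inv_cancel_comm]

theorem au_GF (h : Au D α A) {g : Y} (hg : g ∈ GF F G) : α g ∈ GF F G := (h.aut ⟨g, hg⟩).2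

variable (D) {St S : Type*} [Group St] [Group S]

/-- `σ` is induced by an element of `G ^ F` times an automorphism of the frame -/
def Lf (Adm : Matrix D.R D.R ℤ → Prop) (ι : St →* Y) (q : St →* S) (σ : MulAut S) : Prop :=
  ∃ g ∈ GF F G, ∃ α A, Au D α A ∧ Adm A ∧ ∀ s, ∃ s', ι s' = g * α (ι s) * g⁻¹ ∧ q s' = σ (q s)

variable {D} {Adm : Matrix D.R D.R ℤ → Prop} {ι : St →* Y} {q : St →* S} {σ σ' : MulAut S}

theorem Lf.mul (hA : ∀ A B, Adm A → Adm B → Adm (A * B)) (h : Lf D Adm ι q σ) (h' : Lf D Adm ι q σ') :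
    Lf D Adm ι q (σ * σ') := by
  obtain ⟨g, hg, α, A, h1, h2, h3⟩ := h
  obtain ⟨g', hg', β, B, h1', h2', h3'⟩ := h'
  refine ⟨g * α g', mul_mem hg (au_GF h1 hg'), α * β, _, au_mul h1 h1', hA _ _ h2 h2', fun s => ?_⟩
  obtain ⟨s', e1, e2⟩ := h3' s
  obtain ⟨s'', e3, e4⟩ := h3 s'
  exact ⟨s'', by rw [e3, e1, map_mul, map_mul, map_inv, MulAut.mul_apply]; group, by rw [e4, e2, MulAut.mul_apply]⟩

/-- automorphisms induced by elements of `G ^ F` -/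
theorem lf_conj (h1 : Adm 1) {g : Y} (hg : g ∈ GF F G) (h : ∀ s, ∃ s', ι s' = g * ι s * g⁻¹ ∧ q s' = σ (q s)) :
    Lf D Adm ι q σ := ⟨g, hg, 1, 1, au_one, h1, h⟩

theorem lf_one (h1 : Adm 1) : Lf D Adm ι q 1 := lf_conj h1 (one_mem _) fun s => ⟨s, by simp, rfl⟩

theorem lf_of_closure [Finite S] (h1 : Adm 1) (hA : ∀ A B, Adm A → Adm B → Adm (A * B)) {E : Set (MulAut S)}
    (h : ∀ σ ∈ E, Lf D Adm ι q σ) {σ : MulAut S} (hσ : σ ∈ Subgroup.closure E) : Lf D Adm ι q σ := by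
  have : Finite (MulAut S) := Finite.of_injective _ (DFunLike.coe_injective (F := MulAut S))
  induction hσ using Subgroup.closure_induction with
  | mem σ hσ => exact h σ hσ
  | one => exact lf_one h1
  | mul _ _ _ _ h2 h3 => exact h2.mul hA h3
  | inv σ _ h2 =>
    obtain ⟨n, hn⟩ := ((isOfFinOrder_of_finite σ).powers_eq_zpowers.ge (inv_mem (Subgroup.mem_zpowers σ)) :
      σ⁻¹ ∈ Submonoid.powers σ)
    rw [← hn]
    clear hn
    induction n with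
    | zero => exact lf_one h1
    | succ n ih => exact (pow_succ σ n ▸ ih.mul hA h2 : Lf D Adm ι q (σ ^ (n + 1)))

variable (D) in
/-- a covering group `St` of `S` inside `G ^ F` -/
structure Cov (Adm : Matrix D.R D.R ℤ → Prop) (St S : Type) [Group St] [Group S] where
  qs : D.QS
  adm_one : Adm 1
  ι : St →* Y
  inj : Function.Injective ι
  mem : ∀ s, ι s ∈ GF F G
  comm : ∀ a ∈ GF F G, ∀ b ∈ GF F G, a * b * a⁻¹ * b⁻¹ ∈ ι.range
  uni : ∀ u ∈ GF F G, IsUni p u → u ∈ ι.range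
  q : St →* S
  surj : Function.Surjective q
  ker : ∀ s, q s = 1 ↔ ∀ y ∈ G, y * ι s = ι s * y
  aut : ∀ σ, Lf D Adm ι q σ

namespace Cov

variable {St S : Type} [Group St] [Group S] (c : Cov D Adm St S)

/-- the projection -/
noncomputable def π : ↥c.ι.range →* S := c.q.comp (MonoidHom.ofInjective c.inj).symm.toMonoidHom

theorem π_ι (s : St) : c.π ⟨c.ι s, s, rfl⟩ = c.q s :=
  congrArg c.q (c.inj (MonoidHom.apply_ofInjective_symm c.inj _))

/-- **the situation** -/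
noncomputable def sit : Sit D Adm S where
  qs := c.qs
  adm_one := c.adm_one
  H0 := c.ι.range
  le := by
    rintro _ ⟨s, rfl⟩
    exact c.mem s
  comm := c.comm
  uni := c.uni
  π := c.π
  surj a := let ⟨s, hs⟩ := c.surj a; ⟨_, (c.π_ι s).trans hs⟩
  ker := by
    rintro ⟨_, s, rfl⟩
    rw [c.π_ι]
    exact c.ker s
  aut σ := by
    obtain ⟨g, hg, α, A, h1, h2, h3⟩ := c.aut σ
    refine ⟨g, hg, α, A, h1, h2, ?_⟩
    rintro ⟨_, s, rfl⟩
    obtain ⟨s', e1, e2⟩ := h3 s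
    exact ⟨⟨c.ι s', s', rfl⟩, e1, by rw [c.π_ι, c.π_ι, e2]⟩

theorem sit_H0 : c.sit.H0 = c.ι.range := rfl

theorem sit_π (s : St) : c.sit.π ⟨c.ι s, s, rfl⟩ = c.q s := c.π_ι s

/-- transport along an isomorphism -/
def congr {S' : Type} [Group S'] (e : S ≃* S') : Cov D Adm St S' where
  qs := c.qs
  adm_one := c.adm_one
  ι := c.ι
  inj := c.inj
  mem := c.mem
  comm := c.comm
  uni := c.uni
  q := e.toMonoidHom.comp c.q
  surj := e.surjective.comp c.surj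
  ker s := e.map_eq_one_iff.trans (c.ker s)
  aut σ := by
    obtain ⟨g, hg, α, A, h1, h2, h3⟩ := c.aut (MulAut.congr e.symm σ)
    refine ⟨g, hg, α, A, h1, h2, fun s => ?_⟩
    obtain ⟨s', e1, e2⟩ := h3 s
    exact ⟨s', e1, (congrArg e e2).trans (e.apply_symm_apply _)⟩

end Cov

end Cfsg.Agent.KZ.Dat
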