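import Cfsg.Prelude.Def_Classical

/-!
# KZ: the centralizer of a Sylow 3-subgroup of `PSL 9`, `PSU 9` is a 3-group (helper46)

`cent9_psl`, `cent9_psu`.
-/

set_option autoImplicit false

namespace Cfsg.Agent.KZ.Dat

open Cfsg Matrix

section
variable {F : Type} [Field F] {St : Type} [Group St] (ι : St →* Matrix (Fin 9) (Fin 9) F)

/-- diagonal elements with entries cube roots of unity -/
def diag3 (inj : Function.Injective ι) : Subgroup St where
  carrier := {s | ∃ v : Fin 9 → F, v ^ 3 = 1 ∧ ι s = diagonal v}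
  mul_mem' := by
    rintro a b ⟨v, hv, ha⟩ ⟨w, hw, hb⟩
    exact ⟨v * w, by rw [mul_pow, hv, hw, mul_one], by rw [map_mul, ha, hb, diagonal_mul_diagonal']; rfl⟩
  one_mem' := ⟨1, one_pow _, by rw [map_one]; exact diagonal_one.symm⟩
  inv_mem' := by
    rintro a ⟨v, hv, ha⟩
    have h : a⁻¹ = a ^ 2 := inv_eq_of_mul_eq_one_right (inj (by
      rw [← pow_succ', map_pow, ha, diagonal_pow, hv, map_one]; exact diagonal_one))
    exact ⟨v ^ 2, by rw [← pow_mul, mul_comm, pow_mul, hv, one_pow], by rw [h, map_pow, ha, diagonal_pow]⟩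

omit [Field F] in
theorem rot9_const {v : Fin 9 → F} (h : ∀ i, v (finRotate 9 i) = v i) (i : Fin 9) : v i = v 0 := by
  have h1 : v 1 = v 0 := h 0
  have h2 : v 2 = v 1 := h 1
  have h3 : v 3 = v 2 := h 2
  have h4 : v 4 = v 3 := h 3
  have h5 : v 5 = v 4 := h 4
  have h6 : v 6 = v 5 := h 5
  have h7 : v 7 = v 6 := h 6
  have h8 : v 8 = v 7 := h 7
  fin_cases i <;> simp_all

theorem cent9 [Finite St] (inj : Function.Injective ι) (det : ∀ s, (ι s).det = 1) {ω : F} (h3 : ω ^ 3 = 1) (h1 : ω ≠ 1)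
    (hd : ∀ v : Fin 9 → F, v ^ 3 = 1 → ∏ i, v i = 1 → ∃ s, ι s = diagonal v) {c : St}
    (hc : ι c = (finRotate 9).permMatrix F) (Q : Sylow 3 (St ⧸ Subgroup.center St)) :
    ∀ x ∈ Subgroup.centralizer (Q : Set (St ⧸ Subgroup.center St)), ¬ 3 ∣ orderOf x → x = 1 := by
  have : Fact (Nat.Prime 3) := ⟨Nat.prime_three⟩
  -- an element commuting with `diag3` and `c` is scalar
  have scal : ∀ y : St, (∀ s ∈ diag3 ι inj, y * s = s * y) → y * c = c * y → ∃ a : F, ι y = diagonal fun _ => a := by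
    intro y hy hyc
    have h0 : ω ≠ 0 := by rintro rfl; simp at h3
    have hdi : ι y = diagonal fun i => ι y i i := by
      ext i j
      by_cases hij : i = j
      · rw [hij, diagonal_apply_eq]
      rw [diagonal_apply_ne _ hij]
      have hv : (Pi.mulSingle i ω * Pi.mulSingle j (ω ^ 2) : Fin 9 → F) ^ 3 = 1 := by
        rw [mul_pow, ← Pi.mulSingle_pow, ← Pi.mulSingle_pow, ← pow_mul, mul_comm 2, pow_mul, h3, one_pow, Pi.mulSingle_one,
          Pi.mulSingle_one, mul_one]
      obtain ⟨s, hs⟩ := hd _ hv (by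
        simp only [Pi.mul_apply, Finset.prod_mul_distrib, Fintype.prod_pi_mulSingle', ← pow_succ', h3])
      have h := congrFun (congrFun (congrArg ι (hy s ⟨_, hv, hs⟩)) i) j
      rw [map_mul, map_mul, hs, mul_diagonal, diagonal_mul, Pi.mul_apply, Pi.mul_apply, Pi.mulSingle_eq_same,
        Pi.mulSingle_eq_same, Pi.mulSingle_eq_of_ne hij, Pi.mulSingle_eq_of_ne (Ne.symm hij)] at h
      have h' : ι y i j * (ω * (ω - 1)) = 0 := by linear_combination h
      exact (mul_eq_zero.1 h').resolve_right (mul_ne_zero h0 (sub_ne_zero.2 h1))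
    refine ⟨ι y 0 0, hdi.trans (congrArg diagonal (funext (rot9_const (v := fun i => ι y i i) fun i => ?_)))⟩
    have h := congrFun (congrFun (congrArg ι hyc) i) (finRotate 9 i)
    rw [map_mul, map_mul, hc, PEquiv.toMatrix_toPEquiv_mul, PEquiv.mul_toMatrix_toPEquiv, submatrix_apply, submatrix_apply,
      Equiv.symm_apply_apply] at h
    exact h.symm
  have cen : ∀ y : St, (∀ s ∈ diag3 ι inj, y * s = s * y) → y * c = c * y → y ∈ Subgroup.center St := by
    intro y hy hyc
    obtain ⟨a, ha⟩ := scal y hy hyc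
    refine Subgroup.mem_center_iff.2 fun g => inj ?_
    rw [map_mul, map_mul, ha]
    ext i j
    rw [mul_diagonal, diagonal_mul, mul_comm]
  have z9 : ∀ z ∈ Subgroup.center St, z ^ 9 = 1 := by
    intro z hz
    obtain ⟨a, ha⟩ := scal z (fun s _ => (Subgroup.mem_center_iff.1 hz s).symm) (Subgroup.mem_center_iff.1 hz c).symm
    have h := det z
    rw [ha, det_diagonal, Finset.prod_const, Finset.card_fin] at h
    refine inj ?_
    rw [map_pow, ha, diagonal_pow, map_one, ← diagonal_one]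
    exact congrArg diagonal (funext fun _ => h)
  -- the 3-subgroup
  have c9 : c ^ 9 = 1 := inj (by
    have h : (finRotate 9).permMatrix F = permMatrixHom (finRotate 9)⁻¹ := by rw [permMatrixHom_apply, inv_inv]
    rw [map_pow, hc, h, ← map_pow, map_one, show (finRotate 9)⁻¹ ^ 9 = 1 by decide +kernel, map_one])
  have pD : IsPGroup 3 (diag3 ι inj) := by
    rintro ⟨s, v, hv, hs⟩
    exact ⟨1, Subtype.ext (inj (by
      rw [pow_one, Subgroup.coe_pow, map_pow, hs, diagonal_pow, hv, Subgroup.coe_one, map_one]; exact diagonal_one))⟩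
  have pC : IsPGroup 3 (Subgroup.zpowers c) :=
    IsPGroup.of_card_dvd_pow (n := 2) (by rw [Nat.card_zpowers]; exact orderOf_dvd_of_pow_eq_one c9)
  have nD : Subgroup.zpowers c ≤ Subgroup.normalizer (diag3 ι inj : Set St) := by
    rw [Subgroup.zpowers_le]
    refine Subgroup.mem_normalizer_fintype ?_
    rintro s ⟨v, hv, hs⟩
    refine ⟨v ∘ finRotate 9, funext fun i => congrFun hv _, ?_⟩
    have h : ι c * ι s = diagonal (v ∘ finRotate 9) * ι c := by
      rw [hc, hs, PEquiv.toMatrix_toPEquiv_mul]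
      ext i j
      rw [diagonal_mul, submatrix_apply, diagonal_apply]
      simp [PEquiv.toMatrix_apply]
    rw [map_mul, map_mul, h, mul_assoc, ← map_mul, mul_inv_cancel, map_one, mul_one]
  obtain ⟨Q1, hQ1⟩ := ((pC.to_sup_of_normal_right' pD nD).map (QuotientGroup.mk' (Subgroup.center St))).exists_le_sylow
  obtain ⟨g, rfl⟩ := MulAction.exists_smul_eq (St ⧸ Subgroup.center St) Q Q1
  intro x hx h3x
  obtain ⟨y, hy⟩ := QuotientGroup.mk_surjective (g * x * g⁻¹)
  have key : ∀ s ∈ Subgroup.zpowers c ⊔ diag3 ι inj, y ^ 9 * s = s * y ^ 9 := by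
    intro s hs
    obtain ⟨t, ht, e⟩ := hQ1 ⟨s, hs, rfl⟩
    have e' : g * t * g⁻¹ = (s : St ⧸ Subgroup.center St) := e
    have hz : s⁻¹ * (y * s * y⁻¹) ∈ Subgroup.center St := QuotientGroup.eq.1 (by
      rw [QuotientGroup.mk_mul, QuotientGroup.mk_mul, QuotientGroup.mk_inv, hy, ← e']
      have := Subgroup.mem_centralizer_iff.1 hx t ht
      calc g * t * g⁻¹ = g * (t * x) * x⁻¹ * g⁻¹ := by group
        _ = _ := by rw [this]; group)
    have hn : ∀ n : ℕ, y ^ n * s = s * (s⁻¹ * (y * s * y⁻¹)) ^ n * y ^ n := by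
      intro n
      induction n with
      | zero => simp
      | succ n ih =>
        have h := Subgroup.mem_center_iff.1 (pow_mem hz n) y
        rw [pow_succ', mul_assoc, ih, pow_succ' (s⁻¹ * _)]
        calc _ = y * s * y⁻¹ * (y * (s⁻¹ * (y * s * y⁻¹)) ^ n) * y ^ n := by
              generalize (s⁻¹ * (y * s * y⁻¹)) ^ n = z
              generalize y ^ n = w
              group
          _ = _ := by
              rw [h]
              generalize (s⁻¹ * (y * s * y⁻¹)) ^ n = z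
              generalize y ^ n = w
              group
    rw [hn 9, z9 _ hz, mul_one]
  have h9 : (g * x * g⁻¹) ^ 9 = 1 := by
    rw [← hy, ← QuotientGroup.mk_pow, QuotientGroup.eq_one_iff]
    exact cen _ (fun s hs => key s (Subgroup.mem_sup_right hs)) (key c (Subgroup.mem_sup_left (Subgroup.mem_zpowers c)))
  rw [conj_pow, conj_eq_one_iff] at h9
  obtain ⟨j, -, hj⟩ := (Nat.dvd_prime_pow Nat.prime_three (m := 2)).1 (orderOf_dvd_of_pow_eq_one h9)
  rcases j with _ | j
  · exact orderOf_eq_one_iff.1 hj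
  · exact (h3x (hj ▸ dvd_pow_self 3 j.succ_ne_zero)).elim

end

variable {F : Type} [Field F] [Fintype F]

theorem exists_cube_root (h : 3 ∣ Fintype.card F - 1) : ∃ ω : F, ω ^ 3 = 1 ∧ ω ≠ 1 := by
  classical
  have : Fact (Nat.Prime 3) := ⟨Nat.prime_three⟩
  obtain ⟨u, hu⟩ := exists_prime_orderOf_dvd_card (G := Fˣ) 3 (Fintype.card_units F ▸ h)
  refine ⟨u, by rw [← Units.val_pow_eq_pow_val, ← hu, pow_orderOf_eq_one, Units.val_one], fun h1 => ?_⟩
  rw [Units.val_eq_one.1 h1, orderOf_one] at hu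
  exact absurd hu (by decide)

omit [Fintype F] in
theorem det_rot9 : ((finRotate 9).permMatrix F).det = 1 := by
  rw [det_permutation, sign_finRotate]
  simp

omit [Fintype F] in
theorem slToMat_inj : Function.Injective (slToMat 9 F) := fun _ _ h => Subtype.ext h

variable (F) in
/-- **`PSL 9`** -/
theorem cent9_psl (h : 3 ∣ Fintype.card F - 1) (Q : Sylow 3 (ProjectiveSpecialLinearGroup (Fin 9) F)) :
    ∀ x ∈ Subgroup.centralizer (Q : Set (ProjectiveSpecialLinearGroup (Fin 9) F)), ¬ 3 ∣ orderOf x → x = 1 :=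
  let ⟨_, h3, h1⟩ := exists_cube_root h
  cent9 (slToMat 9 F) slToMat_inj (fun s => s.2) h3 h1 (fun v _ hv => ⟨⟨diagonal v, (det_diagonal).trans hv⟩, rfl⟩)
    (c := ⟨_, det_rot9⟩) rfl Q

/-- **`PSU 9`** -/
theorem cent9_psu {q : ℕ} (hF : Fintype.card F = q ^ 2) (h : 3 ∣ q + 1) (Q : Sylow 3 (PSU 9 F q)) :
    ∀ x ∈ Subgroup.centralizer (Q : Set (PSU 9 F q)), ¬ 3 ∣ orderOf x → x = 1 := by
  obtain ⟨ω, h3, h1⟩ := exists_cube_root (F := F) (by
    rw [hF, show q ^ 2 - 1 = q ^ 2 - 1 ^ 2 by rw [one_pow], Nat.sq_sub_sq]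
    exact h.mul_right _)
  refine cent9 ((slToMat 9 F).comp (SU 9 F q).subtype) (slToMat_inj.comp Subtype.val_injective) (fun s => s.1.2) h3 h1
    (fun v hv hp => ⟨⟨⟨diagonal v, (det_diagonal).trans hp⟩, fun u w => ?_⟩, rfl⟩)
    (c := ⟨⟨_, det_rot9⟩, fun u w => ?_⟩) rfl Q
  · refine Finset.sum_congr rfl fun i _ => ?_
    obtain ⟨r, hr⟩ := h
    have hi : v i ^ (q + 1) = 1 := by rw [hr, pow_mul, show v i ^ 3 = 1 from congrFun hv i, one_pow]
    show (diagonal v *ᵥ u) i * (diagonal v *ᵥ w) i ^ q = _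
    rw [mulVec_diagonal, mulVec_diagonal, mul_pow]
    linear_combination u i * w i ^ q * hi
  · show hermForm 9 F q ((finRotate 9).permMatrix F *ᵥ u) ((finRotate 9).permMatrix F *ᵥ w) = _
    rw [permMatrix_mulVec, permMatrix_mulVec]
    exact Equiv.sum_comp (finRotate 9) fun i => u i * w i ^ q

end Cfsg.Agent.KZ.Dat
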