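import Cfsg.Agent.ClassicalGeometry.Eichler
import Cfsg.Agent.Nodes.TypeC
import Cfsg.Agent.ODD.C2.MnDat

/-!
# KZ: the split orthogonal frame, root elements as Eichler matrices (helper19)

`NN m J = (Fin m × Bool) ⊕ J`, the form `QQ = ∑ x_i y_i + ∑ z_j ^ 2`, the root elements `El y z t`, monomial matrices `Mo`.
-/

set_option autoImplicit false
set_option maxHeartbeats 400000
set_option linter.unusedSectionVars false

namespace Cfsg.Agent.KZ.Dat.Om

open Matrix QuadraticMap Sum Cfsg.Agent.ClassicalGeometry.Reflection Cfsg.Agent.ClassicalGeometry.Eichler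
  Cfsg.Agent.Nodes.TypeC
open Cfsg.Agent.ODD.C2 (pm pm_apply map_pm)
open scoped commutatorElement

/-- the indices of the basis -/
abbrev NN (m : ℕ) (J : Type) : Type := (Fin m × Bool) ⊕ J

variable {m : ℕ} {J : Type} [Fintype J] [DecidableEq J] {k : Type} [Field k]

/-- the opposite index -/
def op : NN m J → NN m J := Sum.map ng id

/-- the weights -/
def mu : NN m J → Fin m → ℤ := Sum.elim wt fun _ => 0

@[simp] theorem op_inl (y : Fin m × Bool) : op (inl y : NN m J) = inl (ng y) := rfl
@[simp] theorem op_inr (j : J) : op (inr j : NN m J) = inr j := rfl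
@[simp] theorem mu_inl (y : Fin m × Bool) : mu (inl y : NN m J) = wt y := rfl
@[simp] theorem mu_inr (j : J) : mu (inr j : NN m J) = 0 := rfl

theorem op_op (z : NN m J) : op (op z) = z := by rcases z with y | j <;> simp

theorem op_eq_iff {z w : NN m J} : op z = w ↔ z = op w := ⟨fun h => by rw [← h, op_op], fun h => by rw [h, op_op]⟩

theorem op_inj {z w : NN m J} : op z = op w ↔ z = w := by rw [op_eq_iff, op_op]

theorem mu_op (z : NN m J) : mu (op z) = -mu z := by rcases z with y | j <;> simp [wt_ng]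

theorem ng_ne (b : Fin m × Bool) : ng b ≠ b := fun h => by simpa using congrArg Prod.snd h

theorem ng_eq_iff {a b : Fin m × Bool} : ng a = b ↔ a = ng b := ⟨fun h => by rw [← h, ng_ng], fun h => by rw [h, ng_ng]⟩

theorem fst_eq_iff {a b : Fin m × Bool} : a.1 = b.1 ↔ a = b ∨ a = ng b := by
  obtain ⟨i, s⟩ := a
  obtain ⟨j, t⟩ := b
  cases s <;> cases t <;> simp [ng]

theorem wt_dot (a b : Fin m × Bool) : wt a ⬝ᵥ wt b = if a = b then 1 else if a = ng b then -1 else 0 := by
  obtain ⟨i, s⟩ := a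
  obtain ⟨j, t⟩ := b
  rw [wt, single_dotProduct, wt_apply]
  cases s <;> cases t <;> by_cases h : i = j <;> simp [ng, h]

variable (k)

/-- the values of the form on the basis -/
def qd : NN m J → k := Sum.elim (fun _ => 0) fun _ => 1

/-- the basis -/
def bv (z : NN m J) : NN m J → k := Pi.single z 1

variable (m J) in
/-- the split quadratic form -/
def QQ : QuadraticForm k (NN m J → k) :=
  ∑ i : Fin m, linMulLin (LinearMap.proj (inl (i, true))) (LinearMap.proj (inl (i, false))) +
    ∑ j : J, linMulLin (LinearMap.proj (inr j)) (LinearMap.proj (inr j))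

variable {k}

@[simp] theorem qd_inl (y : Fin m × Bool) : qd k (inl y : NN m J) = 0 := rfl
@[simp] theorem qd_inr (j : J) : qd k (inr j : NN m J) = 1 := rfl

theorem qd_op (z : NN m J) : qd k (op z) = qd k z := by rcases z with y | j <;> rfl

theorem map_qd {l : Type} [Field l] (f : k →+* l) (z : NN m J) : f (qd k z) = qd l z := by
  rcases z with y | j <;> simp

theorem bv_apply (z w : NN m J) : bv k z w = if w = z then 1 else 0 := Pi.single_apply _ _ _

theorem bv_self (z : NN m J) : bv k z z = 1 := Pi.single_eq_same _ _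

theorem bv_ne {z w : NN m J} (h : w ≠ z) : bv k z w = 0 := Pi.single_eq_of_ne h _

theorem QQ_apply (v : NN m J → k) :
    QQ m J k v = ∑ i, v (inl (i, true)) * v (inl (i, false)) + ∑ j, v (inr j) * v (inr j) := by
  simp [QQ]

theorem QQ_map {l : Type} [Field l] (f : k →+* l) (v : NN m J → k) : QQ m J l (f ∘ v) = f (QQ m J k v) := by
  simp [QQ_apply]

theorem QQ_bv (z : NN m J) : QQ m J k (bv k z) = qd k z := by
  rw [QQ_apply]
  rcases z with ⟨i, s⟩ | j
  · cases s <;> simp [bv_apply]
  · simp [bv_apply]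

theorem polar_bv (v : NN m J → k) (z : NN m J) : polar (QQ m J k) v (bv k z) = (1 + qd k z) * v (op z) := by
  have h : polar (QQ m J k) v (bv k z) = ∑ i, (v (inl (i, true)) * bv k z (inl (i, false)) +
      v (inl (i, false)) * bv k z (inl (i, true))) + ∑ j, 2 * v (inr j) * bv k z (inr j) := by
    have h1 : ∀ a b c d e f : k, a + b - (c + d) - (e + f) = (a - c - e) + (b - d - f) := fun _ _ _ _ _ _ => by ring
    simp only [polar, QQ_apply, Pi.add_apply, h1, ← Finset.sum_sub_distrib]
    congr 1 <;> exact Finset.sum_congr rfl fun _ _ => by ring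
  rw [h]
  rcases z with ⟨i, s⟩ | j
  · cases s <;> simp [bv_apply, ng]
  · simp [bv_apply, one_add_one_eq_two]

theorem bv_polar (z : NN m J) (v : NN m J → k) : polar (QQ m J k) (bv k z) v = (1 + qd k z) * v (op z) := by
  rw [polar_comm, polar_bv]

theorem inl_polar (y : Fin m × Bool) (v : NN m J → k) : polar (QQ m J k) (bv k (inl y)) v = v (inl (ng y)) := by
  rw [bv_polar, qd_inl, add_zero, one_mul, op_inl]

theorem sum_bv (v : NN m J → k) : v = ∑ z, v z • bv k z := by
  funext w
  simp [bv_apply, Finset.sum_apply]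

/-- a quadratic form which vanishes on a spanning family of orthogonal vectors is zero -/
theorem quad_zero {V ι : Type*} [AddCommGroup V] [Module k V] [Fintype ι] (Q : QuadraticForm k V) (b : ι → V)
    (h1 : ∀ i, Q (b i) = 0) (h2 : ∀ i j, polar Q (b i) (b j) = 0) (a : ι → k) : Q (∑ i, a i • b i) = 0 := by
  classical
  have h3 : ∀ s : Finset ι, Q (∑ i ∈ s, a i • b i) = 0 ∧ ∀ j, polar Q (b j) (∑ i ∈ s, a i • b i) = 0 := fun s => by
    induction s using Finset.induction_on with
    | empty => simp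
    | insert i s hi ih =>
      rw [Finset.sum_insert hi]
      refine ⟨?_, fun j => by rw [polar_add_right, polar_smul_right, h2, ih.2, smul_zero, add_zero]⟩
      rw [QuadraticMap.map_add Q, QuadraticMap.map_smul, h1, ih.1, polar_smul_left, ih.2]
      simp
  exact (h3 _).1

/-! ### similitudes and monomial matrices -/

/-- `g` is a similitude with the multiplier `c` -/
def Sim (g : GL (NN m J) k) (c : k) : Prop := ∀ v, QQ m J k (g.val *ᵥ v) = c * QQ m J k v

/-- `g` maps the basis vector `z` to `d z` times the basis vector `π z` -/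
def Mo (g : GL (NN m J) k) (π : NN m J → NN m J) (d : NN m J → k) : Prop := ∀ z, g.val *ᵥ bv k z = d z • bv k (π z)

variable {g g' : GL (NN m J) k} {c c' : k} {π π' : NN m J → NN m J} {d d' : NN m J → k}

theorem Sim.polar (h : Sim g c) (u v : NN m J → k) :
    polar (QQ m J k) (g.val *ᵥ u) (g.val *ᵥ v) = c * polar (QQ m J k) u v := by
  rw [QuadraticMap.polar, QuadraticMap.polar, ← mulVec_add, h, h, h]
  ring

theorem Sim.mul (h : Sim g c) (h' : Sim g' c') : Sim (g * g') (c * c') := fun v => by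
  rw [Units.val_mul, ← mulVec_mulVec, h, h', mul_assoc]

theorem Sim.inv (h : Sim g c) (hc : c ≠ 0) : Sim g⁻¹ c⁻¹ := fun v => by
  have := h ((g⁻¹).val *ᵥ v)
  rw [mulVec_mulVec, Units.mul_inv, one_mulVec] at this
  rw [this, inv_mul_cancel_left₀ hc]

theorem sim_iff : Sim g 1 ↔ g ∈ isometryGroup k (QQ m J k) := by
  rw [mem_isometryGroup_iff]
  simp only [Sim, one_mul]

theorem ext_bv (h : ∀ z, g.val *ᵥ bv k z = g'.val *ᵥ bv k z) : g = g' :=
  Units.ext (Matrix.ext fun a z => by simpa [bv] using congrFun (h z) a)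

theorem Mo.ext (h : Mo g π d) (h' : Mo g' π' d') (h1 : ∀ z, π z = π' z) (h2 : ∀ z, d z = d' z) : g = g' :=
  ext_bv fun z => by rw [h, h', h1, h2]

theorem Mo.mul (h : Mo g π d) (h' : Mo g' π' d') : Mo (g * g') (fun z => π (π' z)) fun z => d (π' z) * d' z := fun z => by
  rw [Units.val_mul, ← mulVec_mulVec, h', mulVec_smul, h, smul_smul, mul_comm]

theorem mo_one : Mo (1 : GL (NN m J) k) id fun _ => 1 := fun z => by rw [Units.val_one, one_mulVec, one_smul]; rfl

theorem Mo.pow (h : Mo g π d) (j : ℕ) : Mo (g ^ j) π^[j] fun z => ∏ i ∈ Finset.range j, d (π^[i] z) := by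
  induction j with
  | zero => simpa using mo_one
  | succ j ih =>
    intro z
    rw [pow_succ', h.mul ih, Function.iterate_succ_apply']
    simp only [Finset.prod_range_succ, mul_comm]

theorem Mo.ne (h : Mo g π d) (z : NN m J) : d z ≠ 0 := fun e => by
  have h1 := congrArg ((g⁻¹).val *ᵥ ·) (h z)
  simp only [mulVec_mulVec, Units.inv_mul, one_mulVec, e, zero_smul, mulVec_zero] at h1
  exact one_ne_zero ((bv_self z).symm.trans (congrFun h1 z))

theorem sim_of_span {ι : Type} [Fintype ι] (b : ι → NN m J → k) (hb : ∀ v, ∃ a : ι → k, v = ∑ i, a i • b i)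
    (h1 : ∀ i, QQ m J k (g.val *ᵥ b i) = c * QQ m J k (b i))
    (h2 : ∀ i j, polar (QQ m J k) (g.val *ᵥ b i) (g.val *ᵥ b j) = c * polar (QQ m J k) (b i) (b j)) : Sim g c := fun v => by
  obtain ⟨a, rfl⟩ := hb v
  have h3 : ∀ v, ((QQ m J k).comp (toLin' g.val) - c • QQ m J k) v = QQ m J k (g.val *ᵥ v) - c * QQ m J k v := fun _ => rfl
  have h4 := quad_zero ((QQ m J k).comp (toLin' g.val) - c • QQ m J k) b (fun z => by rw [h3, h1, sub_self])
    (fun z w => by
      have h5 := h2 z w
      simp only [QuadraticMap.polar, h3, mulVec_add] at h5 ⊢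
      linear_combination h5) a
  exact sub_eq_zero.1 ((h3 _).symm.trans h4)

theorem Mo.sim (h : Mo g π d) (h1 : ∀ z w, π z = op (π w) ↔ z = op w) (h2 : ∀ z, qd k (π z) = qd k z)
    (h3 : ∀ z, d z * d (op z) = c) : Sim g c :=
  sim_of_span (bv k) (fun v => ⟨v, sum_bv v⟩) (fun z => by
    rw [h, QuadraticMap.map_smul, QQ_bv, QQ_bv, h2, smul_eq_mul]
    rcases z with y | j
    · simp
    · rw [← h3 (inr j), op_inr]) fun z w => by
    rw [h, h, polar_smul_left, polar_smul_right, polar_bv, polar_bv, h2, bv_apply, bv_apply,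
      if_congr (eq_comm.trans ((h1 z w).trans eq_comm)) rfl rfl]
    split_ifs with e
    · rw [← h3 w, e, smul_eq_mul, smul_eq_mul]
      ring
    · simp

/-- diagonal matrices -/
def dg : (NN m J → kˣ) →* GL (NN m J) k :=
  MonoidHom.mk' (fun d => ⟨diagonal fun a => (d a : k), diagonal fun a => (((d a)⁻¹ : kˣ) : k),
    by simp [diagonal_mul_diagonal], by simp [diagonal_mul_diagonal]⟩) fun a b => Units.ext (by
      simp [diagonal_mul_diagonal])

theorem coe_dg (d : NN m J → kˣ) : (dg d).val = diagonal fun a => (d a : k) := rfl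

theorem mo_dg (d : NN m J → kˣ) : Mo (dg d) id fun a => d a := fun z => by
  funext w
  rw [coe_dg, mulVec_diagonal, Pi.smul_apply, id, bv_apply]
  split_ifs with e
  · rw [e, smul_eq_mul]
  · simp

theorem mo_pm (π : Equiv.Perm (NN m J)) : Mo (pm k π) π fun _ => 1 := fun z => by
  funext w
  rw [bv, mulVec_single_one, one_smul, bv_apply]
  exact pm_apply k π w z

theorem map_dg {l : Type} [Field l] (f : k →+* l) (d : NN m J → kˣ) :
    GeneralLinearGroup.map f (dg d) = dg fun a => Units.map (f : k →* l) (d a) := by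
  refine Units.ext (Matrix.ext fun a b => ?_)
  show f ((dg d).val a b) = _
  rw [coe_dg, coe_dg, diagonal_apply, diagonal_apply, apply_ite f, map_zero]
  rfl

/-! ### Eichler matrices -/

/-- the Eichler matrix of a basis vector `y` and a vector `w` -/
noncomputable def Ev (y : Fin m × Bool) (w : NN m J → k) : GL (NN m J) k := by
  classical
  exact if h : w (inl (ng y)) = 0 then eichlerGL (QQ m J k) (bv k (inl y)) w (QQ_bv _) ((inl_polar y w).trans h) else 1

variable {y y' : Fin m × Bool} {w w' : NN m J → k} {z z' : NN m J}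

theorem coe_Ev (h : w (inl (ng y)) = 0) : (Ev y w).val = eichlerMatrix (QQ m J k) (bv k (inl y)) w := by
  unfold Ev
  rw [dif_pos h]
  rfl

theorem Ev_mulVec (h : w (inl (ng y)) = 0) (x : NN m J → k) : (Ev y w).val *ᵥ x = x + (x (inl (ng y)) • w -
    polar (QQ m J k) w x • bv k (inl y) - (QQ m J k w * x (inl (ng y))) • bv k (inl y)) := by
  rw [coe_Ev h, eichlerMatrix_mulVec, inl_polar]

theorem Ev_mul (h : w (inl (ng y)) = 0) (h' : w' (inl (ng y)) = 0) : Ev y w * Ev y w' = Ev y (w + w') :=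
  Units.ext (by
    rw [Units.val_mul, coe_Ev h, coe_Ev h', coe_Ev (by rw [Pi.add_apply, h, h', add_zero]),
      eichlerMatrix_mul _ _ _ _ (QQ_bv _) ((inl_polar y w).trans h) ((inl_polar y w').trans h')])

theorem Ev_sim (h : w (inl (ng y)) = 0) : Sim (Ev y w) 1 := fun v => by
  rw [coe_Ev h, eichlerMatrix_isometry _ _ _ (QQ_bv _) ((inl_polar y w).trans h), one_mul]

theorem Ev_conj (h : w (inl (ng y)) = 0) (hg : Sim g c) (hc : c ≠ 0) {a : k} (ha : a ≠ 0)
    (e : g.val *ᵥ bv k (inl y) = a • bv k (inl y')) : g * Ev y w * g⁻¹ = Ev y' ((a / c) • g.val *ᵥ w) := by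
  have h1 : ∀ x, a * (g.val *ᵥ x) (inl (ng y')) = c * x (inl (ng y)) := fun x => by
    rw [← inl_polar y' (g.val *ᵥ x), ← inl_polar y x, ← hg.polar, e, polar_smul_left, smul_eq_mul]
  have h2 : ∀ x, (g.val *ᵥ x) (inl (ng y')) = c / a * x (inl (ng y)) := fun x => by
    rw [div_mul_eq_mul_div, eq_div_iff ha, ← h1, mul_comm]
  rw [mul_inv_eq_iff_eq_mul]
  refine Units.ext (Matrix.mulVec_injective (funext fun x => ?_))
  simp only [Units.val_mul, ← mulVec_mulVec]
  rw [Ev_mulVec h, Ev_mulVec (by rw [Pi.smul_apply, h2, h, mul_zero, smul_zero]), polar_smul_left, hg.polar,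
    QuadraticMap.map_smul, hg, h2, mulVec_add, mulVec_sub, mulVec_sub, mulVec_smul, mulVec_smul, mulVec_smul, e]
  simp only [smul_eq_mul]
  match_scalars <;> field_simp

theorem map_Ev {l : Type} [Field l] (f : k →+* l) (h : w (inl (ng y)) = 0) :
    GeneralLinearGroup.map f (Ev y w) = Ev y (f ∘ w) := by
  refine Units.ext (Matrix.ext fun a b => ?_)
  show f ((Ev y w).val a b) = _
  have h1 : ∀ (l : Type) [Field l] (v : NN m J → l), polarVec (QQ m J l) v b = (1 + qd l b) * v (op b) :=
    fun l _ v => polar_bv v b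
  rw [coe_Ev h, coe_Ev (by rw [Function.comp_apply, h, map_zero]), eichlerMatrix_def, eichlerMatrix_def]
  simp [h1, vecMulVec_apply, map_qd, QQ_map, bv_apply, one_apply, apply_ite f]

/-- the root elements -/
noncomputable def El (y : Fin m × Bool) (z : NN m J) (t : k) : GL (NN m J) k := Ev y (t • bv k z)

theorem smul_bv (h : z ≠ inl (ng y)) (t : k) : (t • bv k z) (inl (ng y)) = 0 := by
  rw [Pi.smul_apply, bv_ne h.symm, smul_zero]

theorem El_mulVec (h : z ≠ inl (ng y)) (t : k) (x : NN m J → k) : (El y z t).val *ᵥ x = x + (x (inl (ng y)) * t) • bv k z -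
    (t * (1 + qd k z) * x (op z) + t * t * qd k z * x (inl (ng y))) • bv k (inl y) := by
  rw [El, Ev_mulVec (smul_bv h t), polar_smul_left, bv_polar, QuadraticMap.map_smul, QQ_bv]
  module

theorem El_add (h : z ≠ inl (ng y)) (s t : k) : El y z (s + t) = El y z s * El y z t := by
  rw [El, El, El, Ev_mul (smul_bv h s) (smul_bv h t), add_smul]

theorem El_zero (h : z ≠ inl (ng y)) : El y z (0 : k) = 1 :=
  Units.ext (Matrix.mulVec_injective (funext fun x => by simp [El_mulVec h]))

theorem El_neg (h : z ≠ inl (ng y)) (t : k) : El y z (-t) = (El y z t)⁻¹ := by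
  rw [eq_inv_iff_mul_eq_one, ← El_add h, neg_add_cancel, El_zero h]

theorem El_sim (h : z ≠ inl (ng y)) (t : k) : Sim (El y z t) 1 := Ev_sim (smul_bv h t)

theorem El_self (y : Fin m × Bool) (t : k) : (El y (inl y) t : GL (NN m J) k) = 1 :=
  Units.ext (Matrix.mulVec_injective (funext fun x => by
    rw [El_mulVec (by simp [(ng_ne y).symm])]
    simp [mul_comm]))

theorem El_swap (h : y' ≠ ng y) (t : k) : (El y (inl y') t : GL (NN m J) k) = El y' (inl y) (-t) :=
  Units.ext (Matrix.mulVec_injective (funext fun x => by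
    rw [El_mulVec (by simpa using h), El_mulVec (by simpa using fun e => h (by rw [e, ng_ng]))]
    simp only [qd_inl, op_inl]
    module))

theorem map_El {l : Type} [Field l] (f : k →+* l) (h : z ≠ inl (ng y)) (t : k) :
    GeneralLinearGroup.map f (El y z t) = El y z (f t) := by
  rw [El, map_Ev f (smul_bv h t), El]
  congr 1
  funext a
  simp [bv_apply, apply_ite f]

theorem El_conj (h : z ≠ inl (ng y)) (hg : Sim g c) (hc : c ≠ 0) (hm : Mo g π d) (e : π (inl y) = inl y') (t : k) :
    g * El y z t * g⁻¹ = El y' (π z) (d (inl y) * d z / c * t) := by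
  rw [El, Ev_conj (smul_bv h t) hg hc (hm.ne _) ((hm _).trans (by rw [e])), mulVec_smul, hm, smul_smul, smul_smul, El]
  congr 2
  ring

theorem El_poly (h : z ≠ inl (ng y)) (a b : NN m J) : ∃ f : Polynomial k, ∀ t, (El y z t).val a b = f.eval t := by
  refine ⟨Polynomial.C (bv k b a) + Polynomial.C (bv k b (inl (ng y)) * bv k z a -
    (1 + qd k z) * bv k b (op z) * bv k (inl y) a) * Polynomial.X -
    Polynomial.C (qd k z * bv k b (inl (ng y)) * bv k (inl y) a) * Polynomial.X ^ 2, fun t => ?_⟩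
  have h1 := congrFun (El_mulVec h t (bv k b)) a
  rw [bv, mulVec_single_one] at h1
  refine h1.trans ?_
  simp only [Pi.sub_apply, Pi.add_apply, Pi.smul_apply, smul_eq_mul, Polynomial.eval_sub, Polynomial.eval_add,
    Polynomial.eval_mul, Polynomial.eval_C, Polynomial.eval_X, Polynomial.eval_pow, bv]
  ring

/-- the labels of the roots -/
def Ok (y : Fin m × Bool) (z : NN m J) : Prop := z ≠ inl y ∧ z ≠ inl (ng y)

theorem Ok.neg (h : Ok y z) : Ok (ng y) (op z) :=
  ⟨fun e => h.1 (op_inj.1 e), fun e => h.2 (op_inj.1 e)⟩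

theorem ok_inl : Ok y (inl y' : NN m J) ↔ y.1 ≠ y'.1 := by
  rw [Ok, Ne, Ne, Ne, inl.injEq, inl.injEq, eq_comm (a := y.1), fst_eq_iff, not_or]

theorem ok_inr (y : Fin m × Bool) (j : J) : Ok y (inr j : NN m J) := ⟨inr_ne_inl, inr_ne_inl⟩

theorem Ok.swap (h : Ok y (inl y' : NN m J)) : Ok y' (inl y : NN m J) := ok_inl.2 (ok_inl.1 h).symm

theorem El_inj (h : Ok y z) : Function.Injective (El (k := k) y z) := fun s t e => by
  have h1 := congrArg (fun g : GL (NN m J) k => (g.val *ᵥ bv k (inl (ng y))) z) e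
  simpa [El_mulVec h.2, bv_self, bv_ne h.1, bv_ne h.2] using h1

/-- the commutator formula -/
theorem El_comm (h : Ok y z) (h' : Ok y' z') (hy : y' ≠ ng y) (hz : z' ≠ inl (ng y)) (t s : k) :
    ⁅El y z t, El y' z' s⁆ = El y z' (-(t * s * bv k z (inl (ng y')))) *
      El y (inl y') (t * (s * (1 + qd k z') * bv k z (op z') + s * s * qd k z' * bv k z (inl (ng y')))) := by
  have h1 : (El y' z' s).val *ᵥ bv k (inl y) = (1 : k) • bv k (inl y) := by
    rw [El_mulVec h'.2, bv_ne (by simpa using fun e => hy (ng_eq_iff.1 e)), bv_ne fun e => hz (op_eq_iff.1 e)]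
    simp
  have h2 := Ev_conj (smul_bv h.2 (-t)) (El_sim h'.2 s) one_ne_zero one_ne_zero h1
  have h3 : (inl y' : NN m J) ≠ inl (ng y) := by simpa using hy
  rw [commutatorElement_def, mul_assoc, mul_assoc, ← mul_assoc (El y' z' s), ← El_neg h.2, El.eq_1 y z (-t), h2, El.eq_1 y z, El.eq_1 y z', El.eq_1 y (inl y'),
    Ev_mul (smul_bv hz _) (smul_bv h3 _), Ev_mul (smul_bv h.2 _)]
  · congr 1
    rw [mulVec_smul, El_mulVec h'.2]
    module
  · rw [mulVec_smul, El_mulVec h'.2]
    simp [bv_ne h.2.symm, bv_ne hz.symm, bv_ne h3.symm]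

/-- the rank one computation, long roots -/
theorem rk_long (h : Ok y (inl y' : NN m J)) {t : k} (ht : t ≠ 0) (x : NN m J → k) :
    (El y (inl y') t * El (ng y) (inl (ng y')) t⁻¹ * El y (inl y') t).val *ᵥ x =
      x + (-t * x (inl (ng y')) - x (inl y)) • bv k (inl y) + (-t⁻¹ * x (inl y') - x (inl (ng y))) • bv k (inl (ng y)) +
        (t * x (inl (ng y)) - x (inl y')) • bv k (inl y') + (t⁻¹ * x (inl y) - x (inl (ng y'))) • bv k (inl (ng y')) := by
  have h1 : y' ≠ y := by simpa using h.1
  have h2 : y' ≠ ng y := by simpa using h.2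
  have h3 : ng y' ≠ y := fun e => h2 (ng_eq_iff.1 e)
  have h4 : ng y' ≠ ng y := fun e => h1 (by rw [← ng_ng y', e, ng_ng])
  simp only [Units.val_mul, ← mulVec_mulVec]
  rw [El_mulVec h.2, El_mulVec (z := inl (ng y')) h.neg.2, El_mulVec h.2]
  simp only [Pi.add_apply, Pi.sub_apply, Pi.smul_apply, bv_apply, op_inl, qd_inl, ng_ng, inl.injEq, h1, h3, h4, h1.symm,
    h2.symm, h4.symm, ng_ne, if_true, if_false, smul_eq_mul]
  match_scalars <;> field_simp <;> ring

/-- the rank one computation, short roots -/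
theorem rk_short (y : Fin m × Bool) (j : J) {t : k} (ht : t ≠ 0) (x : NN m J → k) :
    (El y (inr j) t * El (ng y) (inr j) t⁻¹ * El y (inr j) t).val *ᵥ x =
      x + (-(t * t) * x (inl (ng y)) - x (inl y)) • bv k (inl y) +
        (-(t⁻¹ * t⁻¹) * x (inl y) - x (inl (ng y))) • bv k (inl (ng y)) - (2 * x (inr j)) • bv k (inr j) := by
  simp only [Units.val_mul, ← mulVec_mulVec]
  rw [El_mulVec inr_ne_inl, El_mulVec inr_ne_inl, El_mulVec inr_ne_inl]
  simp only [Pi.add_apply, Pi.sub_apply, Pi.smul_apply, bv_apply, op_inr, qd_inr, ng_ng, inl.injEq, ng_ne,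
    if_true, if_false, smul_eq_mul, reduceCtorEq]
  match_scalars <;> field_simp <;> ring

end Cfsg.Agent.KZ.Dat.Om
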