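import Cfsg.Agent.KZ.Dat.SmG
import Cfsg.Agent.KZ.Dat.Cov
import Cfsg.Agent.DL.Tw.Emb

/-!
# Minuscule weight systems with signs, III : the datum in characteristic `p` (helper46)

`frP N p k e` (Frobenius), `H.rgd`, `m.G k cs h`, `m.Sy` (symmetries of the frame), `H.datT`, `H.dat` (the data),
`m.pw cs h` (the Weyl group on the weights), `au_fr`, `au_sy` (automorphisms of the frame).
-/

set_option autoImplicit false
set_option linter.unusedSectionVars false

namespace Cfsg.Agent.KZ.Dat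

open CoxeterSystem Cfsg.Agent.ChevalleyStructure.CoxeterGeom Cfsg.Agent.Tits.Roots Cfsg.Agent.Nodes.Coroot Matrix
  Cfsg.Agent.Nodes.Reps Cfsg.Agent.Nodes.BNOf Cfsg.Agent.Nodes.Bruhat Cfsg.Agent.LangThm Cfsg.Agent.DL Cfsg.Agent.DL.PP
  Cfsg.Agent.ODD.C2
open scoped commutatorElement

section fr

variable (N : Type) [Fintype N] [DecidableEq N] (p : ℕ) [Fact p.Prime] (k : Type) [Field k] [CharP k p]

/-- the matrices over the field with `p ^ e` elements -/
noncomputable abbrev lv (e : ℕ) : Subgroup (GL N k) := lev p (MonoidHom.id (GL N k)) e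

variable [PerfectRing k p]

/-- the Frobenius automorphism -/
noncomputable def frP (e : ℕ) : MulAut (GL N k) := Units.mapEquiv (iterateFrobeniusEquiv k p e).mapMatrix.toMulEquiv

variable {N p k}

theorem frP_apply (e : ℕ) (g : GL N k) : frP N p k e g = frob p e g := rfl

theorem frP_inv (e : ℕ) (g : GL N k) :
    (frP N p k e)⁻¹ g = GeneralLinearGroup.map ((iterateFrobeniusEquiv k p e).symm : k →+* k) g := rfl

theorem frP_add (d e : ℕ) : frP N p k (d + e) = frP N p k d * frP N p k e :=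
  MulEquiv.ext fun g => Units.ext (Matrix.ext fun a c => by
    rw [MulAut.mul_apply, frP_apply, frP_apply, frP_apply, frob_apply, frob_apply, frob_apply, ← pow_mul, ← pow_add, add_comm])

theorem frP_zero : frP N p k 0 = 1 :=
  MulEquiv.ext fun g => Units.ext (Matrix.ext fun a c => by rw [frP_apply, frob_apply, pow_zero, pow_one]; rfl)

theorem frP_pow (e d : ℕ) : frP N p k e ^ d = frP N p k (d * e) := by
  induction d with
  | zero => rw [zero_mul, frP_zero, pow_zero]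
  | succ d ih => rw [pow_succ, ih, add_mul, one_mul, frP_add]

theorem frP_comm (d e : ℕ) : Commute (frP N p k d) (frP N p k e) := by rw [Commute, SemiconjBy, ← frP_add, ← frP_add, add_comm]

theorem GF_frP (e : ℕ) (H : Subgroup (GL N k)) : GF (1 * frP N p k e) H = H ⊓ lv N p k e := rfl

end fr

theorem cube_eq {𝔸 : Type*} [Ring 𝔸] {A B : 𝔸} (hA : A * A = 0) (hB : B * B = 0) (h : A * B * A = A) (h' : B * A * B = B) :
    ((1 + A) * (1 - B) - 1) ^ 3 * A = A := by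
  have h1 : ∀ X : 𝔸, X * A * A = 0 := fun X => by rw [mul_assoc, hA, mul_zero]
  have h2 : ∀ X : 𝔸, X * B * B = 0 := fun X => by rw [mul_assoc, hB, mul_zero]
  rw [show (1 + A) * (1 - B) - 1 = A - B - A * B by noncomm_ring, pow_succ, sq]
  simp only [mul_sub, sub_mul, ← mul_assoc, hA, hB, h, h', h1, h2, zero_mul]
  abel

namespace Sm

variable {I : Type} [Fintype I] [DecidableEq I] {A : I → I → ℤ} {R N : Type} [Fintype R] [DecidableEq R] [Fintype N]
  [DecidableEq N] (m : Sm A R N) {p : ℕ} [Fact p.Prime] {k : Type} [Field k] [CharP k p]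
  {W : Type} [Group W] [Finite W] {M : CoxeterMatrix I} {cs : CoxeterSystem M W} {h : IsCartan M A}

theorem frob_x {a : I → ℤ} (ha : IsRoot cs h a) (e : ℕ) (u : k) : frob p e (m.x k a u) = m.x k a (u ^ p ^ e) := by
  rw [frob, m.map_x _ ha, iterateFrobenius_def]

theorem frob_τ (e : ℕ) (c : R → kˣ) : frob p e (m.τ k c) = m.τ k (c ^ p ^ e) := by
  rw [frob, m.map_τ]
  exact congrArg _ (funext fun j => Units.ext (iterateFrobenius_def _ _ _))

theorem τ_mem_lv {e : ℕ} {c : R → kˣ} : m.τ k c ∈ lv N p k e ↔ c ^ p ^ e = c := by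
  rw [mem_lev, MonoidHom.id_apply, m.frob_τ, (m.τ_inj k).eq_iff]

theorem x_mem_lv {a : I → ℤ} (ha : IsRoot cs h a) {e : ℕ} {u : k} :
    m.x k a u ∈ lv N p k e ↔ iterateFrobenius k p e u = u := by
  rw [mem_lev, MonoidHom.id_apply, frob, m.map_x _ ha, (m.x_inj ha).eq_iff]

theorem mem_Xe {a : I → ℤ} (ha : IsRoot cs h a) {e : ℕ} {y : GL N k} :
    y ∈ m.X k a ⊓ lv N p k e ↔ ∃ u, iterateFrobenius k p e u = u ∧ m.x k a u = y :=
  ⟨fun ⟨h1, h2⟩ => let ⟨u, h3⟩ := (m.mem_X k).1 h1; ⟨u, (m.x_mem_lv ha).1 (h3 ▸ h2), h3⟩,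
    fun ⟨u, h1, h2⟩ => h2 ▸ ⟨⟨u, rfl⟩, (m.x_mem_lv ha).2 h1⟩⟩

variable (cs h) in
include cs h in
theorem n_mem_normalizer (e : ℕ) (i : I) :
    m.n k i ∈ Subgroup.normalizer (((m.τ k).range ⊓ lv N p k e : Subgroup (GL N k)) : Set (GL N k)) := by
  have h0 : m.n k i ∈ lv N p k e := m.map_n _ cs h i
  refine Subgroup.mem_normalizer_iff.2 fun t => ⟨?_, fun ⟨⟨c, hc⟩, ht⟩ => ⟨?_, ?_⟩⟩
  · rintro ⟨⟨c, rfl⟩, hc⟩
    exact ⟨⟨_, (m.n_τ cs h i c).symm⟩, (lv N p k e).mul_mem (mul_mem h0 hc) (inv_mem h0)⟩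
  · have h1 := m.n_τ cs h i c
    have h2 := m.n_n (K := k) cs h i
    have h3 : t = (m.n k i * m.n k i)⁻¹ * (m.n k i * m.τ k c * (m.n k i)⁻¹) * (m.n k i * m.n k i) := by
      rw [hc]
      group
    rw [h3, h1, h2]
    exact (m.τ k).range.mul_mem (mul_mem (inv_mem ⟨_, rfl⟩) ⟨_, rfl⟩) ⟨_, rfl⟩
  · simpa [mul_assoc] using (lv N p k e).mul_mem (mul_mem (inv_mem h0) ht) h0

theorem notp {a : I → ℤ} (ha : IsRoot cs h a) (j : ℕ) : (m.x k a 1 * m.x k (-a) (-1)) ^ p ^ j ≠ 1 := fun h0 => by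
  have h1 := cube_eq (m.ek_sq (K := k) ha) (m.ek_sq ha.neg) (m.ek_efe a) (m.ek_fef a)
  have h2 := congrArg Units.val h0
  rw [Units.val_pow_eq_pow_val, Units.val_mul, m.coe_x ha, m.coe_x ha.neg, one_smul, neg_one_smul, ← sub_eq_add_neg,
    Units.val_one] at h2
  have : Nontrivial (Matrix N N k) := ⟨_, _, m.ek_ne ha⟩
  have : CharP (Matrix N N k) p := charP_of_injective_algebraMap (algebraMap k _).injective p
  have h3 := sub_pow_char_pow_of_commute p j (Commute.one_right ((1 + m.ek k a) * (1 - m.ek k (-a))))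
  rw [h2, one_pow, sub_self] at h3
  generalize (1 + m.ek k a) * (1 - m.ek k (-a)) - 1 = Z at h1 h3
  have h4 : ∀ i : ℕ, (Z ^ 3) ^ i * m.ek k a = m.ek k a := fun i => by
    induction i with
    | zero => rw [pow_zero, one_mul]
    | succ i ih => rw [pow_succ, mul_assoc, h1, ih]
  exact m.ek_ne ha (by rw [← h4 (p ^ j), ← pow_mul, mul_comm 3, pow_mul, h3, zero_pow three_ne_zero, zero_mul])

variable (k cs h) in
/-- the algebraic group -/
noncomputable def G : Subgroup (GL N k) := GG cs h (m.τ k).range (m.X k)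

theorem G_le {H : Subgroup (GL N k)} (hτ : ∀ c, m.τ k c ∈ H) (hx : ∀ a, IsRoot cs h a → ∀ u, m.x k a u ∈ H) :
    m.G k cs h ≤ H :=
  sup_le (fun _ ⟨c, e⟩ => e ▸ hτ c) (RGD.Sup_le fun a ha _ ⟨u, e⟩ => e ▸ hx a ha u)

theorem τ_mem_G (c : R → kˣ) : m.τ k c ∈ m.G k cs h := Subgroup.mem_sup_left ⟨c, rfl⟩

theorem x_mem_G {a : I → ℤ} (ha : IsRoot cs h a) (u : k) : m.x k a u ∈ m.G k cs h :=
  Subgroup.mem_sup_right (RGD.le_Sup (S := {x | IsRoot cs h x}) ha ⟨u, rfl⟩)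

variable (cs h) in
/-- a symmetry of the frame -/
structure Sy (α : MulAut (GL N k)) (g : (I → ℤ) → I → ℤ) (B : Matrix R R ℤ) : Prop where
  root : ∀ a, IsRoot cs h a → IsRoot cs h (g a)
  x : ∀ a, IsRoot cs h a → ∃ c : k, c ≠ 0 ∧ ∀ u, α (m.x k a u) = m.x k (g a) (c * u)
  τ : ∀ c, α (m.τ k c) = m.τ k (mon B c)
  map : ∀ (f : k →+* k) y, α (GeneralLinearGroup.map f y) = GeneralLinearGroup.map f (α y)
  fin : IsOfFinOrder α

theorem sy_one : m.Sy (k := k) cs h 1 id 1 :=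
  ⟨fun _ => id, fun _ _ => ⟨1, one_ne_zero, fun u => by rw [one_mul]; rfl⟩, fun c => by rw [mon_one]; rfl, fun _ _ => rfl,
    IsOfFinOrder.one⟩

theorem sy_it : m.Sy cs h (itA N k) (fun a => -a) (-1) :=
  ⟨fun _ => IsRoot.neg, fun _ ha => ⟨-1, neg_ne_zero.2 one_ne_zero, fun u => by rw [m.itA_x ha, neg_one_mul]⟩,
    fun c => by rw [mon_neg, mon_one, m.itA_τ], fun _ y => (map_itA _ y).symm,
    isOfFinOrder_iff_pow_eq_one.2 ⟨2, two_pos, by rw [sq]; rfl⟩⟩

variable (cs h) in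
/-- the Weyl group permutes the weights -/
noncomputable def pw : W →* Equiv.Perm N := cs.lift ⟨m.sp h, m.sp_braid h⟩

theorem pw_simple (i : I) (a : N) : m.pw cs h (cs.simple i) a = m.σ i a :=
  DFunLike.congr_fun (cs.lift_apply_simple (m.sp_braid h) i) a

variable {m} {α : MulAut (GL N k)} {g : (I → ℤ) → I → ℤ} {B : Matrix R R ℤ}

theorem Sy.commute [PerfectRing k p] (S : m.Sy cs h α g B) (e : ℕ) : Commute α (frP N p k e) :=
  MulEquiv.ext (S.map (iterateFrobenius k p e))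

/-- the fixed points of a twisted Frobenius map lie in a finite level -/
theorem Sy.fix_le [PerfectRing k p] (S : m.Sy cs h α g B) {d : ℕ} (hd : α ^ d = 1) (e : ℕ) :
    fix (α * frP N p k e) ≤ lv N p k (d * e) := by
  intro y hy
  have h2 : ((α * frP N p k e) ^ d) y = y :=
    (MulAction.stabilizer (MulAut (GL N k)) y).pow_mem (x := α * frP N p k e) (mem_fix.1 hy) d
  rwa [(S.commute e).mul_pow, hd, one_mul, frP_pow, frP_apply] at h2

variable (H : m.Ok cs h)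
include H

theorem Ok.comm_mem {e : ℕ} {a b : I → ℤ} (ha : IsRoot cs h a) (hb : IsRoot cs h b) (hab : a + b ≠ 0)
    (h0 : m.e b * m.e a * m.e b = 0) {u v : k} (hu : iterateFrobenius k p e u = u) (hv : iterateFrobenius k p e v = v) :
    ⁅m.x k a u, m.x k b v⁆ ∈ btw cs h (fun a => m.X k a ⊓ lv N p k e) a b := by
  obtain ⟨i, j, h1⟩ := H.comm (K := k) ha hb hab h0
  obtain ⟨y, z, h2, h3, h4⟩ := h1 u v
  rw [h2]
  refine mul_mem ?_ ?_
  · rcases h3 with rfl | ⟨hz, rfl⟩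
    · exact one_mem _
    · exact le_btw hz one_pos one_pos (by simp) ((m.mem_Xe hz).2 ⟨_, by simp only [map_mul, map_intCast, hu, hv], rfl⟩)
  · rcases h4 with rfl | ⟨hz, rfl⟩
    · exact one_mem _
    · exact le_btw hz two_pos one_pos (by module) ((m.mem_Xe hz).2 ⟨_, by simp only [map_mul, map_intCast, hu, hv], rfl⟩)

theorem Ok.rgd {e : ℕ} (he : 0 < e) :
    RGD cs h p ((m.τ k).range ⊓ lv N p k e) (m.n k) fun a => m.X k a ⊓ lv N p k e where
  nsys := H.nsys (m.n_mem_normalizer cs h e) fun i => ⟨⟨_, rfl⟩, m.τ_mem_lv.2 (by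
    rw [← map_pow]
    exact congrArg _ (Units.ext (by simp [neg_one_pow_char_pow])))⟩
  conj i a ha := by
    obtain ⟨δ, h1⟩ := H.n_x (K := k) i ha
    have h2 : ∀ u : k, ((δ : ℤ) : k) * (((δ : ℤ) : k) * u) = u := fun u => by
      rw [← mul_assoc, ← Int.cast_mul, ← Units.val_mul, Int.units_mul_self, Units.val_one, Int.cast_one, one_mul]
    ext y
    rw [mem_cj, m.mem_Xe ha, m.mem_Xe (ha.act _)]
    constructor
    · rintro ⟨u, hu, e1⟩
      exact ⟨(δ : ℤ) * u, by rw [map_mul, map_intCast, hu], by rw [← (h1 u).1, e1]; group⟩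
    · rintro ⟨u, hu, rfl⟩
      exact ⟨(δ : ℤ) * u, by rw [map_mul, map_intCast, hu], by rw [← h2 u, ← (h1 _).1, h2]; group⟩
  tor a ha := by
    have h1 : ∀ t ∈ (m.τ k).range ⊓ lv N p k e, ∀ y ∈ m.X k a ⊓ lv N p k e, t * y * t⁻¹ ∈ m.X k a ⊓ lv N p k e := by
      rintro _ ⟨⟨c, rfl⟩, hc⟩ _ ⟨⟨u, rfl⟩, hu⟩
      exact ⟨⟨_, (m.τ_x ha c _).symm⟩, (lv N p k e).mul_mem (mul_mem hc hu) ((lv N p k e).inv_mem hc)⟩
    intro t ht
    ext y
    rw [mem_cj]
    exact ⟨fun hy => by simpa [mul_assoc] using h1 t ht _ hy, fun hy => by simpa using h1 _ (inv_mem ht) _ hy⟩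
  comm a b ha hb _ hab y hy z hz := by
    obtain ⟨u, hu, rfl⟩ := (m.mem_Xe ha).1 hy
    obtain ⟨v, hv, rfl⟩ := (m.mem_Xe hb).1 hz
    have h1 : a + b ≠ 0 := fun e => hab (eq_neg_of_add_eq_zero_left e)
    rcases tri_or (m := m) ha hb h1 with h2 | h2
    · exact H.comm_mem ha hb h1 h2 hu hv
    · rw [← commutatorElement_inv]
      exact inv_mem ((iSup_le fun z => le_btw_of (X := fun a => m.X k a ⊓ lv N p k e) z.2.symm :
        btw cs h (fun a => m.X k a ⊓ lv N p k e) b a ≤ _) (H.comm_mem hb ha (add_comm a b ▸ h1) h2 hv hu))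
  rk1 i y hy hne := by
    have hr := isRoot_sr cs h i
    obtain ⟨u, hu, rfl⟩ := (m.mem_Xe hr.neg).1 hy
    have h0 : -u ≠ 0 := fun e => hne (by rw [neg_eq_zero.1 e, m.x_zero])
    have h1 : iterateFrobenius k p e ((Units.mk0 _ h0)⁻¹ : kˣ) = ((Units.mk0 _ h0)⁻¹ : kˣ) := by simp [hu]
    have h2 := (m.mem_Xe hr).2 ⟨_, (map_neg _ _).trans (congrArg _ h1), rfl⟩
    refine ⟨_, h2, _, ⟨⟨_, rfl⟩, m.τ_mem_lv.2 ?_⟩, _, h2, Eq.trans (by simp) (m.rk1 cs h i (Units.mk0 _ h0)⁻¹)⟩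
    rw [← map_pow]
    exact congrArg _ (Units.ext ((iterateFrobenius_def _ _ _).symm.trans h1))
  pgrp i := fun ⟨_, ⟨u, rfl⟩, _⟩ => ⟨1, Subtype.ext (by
    have h1 : ∀ (j : ℕ) (v : k), m.x k (sr i) v ^ j = m.x k (sr i) (j * v) := fun j v => by
      induction j with
      | zero => rw [pow_zero, Nat.cast_zero, zero_mul, m.x_zero]
      | succ j ih => rw [pow_succ, ih, ← m.x_add, Nat.cast_succ, add_one_mul]
    show m.x k _ _ ^ p ^ 1 = 1
    rw [pow_one, h1, CharP.cast_eq_zero, zero_mul, m.x_zero])⟩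
  notp i hp := by
    have hr := isRoot_sr cs h i
    obtain ⟨j, hj⟩ := hp ⟨_, mul_mem (Subgroup.mem_sup_left ((m.mem_Xe (e := e) hr).2 ⟨(1 : k), map_one _, rfl⟩))
      (Subgroup.mem_sup_right ((m.mem_Xe (e := e) hr.neg).2 ⟨(-1 : k), by rw [map_neg, map_one], rfl⟩))⟩
    exact m.notp hr j (congrArg Subtype.val hj)
  tcop := by
    have := Ex.finite_lev (p := p) (ρ := MonoidHom.id (GL N k)) Function.injective_id he
    have : Finite ↥((m.τ k).range ⊓ lv N p k e) := Finite.of_injective _ (Subgroup.inclusion_injective inf_le_right)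
    exact Ex.coprime_card (m.τ_inj k) fun t ht => ht.1

variable [IsAlgClosed k]

/-- **The datum** for the Steinberg map `α ∘ Frob`. -/
noncomputable def Ok.datT (hk : ∀ a : k, ∃ j, 0 < j ∧ a ^ p ^ j = a) {e : ℕ} (he : 0 < e) (S : m.Sy cs h α g B) :
    Datum p (MonoidHom.id (GL N k)) (α * frP N p k e) (m.G k cs h) where
  amb := ⟨hk, Function.injective_id, by
    obtain ⟨d, hd, h1⟩ := isOfFinOrder_iff_pow_eq_one.1 S.fin
    exact ⟨d, d * e, hd, Nat.mul_pos hd he, fun y => by rw [(S.commute e).mul_pow, h1, one_mul, frP_pow]; rfl⟩⟩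
  I := I
  W := W
  M := M
  cs := cs
  A := A
  h := h
  R := R
  τ := m.τ k
  τ_inj := m.τ_inj k
  T := (m.τ k).range
  mem_T _ := Iff.rfl
  X := m.X k
  x := m.x k
  mem_X _ _ _ := Iff.rfl
  x_inj _ ha := m.x_inj ha
  x_add a _ := m.x_add k a
  n := m.n k
  wt := m.wt
  cw := m.cw
  pair := m.pair
  tor _ ha := m.τ_x ha
  refl := m.n_τ cs h
  rgd := ⟨1, one_pos, fun _ hj => H.rgd (by omega)⟩
  G_eq := rfl
  polyx a ha i j := ⟨(if i = j then 1 else 0) + if m.St a i j then Polynomial.X * ((m.s i j : ℤ) : Polynomial k) else 0,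
    fun u => by
      rw [MonoidHom.id_apply, m.x_apply ha]
      split_ifs <;> simp⟩
  diag := ⟨1, m.μ, fun c => by rw [inv_one, one_mul, mul_one]; rfl⟩
  g := g
  ex _ := e
  g_root := S.root
  F_x a ha := let ⟨c, h1, h2⟩ := S.x a ha; ⟨c, h1, fun u => by rw [MulAut.mul_apply, frP_apply, m.frob_x ha, h2]⟩
  Mx := ((p : ℤ) ^ e) • B
  F_τ c := by
    rw [MulAut.mul_apply, frP_apply, m.frob_τ, S.τ, mon_zsmul, map_pow, ← zpow_natCast, Nat.cast_pow]

variable (hk : ∀ a : k, ∃ j, 0 < j ∧ a ^ p ^ j = a) {e : ℕ} (he : 0 < e)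

/-- **The split datum.** -/
noncomputable abbrev Ok.dat : Datum p (MonoidHom.id (GL N k)) (1 * frP N p k e) (m.G k cs h) := H.datT hk he m.sy_one

theorem Ok.dat_qs : (H.dat hk he).QS := fun _ _ h0 => h0

variable (S : m.Sy cs h α g B)

theorem Ok.datT_qs {π : I → I} (hπ : ∀ i, g (sr i) = sr (π i)) : (H.datT hk he S).QS := Datum.QSp.qs (π := π) hπ

theorem Ok.datT_Mx : (H.datT hk he S).Mx = ((p : ℤ) ^ e) • B := rfl

/-- the matrices of the Weyl group -/
noncomputable def Ok.wm : W →* Matrix R R ℤ :=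
  ⟨⟨(H.datT hk he S).Wm, (H.datT hk he S).Wm_one⟩, (H.datT hk he S).Wm_mul⟩

theorem Ok.Wm_eq (w : W) : (H.datT hk he S).Wm w = H.wm hk he S w := rfl

theorem Ok.wm_simple (i : I) : H.wm hk he S (cs.simple i) = 1 - vecMulVec (m.cw i) (m.wt (sr i)) :=
  (H.datT hk he S).Wm_simple i

/-- the matrix of `w` and the permutation of the weights -/
theorem Ok.μ_pw (w : W) (a : N) : m.μ (m.pw cs h w a) ᵥ* H.wm hk he S w = m.μ a := by
  induction w using cs.simple_induction_left with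
  | one => rw [map_one, map_one, vecMul_one, Equiv.Perm.one_apply]
  | mul_simple_left w i ih =>
    rw [map_mul, map_mul, H.wm_simple, ← vecMul_vecMul, Equiv.Perm.mul_apply, pw_simple, vecMul_sub, vecMul_one,
      vecMul_vecMulVec, ← m.hσ, m.σ_σ h, ih]

theorem Ok.pre_map {β : MulAut (GL N k)} {f : k →+* k} (hβ : ∀ y, β y = GeneralLinearGroup.map f y) :
    Pre (H.datT hk he S) β :=
  ⟨fun c => ⟨_, ((hβ _).trans (m.map_τ f c)).symm⟩, fun a ha => ⟨a, ha, id, fun u => ⟨_, (hβ _).trans (m.map_x f ha u)⟩⟩⟩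

/-- field automorphisms -/
theorem Ok.au_fr (j : ℕ) : Au (H.datT hk he S) (frP N p k j) ((p : ℤ) ^ j • 1) :=
  au_of_pre (H.pre_map hk he S (frP_apply j)) (H.pre_map hk he S (frP_inv j))
    (fun y => DFunLike.congr_fun ((S.commute j).symm.mul_right (frP_comm j e)).eq y) fun c => by
      rw [frP_apply, mon_zsmul, mon_one, ← Nat.cast_pow, zpow_natCast]
      exact m.frob_τ j c

/-- graph automorphisms -/
theorem Ok.au_sy {β : MulAut (GL N k)} {g' : (I → ℤ) → I → ℤ} {B' : Matrix R R ℤ} (S' : m.Sy cs h β g' B')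
    (hg : ∀ a, IsRoot cs h a → 0 ≤ a → 0 ≤ g' a) (hc : Commute β α) : Au (H.datT hk he S) β B' :=
  have h1 : Pre (H.datT hk he S) β := ⟨fun c => ⟨_, (S'.τ c).symm⟩, fun a ha =>
    ⟨g' a, S'.root a ha, hg a ha, fun u => let ⟨_, _, h2⟩ := S'.x a ha; ⟨_, h2 u⟩⟩⟩
  au_of_pre h1 (h1.inv S'.fin) (fun y => DFunLike.congr_fun (hc.mul_right (S'.commute e)).eq y) S'.τ

end Sm

end Cfsg.Agent.KZ.Dat
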