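import Cfsg.Agent.KZ.Dat.OmA
import Cfsg.Agent.KZ.Dat.SmD

/-!
# KZ: the orthogonal frame, II : root systems `OS`, root groups, the root group data of the levels (helper19)
-/

set_option autoImplicit false
set_option maxHeartbeats 400000
set_option linter.unusedSectionVars false

namespace Cfsg.Agent.KZ.Dat.Om

open CoxeterSystem Cfsg.Agent.ChevalleyStructure.CoxeterGeom Cfsg.Agent.Tits.Roots Cfsg.Agent.Nodes.Coroot Matrix Sum
  Cfsg.Agent.Nodes.Reps Cfsg.Agent.Nodes.BNOf Cfsg.Agent.Nodes.Bruhat Cfsg.Agent.LangThm Cfsg.Agent.DL Cfsg.Agent.DL.PP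
open Cfsg.Agent.Nodes.TypeC (wt ng ng_ng wt_ng wt_injective wt_add_eq)
open Cfsg.Agent.ODD.C2 (pm pm_apply map_pm)
open scoped commutatorElement

variable {m : ℕ} {J : Type} [Fintype J] [DecidableEq J] {k : Type} [Field k]

/-- the image of `y` under the reflection in the root `(y, z)` -/
def tg (y : Fin m × Bool) : NN m J → Fin m × Bool := Sum.elim ng fun _ => ng y

/-- the sign of the reflection on the anisotropic part -/
def ep : NN m J → ℤˣ := Sum.elim (fun _ => 1) fun _ => -1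

/-- the coroot -/
def cv (y : Fin m × Bool) (z : NN m J) : Fin m → ℤ := wt y - wt (tg y z)

theorem cv_inl (y y' : Fin m × Bool) : cv y (inl y' : NN m J) = wt y + wt y' := by
  rw [cv, tg, elim_inl, wt_ng, sub_neg_eq_add]

theorem cv_inr (y : Fin m × Bool) (j : J) : cv y (inr j : NN m J) = wt y + wt y := by
  rw [cv, tg, elim_inr, wt_ng, sub_neg_eq_add]

theorem wt_dot_self (a : Fin m × Bool) : wt a ⬝ᵥ wt a = 1 := by rw [wt_dot, if_pos rfl]

theorem wt_dot_ne {a b : Fin m × Bool} (h : a.1 ≠ b.1) : wt a ⬝ᵥ wt b = 0 := by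
  rw [Ne, fst_eq_iff, not_or] at h
  rw [wt_dot, if_neg h.1, if_neg h.2]

theorem lab_eq [Subsingleton J] {y y' : Fin m × Bool} {z z' : NN m J} (h : Ok y z) (h' : Ok y' z')
    (e : wt y + mu z = wt y' + mu z') : (y = y' ∧ z = z') ∨ (z = inl y' ∧ z' = inl y) := by
  have h1 : ∀ {a b c : Fin m × Bool}, a.1 ≠ b.1 → wt a + wt b ≠ wt c := fun {a b c} h e => by
    have := wt_dot_self c
    rw [← e, add_dotProduct, dotProduct_add, dotProduct_add, wt_dot_self, wt_dot_self, wt_dot_ne h, wt_dot_ne h.symm] at this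
    omega
  rcases z with a | j <;> rcases z' with b | j'
  · rcases wt_add_eq (Or.inl (ok_inl.1 h)) (Or.inl (ok_inl.1 h')) e with ⟨rfl, rfl⟩ | ⟨rfl, rfl⟩
    · exact Or.inl ⟨rfl, rfl⟩
    · exact Or.inr ⟨rfl, rfl⟩
  · exact absurd (e.trans (add_zero _)) (h1 (ok_inl.1 h))
  · exact absurd (e.symm.trans (add_zero _)) (h1 (ok_inl.1 h'))
  · exact Or.inl ⟨wt_injective (add_right_cancel e), congrArg _ (Subsingleton.elim _ _)⟩

/-- permutations of the signed indices -/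
structure Sg (s : Fin m × Bool → Fin m × Bool) : Prop where
  inj : Function.Injective s
  ng : ∀ y, s (ng y) = ng (s y)

variable {s : Fin m × Bool → Fin m × Bool} {g : GL (NN m J) k} {c : k} {d : NN m J → k}

theorem sg_id : Sg (id : Fin m × Bool → _) := ⟨Function.injective_id, fun _ => rfl⟩

theorem Sg.ok (h : Sg s) {y : Fin m × Bool} {z : NN m J} (hz : Ok y z) : Ok (s y) (Sum.map s id z) := by
  rcases z with a | j
  · exact ⟨fun e => hz.1 (congrArg _ (h.inj (inl.inj e))), fun e => hz.2 (congrArg _ (h.inj ((inl.inj e).trans (h.ng y).symm)))⟩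
  · exact ok_inr _ _

theorem Sg.sim (h : Sg s) (hm : Mo g (Sum.map s id) d) (hd : ∀ z, d z * d (op z) = c) : Sim g c :=
  hm.sim (fun z w => by rcases z with a | j <;> rcases w with b | j' <;> simp [← h.ng, h.inj.eq_iff])
    (fun z => by rcases z with a | j <;> rfl) hd

variable (J k) in
/-- the torus -/
def τ : (Fin m → kˣ) →* GL (NN m J) k := dg.comp (MonoidHom.pi fun z => chr (mu z))

theorem τ_eq (c : Fin m → kˣ) : τ J k c = dg fun z => chr (mu z) c := rfl

theorem mo_τ (c : Fin m → kˣ) : Mo (τ J k c) id fun z => (chr (mu z) c : kˣ) := mo_dg _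

theorem chr_true (i : Fin m) (c : Fin m → kˣ) : chr (wt (i, true)) c = c i := chr_single i c

theorem chr_false (i : Fin m) (c : Fin m → kˣ) : chr (wt (i, false)) c = (c i)⁻¹ := by
  rw [show ((i, false) : Fin m × Bool) = ng (i, true) from rfl, wt_ng, chr_neg, chr_true]

theorem τ_inj : Function.Injective (τ (m := m) J k) := fun c c' e => funext fun i => Units.ext (by
  have h1 := congrFun ((mo_τ (J := J) c (inl (i, true))).symm.trans (e ▸ mo_τ c' (inl (i, true)))) (inl (i, true))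
  simpa [bv_self, chr_true] using h1)

theorem sim_τ (c : Fin m → kˣ) : Sim (τ J k c) 1 :=
  sg_id.sim (by rw [Sum.map_id_id]; exact mo_τ c) fun z => by rw [mu_op, chr_neg, Units.mul_inv]

theorem map_τ {l : Type} [Field l] (f : k →+* l) (c : Fin m → kˣ) :
    GeneralLinearGroup.map f (τ J k c) = τ J l fun j => Units.map (f : k →* l) (c j) := by
  rw [τ_eq, τ_eq, map_dg]
  simp [chr_apply]

theorem Mo.conj_τ {π : NN m J → NN m J} (hm : Mo g π d) {c c' : Fin m → kˣ} (h : ∀ z, chr (mu (π z)) c' = chr (mu z) c) :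
    g * τ J k c * g⁻¹ = τ J k c' := by
  rw [mul_inv_eq_iff_eq_mul]
  exact (hm.mul (mo_τ c)).ext ((mo_τ c').mul hm) (fun _ => rfl) fun z => by simp only [id, h, mul_comm]

theorem mem_τ (hm : Mo g id d) (hg : Sim g 1) (hd : ∀ j, d (inr j) = 1) : g ∈ (τ (m := m) J k).range := by
  refine ⟨fun i => Units.mk0 _ (hm.ne (inl (i, true))), (mo_τ _).ext hm (fun _ => rfl) ?_⟩
  rintro (⟨i, _ | _⟩ | j)
  · have h1 := hg.polar (bv k (inl (i, true))) (bv k (inl (i, false)))
    rw [hm, hm, QuadraticMap.polar_smul_left, QuadraticMap.polar_smul_right, id, id, inl_polar] at h1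
    rw [mu_inl, chr_false, Units.val_inv_eq_inv_val, Units.val_mk0]
    exact inv_eq_of_mul_eq_one_right (by simpa [ng, bv_self] using h1)
  · rw [mu_inl, chr_true, Units.val_mk0]
  · rw [mu_inr, chr_zero, hd, Units.val_one]

theorem not_uni {p : ℕ} [Fact p.Prime] [CharP k p] {v : NN m J → k} (hv : v ≠ 0) (hc : c ≠ 0)
    (h : (g.val - 1) ^ 3 *ᵥ v = c • v) (j : ℕ) : g ^ p ^ j ≠ 1 := fun h0 => by
  have h2 := congrArg Units.val h0
  rw [Units.val_pow_eq_pow_val, Units.val_one] at h2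
  have : Nonempty (NN m J) := by
    by_contra h
    exact hv (funext fun a => absurd ⟨a⟩ h)
  have : CharP (Matrix (NN m J) (NN m J) k) p := charP_of_injective_algebraMap (algebraMap k _).injective p
  have h3 := sub_pow_char_pow_of_commute p j (Commute.one_right g.val)
  rw [h2, one_pow, sub_self] at h3
  have h4 : ∀ i : ℕ, ((g.val - 1) ^ 3) ^ i *ᵥ v = c ^ i • v := fun i => by
    induction i with
    | zero => simp
    | succ i ih => rw [pow_succ, ← mulVec_mulVec, h, mulVec_smul, ih, smul_smul, pow_succ']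
  have h5 := h4 (p ^ j)
  rw [← pow_mul, mul_comm 3, pow_mul, h3, zero_pow three_ne_zero, zero_mulVec] at h5
  exact hv ((smul_eq_zero.1 h5.symm).resolve_left (pow_ne_zero _ hc))

variable {W : Type} [Group W] {M : CoxeterMatrix (Fin m)} {A : Fin m → Fin m → ℤ}

variable (J) in
/-- a root system of type `B` or `D` in coordinates -/
structure OS (cs : CoxeterSystem M W) (h : IsCartan M A) where
  sub : Subsingleton J
  ee : (Fin m → ℤ) →+ (Fin m → ℤ)
  inj : Function.Injective ee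
  y : Fin m → Fin m × Bool
  z : Fin m → NN m J
  ok : ∀ i, Ok (y i) (z i)
  ee_sr : ∀ i, ee (sr i) = wt (y i) + mu (z i)
  pair : ∀ i a, ee a ⬝ᵥ cv (y i) (z i) = pairing A i a
  root : ∀ a, IsRoot cs h a ↔ ∃ y, ∃ z : NN m J, Ok y z ∧ ee a = wt y + mu z
  σ : Fin m → Fin m × Bool → Fin m × Bool
  hσ : ∀ i b, wt (σ i b) = wt b - (wt b ⬝ᵥ cv (y i) (z i)) • ee (sr i)
  braid : ∀ i j b, (fun x => σ i (σ j x))^[M i j] b = b
  par : ∀ i j, (ep (z i) * ep (z j)) ^ M i j = 1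
  all : ∀ y (z : NN m J), Ok y z → ∃ a, ee a = wt y + mu z

namespace OS

variable {cs : CoxeterSystem M W} {h : IsCartan M A} (O : OS J cs h) {a b : Fin m → ℤ} {y y' : Fin m × Bool} {z z' : NN m J}

theorem isRoot (hz : Ok y z) (e : O.ee a = wt y + mu z) : IsRoot cs h a := (O.root a).2 ⟨y, z, hz, e⟩

theorem ee_neg (e : O.ee a = wt y + mu z) : O.ee (-a) = wt (ng y) + mu (op z) := by
  rw [map_neg, e, wt_ng, mu_op, neg_add]

theorem σ_σ (i : Fin m) (b : Fin m × Bool) : O.σ i (O.σ i b) = b := by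
  have := O.braid i i b
  rwa [M.diagonal] at this

theorem sg (i : Fin m) : Sg (O.σ i) :=
  ⟨Function.LeftInverse.injective (O.σ_σ i), fun b => wt_injective (by
    rw [wt_ng, O.hσ, O.hσ, wt_ng, neg_dotProduct, neg_smul]; abel)⟩

theorem σ_y (i : Fin m) : O.σ i (O.y i) = tg (O.y i) (O.z i) := wt_injective (by
  have h1 := O.ok i
  rw [O.hσ, O.ee_sr]
  generalize O.z i = z at h1
  rcases z with y' | j
  · rw [cv_inl, dotProduct_add, wt_dot_self, wt_dot_ne (ok_inl.1 h1), tg, elim_inl, wt_ng, mu_inl]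
    module
  · rw [cv_inr, dotProduct_add, wt_dot_self, tg, elim_inr, wt_ng, mu_inr]
    module)

theorem σ_ne {i : Fin m} {b : Fin m × Bool} (h1 : b.1 ≠ (O.y i).1) (h2 : b.1 ≠ (tg (O.y i) (O.z i)).1) : O.σ i b = b :=
  wt_injective (by rw [O.hσ, cv, dotProduct_sub, wt_dot_ne h1, wt_dot_ne h2, sub_zero, zero_smul, sub_zero])

theorem mu_σ (i : Fin m) (z : NN m J) :
    mu (Sum.map (O.σ i) id z) = mu z - (mu z ⬝ᵥ cv (O.y i) (O.z i)) • O.ee (sr i) := by
  rcases z with b | j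
  · exact O.hσ i b
  · simp

theorem ee_σ (i : Fin m) (e : O.ee a = wt y + mu z) :
    O.ee (rep cs h (cs.simple i) a) = wt (O.σ i y) + mu (Sum.map (O.σ i) id z) := by
  rw [rep_simple_eq, map_sub, map_zsmul, ← O.pair, e, O.hσ, O.mu_σ, add_dotProduct]
  module

variable (k) in
open Classical in
/-- the root elements -/
noncomputable def x (a : Fin m → ℤ) (u : k) : GL (NN m J) k :=
  if h : ∃ q : (Fin m × Bool) × NN m J, Ok q.1 q.2 ∧ O.ee a = wt q.1 + mu q.2 then El h.choose.1 h.choose.2 u else 1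

theorem x_spec (ha : IsRoot cs h a) : ∃ y z, Ok y z ∧ O.ee a = wt y + mu z ∧
    ∀ (l : Type) [Field l] (u : l), O.x l a u = El y z u := by
  obtain ⟨y, z, h1⟩ := (O.root a).1 ha
  have h2 : ∃ q : (Fin m × Bool) × NN m J, Ok q.1 q.2 ∧ O.ee a = wt q.1 + mu q.2 := ⟨(y, z), h1⟩
  exact ⟨_, _, h2.choose_spec.1, h2.choose_spec.2, fun _ _ _ => dif_pos h2⟩

theorem x_add (a : Fin m → ℤ) (u v : k) : O.x k a (u + v) = O.x k a u * O.x k a v := by
  unfold x
  split_ifs with h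
  · exact El_add h.choose_spec.1.2 u v
  · rw [mul_one]

theorem x_eq (hz : Ok y z) (e : O.ee a = wt y + mu z) : ∃ ε : k, ε * ε = 1 ∧ ∀ u, El y z u = O.x k a (ε * u) := by
  have := O.sub
  obtain ⟨y', z', h1, h2, h3⟩ := O.x_spec (O.isRoot hz e)
  rcases lab_eq hz h1 (e.symm.trans h2) with ⟨rfl, rfl⟩ | ⟨rfl, rfl⟩
  · exact ⟨1, one_mul _, fun u => by rw [one_mul, h3]⟩
  · exact ⟨-1, by simp, fun u => by rw [h3, El_swap (by simpa using hz.2), neg_one_mul]⟩

theorem x_inj (ha : IsRoot cs h a) : Function.Injective (O.x k a) := by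
  obtain ⟨y, z, h1, -, h3⟩ := O.x_spec ha
  rw [funext (h3 k)]
  exact El_inj h1

theorem map_x {l : Type} [Field l] (f : k →+* l) (ha : IsRoot cs h a) (u : k) :
    GeneralLinearGroup.map f (O.x k a u) = O.x l a (f u) := by
  obtain ⟨y, z, h1, -, h3⟩ := O.x_spec ha
  rw [h3, h3, map_El f h1.2]

theorem sim_x (ha : IsRoot cs h a) (u : k) : Sim (O.x k a u) 1 := by
  obtain ⟨y, z, h1, -, h3⟩ := O.x_spec ha
  rw [h3]
  exact El_sim h1.2 u

theorem τ_x (ha : IsRoot cs h a) (c : Fin m → kˣ) (u : k) :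
    τ J k c * O.x k a u * (τ J k c)⁻¹ = O.x k a ((chr (O.ee a) c : kˣ) * u) := by
  obtain ⟨y, z, h1, h2, h3⟩ := O.x_spec ha
  rw [h3, h3, El_conj h1.2 (sim_τ c) one_ne_zero (mo_τ c) rfl, h2, chr_add, div_one, Units.val_mul]
  rfl

theorem conj_x (hs : Sg s) (hg : Sim g c) (hc : c ≠ 0) (hm : Mo g (Sum.map s id) d) (ha : IsRoot cs h a)
    (e : ∀ y (z : NN m J), O.ee a = wt y + mu z → O.ee b = wt (s y) + mu (Sum.map s id z)) :
    ∃ c' : k, c' ≠ 0 ∧ ∀ u, g * O.x k a u * g⁻¹ = O.x k b (c' * u) := by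
  obtain ⟨y, z, h1, h2, h3⟩ := O.x_spec ha
  obtain ⟨ε, h4, h5⟩ := O.x_eq (k := k) (hs.ok h1) (e y z h2)
  exact ⟨ε * (d (inl y) * d z / c), mul_ne_zero (left_ne_zero_of_mul_eq_one h4)
    (div_ne_zero (mul_ne_zero (hm.ne _) (hm.ne _)) hc), fun u => by
      rw [h3, El_conj h1.2 hg hc hm rfl, h5, mul_assoc]⟩

variable (k) in
/-- the root groups -/
noncomputable def X (a : Fin m → ℤ) : Subgroup (GL (NN m J) k) :=
  (MonoidHom.mk' (fun u : Multiplicative k => O.x k a u.toAdd) fun _ _ => O.x_add a _ _).range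

theorem mem_X : g ∈ O.X k a ↔ ∃ u, O.x k a u = g := Iff.rfl

theorem mem_X' (hz : Ok y z) (e : O.ee a = wt y + mu z) : g ∈ O.X k a ↔ ∃ u, El y z u = g := by
  obtain ⟨ε, h1, h2⟩ := O.x_eq (k := k) hz e
  rw [mem_X]
  exact ⟨fun ⟨u, h3⟩ => ⟨ε * u, by rw [h2, ← mul_assoc, h1, one_mul]; exact h3⟩, fun ⟨u, h3⟩ => ⟨_, (h2 u).symm.trans h3⟩⟩

variable (k) in
/-- the representatives of the simple reflections -/
noncomputable def n (i : Fin m) : GL (NN m J) k :=
  pm k (Equiv.sumCongr (Function.Involutive.toPerm _ (O.σ_σ i)) (Equiv.refl J)) *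
    dg (Sum.elim 1 fun _ => Units.map (Int.castRingHom k : ℤ →* k) (ep (O.z i)))

theorem mo_n (i : Fin m) : Mo (O.n k i) (Sum.map (O.σ i) id) (Sum.elim 1 fun _ => ((ep (O.z i) : ℤ) : k)) := fun z => by
  rw [n, (mo_pm _).mul (mo_dg _)]
  rcases z with b | j
  · simp only [id, Sum.elim_inl, Pi.one_apply, Units.val_one, mul_one]
    rfl
  · simp

theorem ep_sq (z : NN m J) : ((ep z : ℤ) : k) * ((ep z : ℤ) : k) = 1 := by
  rw [← Int.cast_mul, ← Units.val_mul, Int.units_mul_self, Units.val_one, Int.cast_one]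

theorem sim_n (i : Fin m) : Sim (O.n k i) 1 :=
  (O.sg i).sim (O.mo_n i) fun z => by
    rcases z with b | j
    · exact one_mul _
    · exact ep_sq _

theorem map_n {l : Type} [Field l] (f : k →+* l) (i : Fin m) : GeneralLinearGroup.map f (O.n k i) = O.n l i := by
  rw [n, n, map_mul, map_pm, map_dg]
  congr 2
  funext z
  rcases z with b | j
  · simp
  · exact Units.ext (map_intCast f _)

theorem n_braid (i j : Fin m) : (O.n k i * O.n k j) ^ M i j = 1 := by
  refine (((O.mo_n i).mul (O.mo_n j)).pow _).ext mo_one (fun z => ?_) fun z => ?_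
  · rcases z with b | j'
    · exact (Function.Semiconj.iterate_right (f := (inl : _ → NN m J)) (ga := fun x => O.σ i (O.σ j x)) (fun _ => rfl) _ b).symm.trans
        (congrArg _ (O.braid i j b))
    · exact Function.iterate_fixed rfl _
  · rcases z with b | j'
    · refine Finset.prod_eq_one fun l _ => ?_
      rw [← Function.Semiconj.iterate_right (f := (inl : _ → NN m J)) (ga := fun x => O.σ i (O.σ j x)) (fun _ => rfl) l b]
      exact one_mul _
    · have h1 := congrArg (fun u : ℤˣ => ((u : ℤ) : k)) (O.par i j)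
      rw [Finset.prod_congr rfl fun l _ => by rw [Function.iterate_fixed rfl], Finset.prod_const, Finset.card_range]
      simpa using h1

theorem n_n (i : Fin m) : O.n k i * O.n k i = 1 := by
  have := O.n_braid (k := k) i i
  rwa [M.diagonal, pow_one] at this

theorem n_inv (i : Fin m) : (O.n k i)⁻¹ = O.n k i := inv_eq_of_mul_eq_one_right (O.n_n i)

theorem n_τ (i : Fin m) (c : Fin m → kˣ) :
    O.n k i * τ J k c * (O.n k i)⁻¹ = τ J k (c * (coch (cv (O.y i) (O.z i)) (chr (O.ee (sr i)) c))⁻¹) :=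
  (O.mo_n i).conj_τ fun z => by
    have h1 : z = Sum.map (O.σ i) id (Sum.map (O.σ i) id z) := by rcases z with b | j <;> simp [O.σ_σ]
    conv_rhs => rw [h1, O.mu_σ, chr_sub, chr_zsmul]
    rw [map_mul, map_inv, chr_coch]
    rfl

theorem n_x (i : Fin m) (ha : IsRoot cs h a) :
    ∃ c : k, c ≠ 0 ∧ ∀ u, O.n k i * O.x k a u * (O.n k i)⁻¹ = O.x k (rep cs h (cs.simple i) a) (c * u) :=
  O.conj_x (O.sg i) (O.sim_n i) one_ne_zero (O.mo_n i) ha fun _ _ => O.ee_σ i

/-- the rank one relation -/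
theorem rk1 (i : Fin m) {t : k} (ht : t ≠ 0) : El (O.y i) (O.z i) t * El (ng (O.y i)) (op (O.z i)) t⁻¹ * El (O.y i) (O.z i) t *
    O.n k i ∈ (τ (m := m) J k).range := by
  have h0 := O.ok i
  have h1 : ∀ b : NN m J, ∃ c : k, (El (O.y i) (O.z i) t * El (ng (O.y i)) (op (O.z i)) t⁻¹ * El (O.y i) (O.z i) t).val *ᵥ
      bv k b = c • bv k (Sum.map (O.σ i) id b) ∧ ∀ j, b = inr j → c = ((ep (O.z i) : ℤ) : k) := fun b => by
    have e1 := O.σ_y i
    have e2 : O.σ i (tg (O.y i) (O.z i)) = O.y i := by rw [← e1, O.σ_σ]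
    have e3 := (O.sg i).ng (O.y i)
    have e4 := (O.sg i).ng (tg (O.y i) (O.z i))
    have e5 := fun b => O.σ_ne (i := i) (b := b)
    have := O.sub
    rw [e1] at e3
    rw [e2] at e4
    generalize O.z i = z, O.y i = y at h0 e1 e2 e3 e4 e5 ⊢
    rcases z with y' | j
    · have h1 : y' ≠ y := by simpa using h0.1
      have h2 : y' ≠ ng y := by simpa using h0.2
      have h3 : ng y' ≠ y := fun e => h2 (ng_eq_iff.1 e)
      have h4 : ng y' ≠ ng y := fun e => h1 (by rw [← ng_ng y', e, ng_ng])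
      simp only [tg, elim_inl, ng_ng] at e1 e2 e3 e4 e5
      rw [op_inl, rk_long h0 ht]
      rcases b with b | j
      · by_cases f1 : b = y
        · exact ⟨t⁻¹, by simp [f1, e1, bv_apply, h1, h3, ng_ne], by simp⟩
        by_cases f2 : b = ng y
        · exact ⟨t, by simp [f2, e3, bv_apply, h2, h4, (ng_ne y).symm], by simp⟩
        by_cases f3 : b = y'
        · exact ⟨-t⁻¹, by simp [f3, e4, bv_apply, h1.symm, h2.symm, ng_ne], by simp⟩
        by_cases f4 : b = ng y'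
        · exact ⟨-t, by simp [f4, e2, bv_apply, h3.symm, h4.symm, (ng_ne y').symm], by simp⟩
        · exact ⟨1, by
            simp [e5 b (by simp [fst_eq_iff, f1, f2]) (by simp [fst_eq_iff, f3, f4]), bv_apply, Ne.symm f1, Ne.symm f2,
              Ne.symm f3, Ne.symm f4], by simp⟩
      · exact ⟨1, by simp [bv_apply], by simp [ep]⟩
    · simp only [tg, elim_inr, ng_ng] at e1 e2 e3 e4 e5
      rw [op_inr, rk_short _ _ ht]
      rcases b with b | j'
      · by_cases f1 : b = y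
        · exact ⟨-(t⁻¹ * t⁻¹), by simp [f1, e1, bv_apply, ng_ne], by simp⟩
        by_cases f2 : b = ng y
        · exact ⟨-(t * t), by simp [f2, e2, bv_apply, (ng_ne y).symm], by simp⟩
        · exact ⟨1, by
            simp [e5 b (by simp [fst_eq_iff, f1, f2]) (by simp [fst_eq_iff, f1, f2]), bv_apply, Ne.symm f1, Ne.symm f2],
            by simp⟩
      · obtain rfl : j = j' := Subsingleton.elim _ _
        exact ⟨-1, by simp [bv_apply]; module, by simp [ep]⟩
  choose d h2 h3 using h1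
  have h4 := Mo.mul h2 (O.mo_n i)
  rw [show (fun z : NN m J => Sum.map (O.σ i) id (Sum.map (O.σ i) id z)) = id from funext fun z => by
    rcases z with b | j <;> simp [O.σ_σ]] at h4
  refine mem_τ h4 ?_ fun j => ?_
  · simpa using (((El_sim h0.2 t).mul (El_sim h0.neg.2 t⁻¹)).mul (El_sim h0.2 t)).mul (O.sim_n i)
  · rw [map_inr, id, h3 _ j rfl, elim_inr, ep_sq]

variable {p : ℕ} [Fact p.Prime] [CharP k p] {e : ℕ}

theorem El_lv (hz : Ok y z) {u : k} : El y z u ∈ lv (NN m J) p k e ↔ iterateFrobenius k p e u = u := by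
  rw [mem_lev, MonoidHom.id_apply, frob, map_El _ hz.2, (El_inj hz).eq_iff]

theorem mem_Xe (hz : Ok y z) (h1 : O.ee a = wt y + mu z) :
    g ∈ O.X k a ⊓ lv (NN m J) p k e ↔ ∃ u, iterateFrobenius k p e u = u ∧ El y z u = g :=
  ⟨fun ⟨h2, h3⟩ => let ⟨u, h4⟩ := (O.mem_X' hz h1).1 h2; ⟨u, (El_lv hz).1 (h4 ▸ h3), h4⟩,
    fun ⟨u, h2, h3⟩ => ⟨(O.mem_X' hz h1).2 ⟨u, h3⟩, h3 ▸ (El_lv hz).2 h2⟩⟩

theorem El_btw (hz : z ≠ inl (ng y)) {u : k} (hu : iterateFrobenius k p e u = u)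
    (h1 : u ≠ 0 → ∃ i j : ℤ, 0 < i ∧ 0 < j ∧ wt y + mu z = i • O.ee a + j • O.ee b) :
    El y z u ∈ btw cs h (fun a => O.X k a ⊓ lv (NN m J) p k e) a b := by
  by_cases h2 : z = inl y
  · rw [h2, El_self]
    exact one_mem _
  by_cases h3 : u = 0
  · rw [h3, El_zero hz]
    exact one_mem _
  obtain ⟨i, j, hi, hj, h4⟩ := h1 h3
  have h5 : O.ee (i • a + j • b) = wt y + mu z := by rw [map_add, map_zsmul, map_zsmul, h4]
  exact le_btw (O.isRoot ⟨h2, hz⟩ h5) hi hj rfl ((O.mem_Xe ⟨h2, hz⟩ h5).2 ⟨u, hu, rfl⟩)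

theorem comm_mem (hz : Ok y z) (hz' : Ok y' z') (h1 : O.ee a = wt y + mu z) (h2 : O.ee b = wt y' + mu z')
    (h3 : y' ≠ ng y) (h4 : z' ≠ inl (ng y)) {g g' : GL (NN m J) k} (hg : g ∈ O.X k a ⊓ lv (NN m J) p k e)
    (hg' : g' ∈ O.X k b ⊓ lv (NN m J) p k e) : ⁅g, g'⁆ ∈ btw cs h (fun a => O.X k a ⊓ lv (NN m J) p k e) a b := by
  obtain ⟨t, ht, rfl⟩ := (O.mem_Xe hz h1).1 hg
  obtain ⟨s, hs, rfl⟩ := (O.mem_Xe hz' h2).1 hg'
  have h5 : ∀ z w : NN m J, iterateFrobenius k p e (bv k z w) = bv k z w := fun z w => by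
    rw [bv_apply, apply_ite (iterateFrobenius k p e), map_one, map_zero]
  have h6 : ∀ {z w : NN m J}, bv k z w ≠ 0 → w = z := fun h => by_contra fun e => h (bv_ne e)
  rw [El_comm hz hz' h3 h4]
  refine mul_mem (O.El_btw h4 (by simp only [map_neg, map_mul, ht, hs, h5]) fun h7 => ⟨1, 1, one_pos, one_pos, ?_⟩)
    (O.El_btw (by simpa using h3) (by simp only [map_add, map_mul, map_one, map_qd, ht, hs, h5]) fun h7 => ?_)
  · rw [h1, h2, ← h6 (right_ne_zero_of_mul (neg_ne_zero.1 h7)), mu_inl, wt_ng]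
    module
  · by_cases h8 : op z' = z
    · exact ⟨1, 1, one_pos, one_pos, by rw [h1, h2, ← h8, mu_op, mu_inl]; module⟩
    rw [bv_ne h8, mul_zero, zero_add] at h7
    have h9 := right_ne_zero_of_mul h7
    refine ⟨1, 2, one_pos, two_pos, ?_⟩
    rcases z' with b' | j
    · simp at h9
    · rw [h1, h2, ← h6 (right_ne_zero_of_mul h9), mu_inl, mu_inl, mu_inr, wt_ng]
      module

theorem comm_all (ha : IsRoot cs h a) (hb : IsRoot cs h b) (hab : a ≠ -b) {g g' : GL (NN m J) k}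
    (hg : g ∈ O.X k a ⊓ lv (NN m J) p k e) (hg' : g' ∈ O.X k b ⊓ lv (NN m J) p k e) :
    ⁅g, g'⁆ ∈ btw cs h (fun a => O.X k a ⊓ lv (NN m J) p k e) a b := by
  have := O.sub
  obtain ⟨y, z, hz, h1⟩ := (O.root a).1 ha
  have key : ∀ z', Ok (ng y) z' → O.ee b = wt (ng y) + mu z' →
      ⁅g, g'⁆ ∈ btw cs h (fun a => O.X k a ⊓ lv (NN m J) p k e) a b := fun z' hz' h2 => by
    have h3 : z' ≠ op z := fun e => hab (O.inj (by rw [O.ee_neg h2, e, op_op, ng_ng, h1]))
    rcases z with y2 | j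
    · exact O.comm_mem hz.swap hz' (h1.trans (add_comm _ _)) h2 (fun e => hz.1 (by rw [← ng_ng y, e, ng_ng])) h3 hg hg'
    · rcases z' with y3 | j'
      · rw [← commutatorElement_inv]
        exact inv_mem ((iSup_le fun z => le_btw_of (X := fun a => O.X k a ⊓ lv (NN m J) p k e) z.2.symm :
          btw cs h (fun a => O.X k a ⊓ lv (NN m J) p k e) b a ≤ _) (O.comm_mem hz'.swap hz (h2.trans (add_comm _ _)) h1
            (fun e => hz'.1 (by rw [e, ng_ng])) inr_ne_inl hg' hg))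
      · exact absurd (congrArg _ (Subsingleton.elim _ _)) h3
  obtain ⟨y', z', hz', h2⟩ := (O.root b).1 hb
  by_cases h3 : y' = ng y
  · exact key z' (h3 ▸ hz') (h3 ▸ h2)
  by_cases h4 : z' = inl (ng y)
  · subst h4
    exact key _ hz'.swap (h2.trans (add_comm _ _))
  · exact O.comm_mem hz hz' h1 h2 h3 h4 hg hg'

theorem cj_eq (hg : g ∈ lv (NN m J) p k e) (hc : c ≠ 0) (h1 : ∀ u, g * O.x k a u * g⁻¹ = O.x k b (c * u)) :
    cj g (O.X k a ⊓ lv (NN m J) p k e) = O.X k b ⊓ lv (NN m J) p k e := by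
  ext y
  rw [mem_cj]
  refine and_congr ⟨fun ⟨u, h2⟩ => ⟨c * u.toAdd, (h1 _).symm.trans ?_⟩, fun h2 => ?_⟩ ⟨fun h2 => ?_, fun h2 => ?_⟩
  · rw [show O.x k a u.toAdd = _ from h2]
    group
  · obtain ⟨u, rfl⟩ := O.mem_X.1 h2
    exact O.mem_X.2 ⟨c⁻¹ * u, by rw [← mul_inv_cancel_left₀ hc u, ← h1, inv_mul_cancel_left₀ hc]; group⟩
  · simpa [mul_assoc] using (lv (NN m J) p k e).mul_mem (mul_mem hg h2) (inv_mem hg)
  · exact (lv (NN m J) p k e).mul_mem (mul_mem (inv_mem hg) h2) hg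

theorem notp (h2 : Nonempty J → (2 : k) ≠ 0) (hz : Ok y z) {H : Subgroup (GL (NN m J) k)} (h1 : El y z 1 ∈ H)
    (h3 : El (ng y) (op z) 1 ∈ H) : ¬ IsPGroup p H := fun hp => by
  rcases z with y' | j
  · obtain ⟨j, hj⟩ := hp ⟨_, mul_mem h1 h3⟩
    have e1 : y' ≠ y := by simpa using hz.1
    have e2 : y' ≠ ng y := by simpa using hz.2
    have e3 : ng y' ≠ y := fun e => e2 (ng_eq_iff.1 e)
    have e4 : ng y' ≠ ng y := fun e => e1 (by rw [← ng_ng y', e, ng_ng])
    have e5 : (El y (inl y') 1 * El (ng y) (op (inl y')) 1 : GL (NN m J) k).val *ᵥ bv k (inl y) = bv k (inl (ng y')) := by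
      rw [Units.val_mul, ← mulVec_mulVec, El_mulVec hz.neg.2, El_mulVec hz.2]
      simp [bv_apply, e1, e3, e4.symm, ng_ne]
    have e6 : (El y (inl y') 1 * El (ng y) (op (inl y')) 1 : GL (NN m J) k).val *ᵥ bv k (inl (ng y')) =
        bv k (inl (ng y')) - bv k (inl y) := by
      rw [Units.val_mul, ← mulVec_mulVec, El_mulVec hz.neg.2, El_mulVec hz.2]
      simp [bv_apply, e3.symm, e4.symm, (ng_ne y').symm]
    refine not_uni (v := bv k (inl y)) (fun e => one_ne_zero ((bv_self _).symm.trans (congrFun e _))) one_ne_zero ?_ j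
      (congrArg Subtype.val hj)
    simp only [pow_succ, pow_zero, one_mul, ← mulVec_mulVec, sub_mulVec, one_mulVec, mulVec_sub, e5, e6]
    module
  · obtain ⟨i, hi⟩ := hp ⟨_, mul_mem (mul_mem h1 h3) h1⟩
    have e1 := rk_short y j (one_ne_zero (α := k)) (bv k (inr j))
    rw [inv_one] at e1
    refine not_uni (v := bv k (inr j)) (c := (-2) ^ 3) (fun e => one_ne_zero ((bv_self _).symm.trans (congrFun e _)))
      (pow_ne_zero _ (neg_ne_zero.2 (h2 ⟨j⟩))) ?_ i (congrArg Subtype.val hi)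
    simp only [bv_apply, reduceCtorEq, if_false, if_true, mul_zero, sub_zero, zero_smul, add_zero, mul_one] at e1
    simp only [pow_succ, pow_zero, one_mul, ← mulVec_mulVec, sub_mulVec, one_mulVec, mulVec_sub, mulVec_smul, op_inr, e1]
    module

theorem rgd (h2 : Nonempty J → (2 : k) ≠ 0) (he : 0 < e) :
    RGD cs h p ((τ J k).range ⊓ lv (NN m J) p k e) (O.n k) fun a => O.X k a ⊓ lv (NN m J) p k e where
  nsys := by
    refine ⟨fun i => ?_, fun i j => by rw [O.n_braid]; exact one_mem _⟩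
    have h1 : ∀ t ∈ (τ J k).range ⊓ lv (NN m J) p k e, O.n k i * t * (O.n k i)⁻¹ ∈ (τ J k).range ⊓ lv (NN m J) p k e := by
      rintro _ ⟨⟨c, rfl⟩, hc⟩
      exact ⟨⟨_, (O.n_τ i c).symm⟩, (lv _ p k e).mul_mem (mul_mem (O.map_n _ i) hc) (inv_mem (O.map_n _ i))⟩
    refine Subgroup.mem_normalizer_iff.2 fun t => ⟨h1 t, fun ht => ?_⟩
    have h2 := h1 _ ht
    rwa [← mul_assoc, ← mul_assoc, O.n_n, one_mul, mul_assoc, ← _root_.mul_inv_rev, O.n_n, inv_one, mul_one] at h2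
  conj i a ha := let ⟨_, h1, h3⟩ := O.n_x (k := k) i ha; O.cj_eq (O.map_n _ i) h1 h3
  tor a ha := by
    rintro _ ⟨⟨c, rfl⟩, hc⟩
    exact O.cj_eq hc (Units.ne_zero _) (O.τ_x ha c)
  comm a b ha hb _ hab y hy z hz := O.comm_all ha hb hab hy hz
  rk1 i y hy hne := by
    have h0 := O.ok i
    obtain ⟨u, hu, rfl⟩ := (O.mem_Xe h0.neg (O.ee_neg (O.ee_sr i))).1 hy
    have h1 : u ≠ 0 := fun e => hne (by rw [e, El_zero h0.neg.2])
    have h3 := (O.mem_Xe h0 (O.ee_sr i)).2 ⟨u⁻¹, by rw [map_inv₀, hu], rfl⟩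
    have h4 := O.rk1 i (inv_ne_zero h1)
    rw [inv_inv] at h4
    exact ⟨_, inv_mem h3, _, ⟨h4, (lv _ p k e).mul_mem (mul_mem (mul_mem h3.2 hy.2) h3.2) (O.map_n _ i)⟩, _, inv_mem h3, by
      rw [mul_assoc _ _ (O.n k i), mul_assoc _ (O.n k i), O.n_n]
      group⟩
  pgrp i := fun ⟨_, ⟨u, rfl⟩, _⟩ => ⟨1, Subtype.ext (by
    have h0 : O.x k (sr i) 0 = 1 := left_eq_mul.1 ((congrArg _ (add_zero (0 : k)).symm).trans (O.x_add _ (0 : k) 0))
    have h1 : ∀ (j : ℕ) (v : k), O.x k (sr i) v ^ j = O.x k (sr i) (j * v) := fun j v => by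
      induction j with
      | zero => rw [pow_zero, Nat.cast_zero, zero_mul, h0]
      | succ j ih => rw [pow_succ, ih, ← O.x_add, Nat.cast_succ, add_one_mul]
    show O.x k _ _ ^ p ^ 1 = 1
    rw [pow_one, h1, CharP.cast_eq_zero, zero_mul, h0])⟩
  notp i := notp h2 (O.ok i) (Subgroup.mem_sup_left ((O.mem_Xe (O.ok i) (O.ee_sr i)).2 ⟨1, map_one _, rfl⟩))
    (Subgroup.mem_sup_right ((O.mem_Xe (O.ok i).neg (O.ee_neg (O.ee_sr i))).2 ⟨1, map_one _, rfl⟩))
  tcop := by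
    have := Ex.finite_lev (p := p) (ρ := MonoidHom.id (GL (NN m J) k)) Function.injective_id he
    have : Finite ↥((τ J k).range ⊓ lv (NN m J) p k e) :=
      Finite.of_injective _ (Subgroup.inclusion_injective inf_le_right)
    exact Ex.coprime_card τ_inj fun t ht => ht.1

end OS

end Cfsg.Agent.KZ.Dat.Om
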