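import Cfsg.Agent.KZ.Dat.OmB
import Cfsg.Agent.ClassicalGeometry.OrthDickson

/-!
# KZ: the orthogonal frame, III : the datum `O.dat`, automorphisms of the frame, `G` = kernel of the Dickson sign (helper19)
-/

set_option autoImplicit false
set_option maxHeartbeats 400000
set_option linter.unusedSectionVars false

namespace Cfsg.Agent.KZ.Dat.Om

open CoxeterSystem Cfsg.Agent.ChevalleyStructure.CoxeterGeom Cfsg.Agent.Tits.Roots Matrix Sum QuadraticMap
  Cfsg.Agent.Nodes.Reps Cfsg.Agent.Nodes.BNOf Cfsg.Agent.Nodes.Bruhat Cfsg.Agent.LangThm Cfsg.Agent.DL Cfsg.Agent.DL.PP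
  Cfsg.Agent.ClassicalGeometry.Reflection Cfsg.Agent.ClassicalGeometry.OrthCharTwo Cfsg.Agent.ClassicalGeometry.OrthDickson
open Cfsg.Agent.Nodes.TypeC (wt ng ng_ng wt_ng wt_injective)
open Cfsg.Agent.ODD.C2 (pm pm_apply map_pm)

variable {m : ℕ} {J : Type} [Fintype J] [DecidableEq J] {k : Type} [Field k]
  {s : Fin m × Bool → Fin m × Bool} {g : GL (NN m J) k} {c : k} {d : NN m J → k}

theorem map_map (hs : Function.Involutive s) (z : NN m J) : Sum.map s id (Sum.map s id z) = z := by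
  rcases z with b | j
  · exact congrArg inl (hs b)
  · rfl

theorem Mo.inv (hm : Mo g (Sum.map s id) d) (hs : Function.Involutive s) :
    Mo g⁻¹ (Sum.map s id) fun z => (d (Sum.map s id z))⁻¹ := fun z => by
  have h1 := congrArg ((g⁻¹).val *ᵥ ·) (hm (Sum.map s id z))
  simp only [mulVec_mulVec, Units.inv_mul, one_mulVec, mulVec_smul, map_map hs] at h1
  rw [h1, smul_smul, inv_mul_cancel₀ (hm.ne _), one_smul]

variable (J k) in
/-- the permutation matrix of an involution -/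
noncomputable def rr (hs : Function.Involutive s) : GL (NN m J) k := pm k (Equiv.sumCongr (hs.toPerm _) (Equiv.refl J))

theorem mo_rr (hs : Function.Involutive s) : Mo (rr J k hs) (Sum.map s id) fun _ => 1 := mo_pm _

theorem map_rr {l : Type} [Field l] (f : k →+* l) (hs : Function.Involutive s) :
    GeneralLinearGroup.map f (rr J k hs) = rr J l hs := map_pm _ _

theorem rr_rr (hs : Function.Involutive s) : rr J k hs * rr J k hs = 1 :=
  ((mo_rr hs).mul (mo_rr hs)).ext mo_one (map_map hs) fun _ => one_mul _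

theorem rr_id : rr J k (s := (id : Fin m × Bool → _)) (fun _ => rfl) = 1 :=
  (mo_rr _).ext mo_one (fun z => by rw [Sum.map_id_id]) fun _ => rfl

theorem QQ_nondeg (h2 : Nonempty J → (2 : k) ≠ 0) : (polarBilin (QQ m J k)).Nondegenerate := by
  have h : ∀ x : NN m J → k, (∀ y, polar (QQ m J k) x y = 0) → x = 0 := fun x hx => funext fun b => by
    have h1 := hx (bv k (op b))
    rw [polar_bv, op_op] at h1
    refine (mul_eq_zero.1 h1).resolve_left ?_
    rcases b with b | j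
    · simp
    · simpa [one_add_one_eq_two] using h2 ⟨j⟩
  exact ⟨h, fun x hx => h x fun y => (polar_comm _ _ _).trans (hx y)⟩

variable (J k) in
/-- the vector `e_y - e_(-y)` -/
def v0 (y : Fin m × Bool) : NN m J → k := bv k (inl y) - bv k (inl (ng y))

theorem QQ_two (y : Fin m × Bool) (a b : k) : QQ m J k (a • bv k (inl y) + b • bv k (inl (ng y))) = a * b := by
  rw [map_add', QuadraticMap.map_smul, QuadraticMap.map_smul, QQ_bv, QQ_bv, polar_smul_left, polar_smul_right, inl_polar]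
  simp [bv_self]

theorem QQ_v0 (y : Fin m × Bool) : QQ m J k (v0 J k y) = -1 := by
  rw [← one_mul (-1 : k), ← QQ_two (J := J) y, v0, one_smul, neg_one_smul, sub_eq_add_neg]

theorem QQ_v0_ne (y : Fin m × Bool) : QQ m J k (v0 J k y) ≠ 0 := by rw [QQ_v0]; exact neg_ne_zero.2 one_ne_zero

theorem sw_inv (y : Fin m × Bool) : Function.Involutive (Equiv.swap y (ng y)) := Equiv.swap_apply_self _ _

theorem sw_apply (y b : Fin m × Bool) : Equiv.swap y (ng y) b = if b.1 = y.1 then ng b else b := by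
  rw [Equiv.swap_apply_def]
  by_cases h1 : b = y
  · simp [h1]
  by_cases h2 : b = ng y
  · simp [h2, ng_ne]
  · simp [h1, h2, fst_eq_iff]

theorem sg_sw (y : Fin m × Bool) : Sg (Equiv.swap y (ng y)) :=
  ⟨Equiv.injective _, fun b => by rw [sw_apply, sw_apply]; exact (apply_ite ng _ _ _).symm⟩

theorem refl_v0 (y : Fin m × Bool) : reflGL (QQ m J k) (v0 J k y) (QQ_v0_ne y) = rr J k (sw_inv y) :=
  ext_bv fun b => by
    rw [mo_rr, coe_reflGL, reflectionMatrix_mulVec, QQ_v0, polar_bv, v0]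
    rcases b with b | j
    · by_cases h1 : b = y
      · simp [h1, bv_apply, ng_ne]
      by_cases h2 : b = ng y
      · simp [h2, bv_apply, (ng_ne y).symm]
      · simp [Equiv.swap_apply_of_ne_of_ne h1 h2, bv_apply, ng_eq_iff, h1, h2]
    · simp [bv_apply]

variable {W : Type} [Group W] {M : CoxeterMatrix (Fin m)} {A : Fin m → Fin m → ℤ}

namespace OS

variable {cs : CoxeterSystem M W} {h : IsCartan M A} (O : OS J cs h) {a b : Fin m → ℤ} {y y' : Fin m × Bool} {z z' : NN m J}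

variable (k) in
/-- the algebraic group -/
noncomputable def G : Subgroup (GL (NN m J) k) := GG cs h (τ J k).range (O.X k)

theorem G_le {H : Subgroup (GL (NN m J) k)} (hτ : ∀ c, τ J k c ∈ H) (hx : ∀ a, IsRoot cs h a → ∀ u, O.x k a u ∈ H) :
    O.G k ≤ H :=
  sup_le (fun _ ⟨c, e⟩ => e ▸ hτ c) (RGD.Sup_le fun a ha _ ⟨_, e⟩ => e ▸ hx a ha _)

theorem τ_mem (c : Fin m → kˣ) : τ J k c ∈ O.G k := Subgroup.mem_sup_left ⟨c, rfl⟩

theorem x_mem (ha : IsRoot cs h a) (u : k) : O.x k a u ∈ O.G k :=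
  Subgroup.mem_sup_right (RGD.le_Sup (S := {x | IsRoot cs h x}) ha ⟨u, rfl⟩)

theorem El_mem (hz : z ≠ inl (ng y)) (u : k) : El y z u ∈ O.G k := by
  by_cases h1 : z = inl y
  · rw [h1, El_self]
    exact one_mem _
  · obtain ⟨a, e⟩ := O.all y z ⟨h1, hz⟩
    obtain ⟨ε, -, h2⟩ := O.x_eq (k := k) ⟨h1, hz⟩ e
    rw [h2]
    exact O.x_mem (O.isRoot ⟨h1, hz⟩ e) _

theorem Ev_mem {w : NN m J → k} (hw : w (inl (ng y)) = 0) : Ev y w ∈ O.G k := by
  have h1 : ∀ S : Finset (NN m J), (∑ z ∈ S, w z • bv k z) (inl (ng y)) = 0 ∧ Ev y (∑ z ∈ S, w z • bv k z) ∈ O.G k := fun S => by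
    have h0 : ∀ z, (w z • bv k z) (inl (ng y)) = 0 ∧ Ev y (w z • bv k z) ∈ O.G k := fun z => by
      by_cases h : z = inl (ng y)
      · rw [h, hw, zero_smul, ← zero_smul k (bv k (inl y))]
        exact ⟨by simp, O.El_mem (by simp [(ng_ne y).symm]) 0⟩
      · exact ⟨smul_bv h _, O.El_mem h _⟩
    induction S using Finset.induction_on with
    | empty =>
      rw [Finset.sum_empty, ← zero_smul k (bv k (inl y))]
      exact ⟨by simp, O.El_mem (by simp [(ng_ne y).symm]) 0⟩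
    | insert z S hz ih =>
      rw [Finset.sum_insert hz, ← Ev_mul (h0 z).1 ih.1, Pi.add_apply, (h0 z).1, ih.1, add_zero]
      exact ⟨rfl, mul_mem (h0 z).2 ih.2⟩
  rw [sum_bv w]
  exact (h1 _).2

theorem G_le_iso : O.G k ≤ isometryGroup k (QQ m J k) :=
  O.G_le (fun c => sim_iff.1 (sim_τ c)) fun _ ha u => sim_iff.1 (O.sim_x ha u)

theorem conj_G (hs : Sg s) (hi : Function.Involutive s) (hg : Sim g c) (hc : c ≠ 0) (hm : Mo g (Sum.map s id) d)
    {t : GL (NN m J) k} (ht : t ∈ O.G k) : g * t * g⁻¹ ∈ O.G k := by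
  refine O.G_le (H := (O.G k).comap (MulAut.conj g).toMonoidHom) (fun c' => ?_) (fun a ha u => ?_) ht
  · have h1 := (hm.mul (mo_τ c')).mul (hm.inv hi)
    simp only [id] at h1
    rw [show (fun z : NN m J => Sum.map s id (Sum.map s id z)) = id from funext (map_map hi)] at h1
    obtain ⟨c'', h2⟩ := mem_τ h1 (by simpa [hc] using (hg.mul (sim_τ c')).mul (hg.inv hc)) fun j => by
      simp [chr_zero, hm.ne]
    exact (h2 ▸ O.τ_mem c'' : g * τ J k c' * g⁻¹ ∈ O.G k)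
  · obtain ⟨y, z, h1, -, h3⟩ := O.x_spec ha
    show g * O.x k a u * g⁻¹ ∈ O.G k
    rw [h3, El_conj h1.2 hg hc hm rfl]
    exact O.El_mem (hs.ok h1).2 _

/-- a symmetry of the root system -/
structure Sy (s : Fin m × Bool → Fin m × Bool) (γ : (Fin m → ℤ) → Fin m → ℤ) (B : Matrix (Fin m) (Fin m) ℤ) : Prop where
  sg : Sg s
  inv : Function.Involutive s
  inj : Function.Injective B.vecMul
  wt : ∀ y, wt (s y) ᵥ* B = wt y
  ee : ∀ a, O.ee (γ a) ᵥ* B = O.ee a
  pos : ∀ a, 0 ≤ a → 0 ≤ γ a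

theorem sy_id : O.Sy id id 1 :=
  ⟨sg_id, fun _ => rfl, fun a b e => by simpa using e, fun _ => vecMul_one _, fun _ => vecMul_one _, fun _ h => h⟩

variable {O} {γ : (Fin m → ℤ) → Fin m → ℤ} {B : Matrix (Fin m) (Fin m) ℤ}

theorem Sy.mu (S : O.Sy s γ B) (z : NN m J) : mu (Sum.map s id z) ᵥ* B = mu z := by
  rcases z with b | j
  · exact S.wt b
  · exact zero_vecMul _

theorem Sy.lab (S : O.Sy s γ B) (y : Fin m × Bool) (z : NN m J) (e : O.ee a = Nodes.TypeC.wt y + Om.mu z) :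
    O.ee (γ a) = Nodes.TypeC.wt (s y) + Om.mu (Sum.map s id z) := S.inj (by
  show _ ᵥ* B = _ ᵥ* B
  rw [S.ee, add_vecMul, S.wt, S.mu, e])

theorem Sy.root (S : O.Sy s γ B) (ha : IsRoot cs h a) : IsRoot cs h (γ a) :=
  let ⟨y, z, h1, h2⟩ := (O.root a).1 ha; O.isRoot (S.sg.ok h1) (S.lab y z h2)

theorem Sy.τ (S : O.Sy s γ B) (hm : Mo g (Sum.map s id) d) (c : Fin m → kˣ) : g * τ J k c * g⁻¹ = τ J k (mon B c) :=
  hm.conj_τ fun z => by rw [chr_mon, S.mu]

theorem Sy.sim (S : O.Sy s γ B) : Sim (rr J k S.inv) 1 := S.sg.sim (mo_rr _) fun _ => one_mul _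

variable {p : ℕ} [Fact p.Prime] [CharP k p] [IsAlgClosed k]

variable (k p) in
/-- the Steinberg map -/
noncomputable def Sy.F (S : O.Sy s γ B) (e : ℕ) : MulAut (GL (NN m J) k) := MulAut.conj (rr J k S.inv) * frP _ p k e

theorem Sy.F_apply (S : O.Sy s γ B) (e : ℕ) (y : GL (NN m J) k) :
    S.F k p e y = rr J k S.inv * frob p e y * (rr J k S.inv)⁻¹ := rfl

theorem Sy.commute (S : O.Sy s γ B) (e : ℕ) : Commute (MulAut.conj (rr J k S.inv)) (frP _ p k e) :=
  MulEquiv.ext fun y => by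
    rw [MulAut.mul_apply, MulAut.mul_apply, MulAut.conj_apply, MulAut.conj_apply, frP_apply, frP_apply, map_mul, map_mul,
      map_inv, show frob p e (rr J k S.inv) = _ from map_rr _ _]

variable [Finite W] (S : O.Sy s γ B) (h2 : Nonempty J → (2 : k) ≠ 0) (hk : ∀ a : k, ∃ j, 0 < j ∧ a ^ p ^ j = a) {e : ℕ}
  (he : 0 < e)

/-- **The datum.** -/
noncomputable def Sy.dat : Datum p (MonoidHom.id (GL (NN m J) k)) (S.F k p e) (O.G k) where
  amb := ⟨hk, Function.injective_id, 2, 2 * e, two_pos, by omega, fun y => by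
    rw [Sy.F, (S.commute e).mul_pow, ← map_pow, pow_two, rr_rr, map_one, one_mul, frP_pow]
    rfl⟩
  I := Fin m
  W := W
  M := M
  cs := cs
  A := A
  h := h
  R := Fin m
  τ := Om.τ J k
  τ_inj := τ_inj
  T := (Om.τ J k).range
  mem_T _ := Iff.rfl
  X := O.X k
  x := O.x k
  mem_X _ _ _ := Iff.rfl
  x_inj _ ha := O.x_inj ha
  x_add a _ := O.x_add a
  n := O.n k
  wt := O.ee
  cw i := cv (O.y i) (O.z i)
  pair := O.pair
  tor _ ha := O.τ_x ha
  refl := O.n_τ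
  rgd := ⟨1, one_pos, fun _ hj => O.rgd h2 (by omega)⟩
  G_eq := rfl
  polyx a ha i j := by
    obtain ⟨y, z, h1, -, h3⟩ := O.x_spec ha
    simpa only [h3, MonoidHom.id_apply] using El_poly h1.2 i j
  diag := ⟨1, Om.mu, fun c => by rw [inv_one, one_mul, mul_one]; rfl⟩
  g := γ
  ex _ := e
  g_root _ := S.root
  F_x a ha := let ⟨c, h1, h3⟩ := O.conj_x S.sg S.sim one_ne_zero (mo_rr _) ha S.lab
    ⟨c, h1, fun u => by rw [S.F_apply, frob, O.map_x _ ha, h3, iterateFrobenius_def]⟩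
  Mx := ((p : ℤ) ^ e) • B
  F_τ c := by
    rw [S.F_apply, frob, map_τ, S.τ (mo_rr _), mon_zsmul, ← Nat.cast_pow, zpow_natCast, ← map_pow]
    exact congrArg _ (congrArg _ (funext fun j => Units.ext (iterateFrobenius_def _ _ _)))

theorem Sy.qs : (S.dat h2 hk he).QS := fun a _ => S.pos a

/-- the matrices of the Weyl group -/
noncomputable def Sy.wm : W →* Matrix (Fin m) (Fin m) ℤ :=
  ⟨⟨(S.dat h2 hk he).Wm, (S.dat h2 hk he).Wm_one⟩, (S.dat h2 hk he).Wm_mul⟩

theorem Sy.wm_simple (i : Fin m) : S.wm h2 hk he (cs.simple i) = 1 - vecMulVec (cv (O.y i) (O.z i)) (O.ee (sr i)) :=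
  (S.dat h2 hk he).Wm_simple i

theorem Sy.wm_wt (i : Fin m) (b : Fin m × Bool) : S.wm h2 hk he (cs.simple i) *ᵥ Nodes.TypeC.wt b = Nodes.TypeC.wt (O.σ i b) := by
  rw [S.wm_simple, O.hσ, sub_mulVec, one_mulVec, vecMulVec_mulVec, O.ee_sr, dotProduct_comm (Nodes.TypeC.wt b)]
  generalize O.z i = z
  rcases z with y' | j
  · rw [cv_inl, mu_inl, op_smul_eq_smul]
  · rw [cv_inr, mu_inr, add_zero, add_dotProduct, op_smul_eq_smul]
    module

/-- the coroots -/
theorem Sy.cor (hz : Ok y z) (e : O.ee a = Nodes.TypeC.wt y + Om.mu z) : (S.dat h2 hk he).cor a = cv y z := by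
  have h1 : ∀ (w : W) (i : Fin m), ∃ y, ∃ z : NN m J, Ok y z ∧ O.ee (rep cs h w (sr i)) = Nodes.TypeC.wt y + Om.mu z ∧
      S.wm h2 hk he w *ᵥ cv (O.y i) (O.z i) = cv y z := fun w i => by
    induction w using cs.simple_induction_left with
    | one => exact ⟨_, _, O.ok i, by rw [map_one, Module.End.one_apply, O.ee_sr], by rw [map_one, one_mulVec]⟩
    | mul_simple_left w j ih =>
      obtain ⟨y, z, h1, h3, h4⟩ := ih
      refine ⟨_, _, (O.sg j).ok h1, by rw [rep_mul_apply, O.ee_σ j h3], ?_⟩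
      rw [map_mul, ← mulVec_mulVec, h4, cv, cv, mulVec_sub, S.wm_wt, S.wm_wt]
      rcases z with y' | j' <;> simp [tg, (O.sg j).ng]
  have := O.sub
  obtain ⟨w, i, rfl⟩ := O.isRoot hz e
  obtain ⟨y', z', h3, h4, h5⟩ := h1 w i
  refine ((S.dat h2 hk he).cor_act_sr w i).trans (h5.trans ?_)
  rcases lab_eq hz h3 (e.symm.trans h4) with ⟨rfl, rfl⟩ | ⟨rfl, rfl⟩
  · rfl
  · rw [cv_inl, cv_inl, add_comm]

theorem Sy.pre_map {β : MulAut (GL (NN m J) k)} {f : k →+* k} (hβ : ∀ y, β y = GeneralLinearGroup.map f y) :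
    Pre (S.dat h2 hk he) β :=
  ⟨fun c => ⟨_, ((hβ _).trans (map_τ f c)).symm⟩, fun a ha => ⟨a, ha, id, fun u => ⟨_, (hβ _).trans (O.map_x f ha u)⟩⟩⟩

/-- field automorphisms -/
theorem Sy.au_fr (j : ℕ) : Au (S.dat h2 hk he) (frP _ p k j) ((p : ℤ) ^ j • (1 : Matrix (Fin m) (Fin m) ℤ)) := by
  have h1 : Commute (frP _ p k j) (S.F k p e) := (S.commute j).symm.mul_right (frP_comm j e)
  have h3 : ∀ c : Fin m → kˣ, frP _ p k j (Om.τ J k c) = Om.τ J k (mon ((p : ℤ) ^ j • 1) c) := fun c => by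
    rw [frP_apply, mon_zsmul, mon_one, ← Nat.cast_pow, zpow_natCast, frob, map_τ]
    exact congrArg _ (funext fun j => Units.ext (iterateFrobenius_def _ _ _))
  exact au_of_pre (S.pre_map h2 hk he (frP_apply j)) (S.pre_map h2 hk he (frP_inv j))
    (fun y => DFunLike.congr_fun h1.eq y) h3

variable {s' : Fin m × Bool → Fin m × Bool} {γ' : (Fin m → ℤ) → Fin m → ℤ} {B' : Matrix (Fin m) (Fin m) ℤ}

theorem Sy.pre_conj (S' : O.Sy s' γ' B') (hg : Sim g c) (hc : c ≠ 0) (hm : Mo g (Sum.map s' id) d) :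
    Pre (S.dat h2 hk he) (MulAut.conj g) :=
  ⟨fun c => ⟨_, (S'.τ hm c).symm⟩, fun a ha => ⟨γ' a, S'.root ha, S'.pos a, fun u =>
    let ⟨_, _, h3⟩ := O.conj_x S'.sg hg hc hm ha S'.lab; ⟨_, h3 u⟩⟩⟩

/-- diagonal and graph automorphisms -/
theorem Sy.au_conj (S' : O.Sy s' γ' B') (hg : Sim g c) (hc : c ≠ 0) (hm : Mo g (Sum.map s' id) d) (hF : S.F k p e g = g) :
    Au (S.dat h2 hk he) (MulAut.conj g) B' :=
  au_of_pre (S.pre_conj h2 hk he S' hg hc hm)
    (by rw [← map_inv]; exact S.pre_conj h2 hk he S' (hg.inv hc) (inv_ne_zero hc) (hm.inv S'.inv))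
    (fun y => by rw [MulAut.conj_apply, MulAut.conj_apply, map_mul, map_mul, map_inv, hF]) (S'.τ hm)

omit S hk he
variable (O)

omit [CharP k p] [Finite W] in
theorem theta0 : ∃ θ : k, θ ≠ 0 ∧ θ ≠ 1 := by
  classical
  obtain ⟨θ, h⟩ := Infinite.exists_notMem_finset ({0, 1} : Finset k)
  exact ⟨θ, by simpa using h⟩

include h2 in
theorem dsign_G {t : GL (NN m J) k} (ht : t ∈ O.G k) : dsign (QQ m J k) ⟨t, O.G_le_iso ht⟩ = 1 := by
  have hτ : ∀ c, Om.τ J k c ∈ isometryGroup k (QQ m J k) := fun c => O.G_le_iso (O.τ_mem c)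
  have h1 : O.G k ≤ (dsignHom (QQ m J k) (QQ_nondeg h2) (.inl theta0)).ker.map (Subgroup.subtype _) := by
    refine O.G_le (fun c => ⟨⟨_, hτ c⟩, ?_, rfl⟩) fun a ha u => ⟨⟨_, O.G_le_iso (O.x_mem ha u)⟩, ?_, rfl⟩
    · have h2 : ∀ i, ∃ d : kˣ, d * d = c i := fun i => by
        obtain ⟨d, hd⟩ := IsAlgClosed.exists_eq_mul_self (c i : k)
        exact ⟨Units.mk0 d fun h => (c i).ne_zero (by rw [hd, h, mul_zero]), Units.ext hd.symm⟩
      choose d hd using h2
      have h3 : (⟨_, hτ c⟩ : isometryGroup k (QQ m J k)) = ⟨_, hτ d⟩ * ⟨_, hτ d⟩ :=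
        Subtype.ext ((congrArg (Om.τ J k) (funext hd).symm).trans (map_mul _ d d))
      rw [SetLike.mem_coe, MonoidHom.mem_ker, h3, map_mul, Int.units_mul_self]
    · obtain ⟨θ, h⟩ := theta0 (k := k)
      obtain ⟨c, hc⟩ := chr_surj (k := k) (m := O.ee a) (fun e => ha.ne_zero (O.inj (by rw [e, map_zero]))) (Units.mk0 θ h.1)
      have h2 : (⟨_, O.G_le_iso (O.x_mem ha u)⟩ : isometryGroup k (QQ m J k)) *
          ⟨_, O.G_le_iso (O.x_mem ha (u / (θ - 1)))⟩ =
          ⟨_, hτ c⟩ * ⟨_, O.G_le_iso (O.x_mem ha (u / (θ - 1)))⟩ * ⟨_, hτ c⟩⁻¹ := Subtype.ext (by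
        show O.x k a _ * O.x k a _ = Om.τ J k c * O.x k a _ * (Om.τ J k c)⁻¹
        rw [O.τ_x ha, ← O.x_add, hc, Units.val_mk0]
        refine congrArg (O.x k a) ?_
        have := sub_ne_zero.2 h.2
        field_simp
        ring)
      rw [SetLike.mem_coe, MonoidHom.mem_ker, eq_mul_inv_of_mul_eq h2, map_mul, map_mul, map_mul, map_inv, map_inv,
        mul_inv_cancel_comm, mul_inv_cancel]
  obtain ⟨z, hz, rfl⟩ := h1 ht
  exact hz

include h2 in
/-- transitivity on the non-singular lines -/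
theorem exists_v0 (y : Fin m × Bool) (v : NN m J → k) (hv : QQ m J k v ≠ 0) :
    ∃ g ∈ O.G k, ∃ c : k, g.val *ᵥ v = c • v0 J k y := by
  have key : ∀ (y : Fin m × Bool) (v : NN m J → k), QQ m J k v ≠ 0 → v (inl (ng y)) ≠ 0 →
      ∃ g ∈ O.G k, ∃ c : k, g.val *ᵥ v = c • v0 J k y := fun y v hv h1 => by
    have h3 : (bv k (inl (ng y)) - (v (inl (ng y)))⁻¹ • v : NN m J → k) (inl (ng y)) = 0 := by simp [bv_self, h1]
    obtain ⟨b, h4⟩ : ∃ b : k, (Ev y (bv k (inl (ng y)) - (v (inl (ng y)))⁻¹ • v)).val *ᵥ v =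
        b • bv k (inl y) + v (inl (ng y)) • bv k (inl (ng y)) := ⟨_, by
      rw [Ev_mulVec h3, smul_sub, smul_smul, mul_inv_cancel₀ h1, one_smul, sub_sub, ← add_smul, add_sub,
        add_sub_cancel, sub_eq_neg_add, ← neg_smul]⟩
    have h5 := Ev_sim h3 v
    rw [h4, QQ_two, one_mul] at h5
    have h6 : b ≠ 0 := left_ne_zero_of_mul (h5 ▸ hv)
    obtain ⟨t, ht⟩ := IsAlgClosed.exists_eq_mul_self (-v (inl (ng y)) / b)
    have h7 : t ≠ 0 := fun h => div_ne_zero (neg_ne_zero.2 h1) h6 (by rw [ht, h, mul_zero])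
    refine ⟨_, mul_mem (O.τ_mem (coch (wt y) (Units.mk0 t h7))) (O.Ev_mem h3), t * b, ?_⟩
    rw [Units.val_mul, ← mulVec_mulVec, h4, mulVec_add, mulVec_smul, mulVec_smul, mo_τ, mo_τ]
    simp only [id]
    rw [mu_inl, mu_inl, wt_ng, chr_neg,
      chr_coch, show ∑ j, wt y j * wt y j = 1 from wt_dot_self y, zpow_one, Units.val_inv_eq_inv_val, Units.val_mk0, v0]
    rw [div_eq_iff h6] at ht
    rw [← neg_neg (v _), ht]
    match_scalars <;> field_simp
  by_cases h1 : v (inl (ng y)) = 0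
  swap
  · exact key y v hv h1
  by_cases h3 : v (inl y) = 0
  swap
  · obtain ⟨g, hg, c, e⟩ := key (ng y) v hv (by rwa [ng_ng])
    exact ⟨g, hg, -c, by rw [e, v0, v0, ng_ng]; module⟩
  obtain ⟨w, hw⟩ : ∃ w, v w ≠ 0 := by
    by_contra h
    push Not at h
    exact hv (by rw [show v = 0 from funext h, QuadraticMap.map_zero])
  have h4 : op w ≠ inl (ng (ng y)) := fun e => hw (by rw [op_eq_iff.1 e, op_inl, ng_ng, h1])
  have h5 : inl (ng y) ≠ op w := fun e => hw (by rw [op_eq_iff.1 e.symm, op_inl, ng_ng, h3])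
  obtain ⟨g, hg, c, e⟩ := key y ((El (ng y) (op w) 1).val *ᵥ v) (by rwa [El_sim h4, one_mul]) (by
    rw [El_mulVec h4, ng_ng, op_op, h3]
    rcases w with b | j
    · simpa [h1, bv_self] using hw
    · simpa [h1, bv_self, one_add_one_eq_two, h2 ⟨j⟩] using hw)
  exact ⟨_, mul_mem hg (O.El_mem h4 1), c, by rw [Units.val_mul, ← mulVec_mulVec, e]⟩

include h2 in
/-- **the algebraic group is the kernel of the Dickson sign** -/
theorem mem_G (l : Fin m × Bool) (y : isometryGroup k (QQ m J k)) : y.1 ∈ O.G k ↔ dsign (QQ m J k) y = 1 := by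
  refine ⟨fun h => O.dsign_G h2 h, fun h => ?_⟩
  set r := reflIso (QQ m J k) (v0 J k l) (QQ_v0_ne l) with hr
  set K := (O.G k).subgroupOf (isometryGroup k (QQ m J k))
  have h1 : ∀ z ∈ K, r * z * r⁻¹ ∈ K := fun z hz => by
    have h3 := O.conj_G (sg_sw l) (sw_inv l) ((sg_sw l).sim (mo_rr (sw_inv l)) fun _ => one_mul _) one_ne_zero (mo_rr _) hz
    rw [← refl_v0] at h3
    exact h3
  have h2' : y ∈ K ∨ y * r⁻¹ ∈ K := by
    refine isometry_induction _ (QQ_nondeg h2) (.inl theta0) (fun y => y ∈ K ∨ y * r⁻¹ ∈ K) (Or.inl (one_mem _))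
      (fun v hv z hz => ?_) y
    obtain ⟨t, ht, c, e⟩ := O.exists_v0 h2 l v hv
    set t' : isometryGroup k (QQ m J k) := ⟨t, O.G_le_iso ht⟩
    have ht' : t' ∈ K := ht
    have h3 : QQ m J k (c • v0 J k l) ≠ 0 := by
      rw [← e, (mem_isometryGroup_iff _ _).1 t'.2]
      exact hv
    have h4 : t' * reflIso _ v hv * t'⁻¹ = r := by
      rw [conj_reflIso _ v hv t' (e ▸ h3), hr, ← refl_smul _ _ (QQ_v0_ne l) c
        (fun h => h3 (by rw [h, zero_smul, QuadraticMap.map_zero])) h3]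
      congr 1
    have h5 : reflIso _ v hv = t'⁻¹ * r * t' := by rw [← h4]; group
    have h6 : r * r = 1 := reflIso_mul_self _ _ _
    rw [h5]
    rcases hz with hz | hz
    · exact Or.inr (by simpa only [mul_assoc] using mul_mem (inv_mem ht') (h1 _ (mul_mem ht' hz)))
    · refine Or.inl ?_
      have h7 := mul_mem (inv_mem ht') (h1 _ (mul_mem ht' hz))
      rwa [show t'⁻¹ * (r * (t' * (z * r⁻¹)) * r⁻¹) = t'⁻¹ * r * t' * z * (r * r)⁻¹ by group, h6, inv_one, mul_one] at h7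
  refine h2'.elim id fun h3 => ?_
  have h4 : dsign _ (y * r⁻¹) = 1 := O.dsign_G h2 h3
  rw [dsign_mul_of_gen _ (QQ_nondeg h2) (.inl theta0), h, hr, reflIso_inv, dsign_refl _ (QQ_nondeg h2)] at h4
  exact absurd h4 (by decide)

include h2 in
/-- the isometry group is the union of two cosets -/
theorem mem_or (l : Fin m × Bool) (hg : Sim g 1) : g ∈ O.G k ∨ g * rr J k (sw_inv l) ∈ O.G k := by
  rcases Int.units_eq_one_or (dsign (QQ m J k) ⟨g, sim_iff.1 hg⟩) with e | e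
  · exact Or.inl ((O.mem_G h2 l _).2 e)
  · refine Or.inr ?_
    rw [← refl_v0]
    refine (O.mem_G h2 l (⟨g, sim_iff.1 hg⟩ * reflIso _ _ (QQ_v0_ne l))).2 ?_
    rw [dsign_mul_of_gen _ (QQ_nondeg h2) (.inl theta0), e, dsign_refl _ (QQ_nondeg h2), Int.units_mul_self]

include h2 in
theorem rr_notMem (l : Fin m × Bool) : rr J k (sw_inv l) ∉ O.G k := fun h => by
  rw [← refl_v0] at h
  have h1 := (O.mem_G h2 l (reflIso _ _ (QQ_v0_ne l))).1 h
  rw [dsign_refl _ (QQ_nondeg h2)] at h1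
  exact absurd h1 (by decide)

end OS

end Cfsg.Agent.KZ.Dat.Om
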