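import Cfsg.Agent.ODD.C2.MnDat

/-!
# Minuscule weight systems with signs, I : the integral root matrices (helper46)

`Sm A R N` : a minuscule weight system with a symmetric sign matrix `s` and a set `L` of integral matrices (the Lie ring);
`m.e x` is the matrix with entry `s a c` at `(a, c)` if `μ a = μ c + x`; `m.Ok cs h` : the axioms.
-/

set_option autoImplicit false
set_option linter.unusedSectionVars false

namespace Cfsg.Agent.KZ.Dat

open CoxeterSystem Cfsg.Agent.ChevalleyStructure.CoxeterGeom Cfsg.Agent.Tits.Roots Cfsg.Agent.Nodes.Coroot Matrix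
  Cfsg.Agent.ODD.C2

/-- A minuscule weight system with signs. -/
structure Sm {I : Type} [Fintype I] [DecidableEq I] (A : I → I → ℤ) (R N : Type) [Fintype R] [DecidableEq R]
    [Fintype N] [DecidableEq N] extends Mn A R N where
  s : N → N → ℤˣ
  symm : ∀ a c, s a c = s c a
  L : Matrix N N ℤ → Prop
  sub : ∀ X Y, L X → L Y → L (X - Y)
  br : ∀ X Y, L X → L Y → L (X * Y - Y * X)
  tri : ∀ X Y, L X → L Y → L (X * Y * X)

section form

variable {N : Type} [Fintype N] (J : Matrix N N ℤ)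

/-- the Lie ring of a bilinear form -/
def FL (X : Matrix N N ℤ) : Prop := Xᵀ * J = -(J * X)

variable {J}

theorem FL.sub (X Y : Matrix N N ℤ) (hX : FL J X) (hY : FL J Y) : FL J (X - Y) := by
  rw [FL, transpose_sub, Matrix.sub_mul, hX, hY, Matrix.mul_sub]
  abel

theorem FL.mul {X Y : Matrix N N ℤ} (hX : FL J X) (hY : FL J Y) : (X * Y)ᵀ * J = J * (Y * X) := by
  rw [transpose_mul, Matrix.mul_assoc, hX, Matrix.mul_neg, ← Matrix.mul_assoc, hY, Matrix.neg_mul, neg_neg, Matrix.mul_assoc]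

theorem FL.br (X Y : Matrix N N ℤ) (hX : FL J X) (hY : FL J Y) : FL J (X * Y - Y * X) := by
  rw [FL, transpose_sub, Matrix.sub_mul, hX.mul hY, hY.mul hX, Matrix.mul_sub, neg_sub]

theorem FL.tri (X Y : Matrix N N ℤ) (hX : FL J X) (hY : FL J Y) : FL J (X * Y * X) := by
  rw [FL, transpose_mul, Matrix.mul_assoc, hX.mul hY, ← Matrix.mul_assoc, hX, Matrix.neg_mul, Matrix.mul_assoc,
    Matrix.mul_assoc]

end form

section alg

variable {K : Type*} [CommRing K] {𝔸 : Type*} [Ring 𝔸] [Algebra K 𝔸] {A B : 𝔸}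

theorem comm_eq (hA : A * A = 0) (hB : B * B = 0) (h : B * A * B = 0) (u v : K) :
    (1 + u • A) * (1 + v • B) * (1 + (-u) • A) * (1 + (-v) • B) =
      (1 + (u * v) • (A * B - B * A)) * (1 + (-(u * u * v)) • (A * B * A)) := by
  have h1 : ∀ X : 𝔸, X * A * A = 0 := fun X => by rw [mul_assoc, hA, mul_zero]
  have h3 : ∀ X : 𝔸, X * B * B = 0 := fun X => by rw [mul_assoc, hB, mul_zero]
  have h4 : ∀ X : 𝔸, X * B * A * B = 0 := fun X => by rw [mul_assoc X, mul_assoc X, h, mul_zero]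
  simp only [mul_add, add_mul, sub_mul, smul_mul_assoc, mul_smul_comm, mul_one, one_mul, ← mul_assoc, hA, hB, h, h1, h3,
    h4, smul_zero, zero_mul, smul_sub]
  module

theorem wel_eq (hA : A * A = 0) (h : A * B * A = A) {s t : K} (hst : s * t = 1) :
    (1 + s • A) * (1 + (-t) • B) * (1 + s • A) = 1 + s • A - t • B - A * B - B * A := by
  simp only [mul_add, add_mul, smul_mul_assoc, mul_smul_comm, mul_one, one_mul, hA, h, smul_zero]
  linear_combination (norm := module) (-s * hst) • A + (-hst) • (A * B) + (-hst) • (B * A)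

theorem tor_wel (hA : A * A = 0) (hB : B * B = 0) (h : A * B * A = A) (h' : B * A * B = B) (s t : K) :
    (1 + (s - 1) • (A * B) + (t - 1) • (B * A)) * (1 + A - B - A * B - B * A) = 1 + s • A - t • B - A * B - B * A := by
  have h1 : ∀ X : 𝔸, X * A * A = 0 := fun X => by rw [mul_assoc, hA, mul_zero]
  have h3 : ∀ X : 𝔸, X * B * B = 0 := fun X => by rw [mul_assoc, hB, mul_zero]
  simp only [mul_add, add_mul, mul_sub, smul_mul_assoc, mul_one, one_mul, ← mul_assoc, h, h', h1, h3, zero_mul, smul_zero]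
  module

end alg

namespace Sm

variable {I : Type} [Fintype I] [DecidableEq I] {A : I → I → ℤ} {R N : Type} [Fintype R] [DecidableEq R] [Fintype N]
  [DecidableEq N] (m : Sm A R N)

/-- the root matrix -/
def e (x : I → ℤ) : Matrix N N ℤ := of fun a c => if m.St x a c then (m.s a c : ℤ) else 0

theorem e_apply (x : I → ℤ) (a c : N) : m.e x a c = if m.St x a c then (m.s a c : ℤ) else 0 := rfl

/-- the matrices of weight `z` -/
def Sup {K : Type*} [Zero K] (z : I → ℤ) (X : Matrix N N K) : Prop := ∀ a c, ¬ m.St z a c → X a c = 0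

variable {W : Type} [Group W] {M : CoxeterMatrix I} (cs : CoxeterSystem M W) (h : IsCartan M A)

/-- The axioms. -/
structure Ok : Prop where
  mem : ∀ x, IsRoot cs h x → m.L (m.e x)
  root : ∀ z, IsRoot cs h z → ∀ X, m.L X → m.Sup z X → ∃ n : ℤ, X = n • m.e z
  non : ∀ x y, IsRoot cs h x → IsRoot cs h y → x + y ≠ 0 → ¬ IsRoot cs h (x + y) → ∀ X, m.L X → m.Sup (x + y) X → X = 0

variable {cs h}

theorem sup_e (x : I → ℤ) : m.Sup x (m.e x) := fun _ _ h => if_neg h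

theorem e_neg (x : I → ℤ) : m.e (-x) = (m.e x)ᵀ := by
  ext a c
  rw [transpose_apply, e_apply, e_apply, m.symm, if_congr Mn.st_neg rfl rfl]

variable {m} in
theorem Sup.mul {x y : I → ℤ} {X Y : Matrix N N ℤ} (hX : m.Sup x X) (hY : m.Sup y Y) : m.Sup (x + y) (X * Y) :=
  fun a c hn => Finset.sum_eq_zero fun b _ => by
    by_cases h1 : m.St x a b
    · exact mul_eq_zero_of_right _ (hY b c fun h2 => hn (by rw [Mn.St, h1, h2, map_add, add_assoc, add_comm (m.wt y)]))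
    · exact mul_eq_zero_of_left (hX a b h1) _

variable {m} in
theorem Sup.sub {x : I → ℤ} {X Y : Matrix N N ℤ} (hX : m.Sup x X) (hY : m.Sup x Y) : m.Sup x (X - Y) :=
  fun a c hn => by rw [Matrix.sub_apply, hX a c hn, hY a c hn, sub_zero]

theorem mul_e {y : I → ℤ} (X : Matrix N N ℤ) (a : N) {b c : N} (hs : m.St y b c) : (X * m.e y) a c = X a b * m.s b c := by
  rw [mul_apply, Finset.sum_eq_single b (fun b' _ hb => by rw [e_apply, if_neg fun e => hb (e.unique hs), mul_zero])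
    (by simp), e_apply, if_pos hs]

theorem proj (x : I → ℤ) (a c : N) [Decidable (∃ b, m.St x a b)] :
    (m.e x * m.e (-x)) a c = if a = c ∧ ∃ b, m.St x a b then 1 else 0 := by
  split_ifs with h1
  · obtain ⟨rfl, b, hb⟩ := h1
    rw [m.mul_e _ a (Mn.st_neg.2 hb), e_apply, if_pos hb, m.symm b, ← Units.val_mul, Int.units_mul_self, Units.val_one]
  · refine Finset.sum_eq_zero fun b _ => ?_
    by_cases h2 : m.St x a b
    · exact mul_eq_zero_of_right _ (m.sup_e _ b c fun h3 => h1 ⟨h2.unique (Mn.st_neg.1 h3), b, h2⟩)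
    · exact mul_eq_zero_of_left (m.sup_e _ a b h2) _

theorem efe (x : I → ℤ) : m.e x * m.e (-x) * m.e x = m.e x := by
  classical
  ext a c
  by_cases h1 : m.St x a c
  · rw [m.mul_e _ a h1, proj, if_pos ⟨rfl, c, h1⟩, one_mul, e_apply, if_pos h1]
  · rw [m.sup_e x a c h1]
    exact ((m.sup_e x).mul (m.sup_e (-x))).mul (m.sup_e x) a c (by rwa [add_neg_cancel, zero_add])

theorem fef (x : I → ℤ) : m.e (-x) * m.e x * m.e (-x) = m.e (-x) := by simpa using m.efe (-x)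

/-- domination -/
def Dm (X Y : Matrix N N ℤ) : Prop := ∀ a c, |X a c| ≤ Y a c

theorem Dm.mul {X Y X' Y' : Matrix N N ℤ} (h : Dm X Y) (h' : Dm X' Y') : Dm (X * X') (Y * Y') := fun a c =>
  (Finset.abs_sum_le_sum_abs _ _).trans (Finset.sum_le_sum fun b _ => (abs_mul _ _).trans_le
    (mul_le_mul (h a b) (h' b c) (abs_nonneg _) ((abs_nonneg _).trans (h a b))))

theorem Dm.zero {X : Matrix N N ℤ} (h : Dm X 0) : X = 0 := Matrix.ext fun a c => abs_nonpos_iff.1 (h a c)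

theorem dm_e (x : I → ℤ) : Dm (m.e x) (m.E ℤ x) := fun a c => by
  rw [e_apply, Mn.E_apply]
  split_ifs
  · exact (Int.isUnit_iff_abs_eq.1 (m.s a c).isUnit).le
  · exact abs_zero.le

variable [Fintype W]

theorem e_sq {x : I → ℤ} (hx : IsRoot cs h x) : m.e x * m.e x = 0 :=
  Dm.zero (m.E_sq ℤ hx ▸ (m.dm_e x).mul (m.dm_e x))

theorem e_ne {x : I → ℤ} (hx : IsRoot cs h x) : m.e x ≠ 0 := fun h0 => by
  obtain ⟨a, c, e⟩ := m.exists_st hx
  exact (m.s a c).ne_zero ((if_pos e).symm.trans (congrFun (congrFun h0 a) c))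

theorem tri_zero {x y : I → ℤ} (hx : IsRoot cs h x) (hy : IsRoot cs h y) (h1 : form cs h x y ≠ -form cs h x x) :
    m.e x * m.e y * m.e x = 0 := by
  refine Dm.zero fun a c => (((m.dm_e x).mul (m.dm_e y)).mul (m.dm_e x) a c).trans_eq ?_
  rw [m.EEE ℤ hx hy hx, if_neg fun e => by omega, Matrix.zero_apply]

include cs h in
theorem ex_sr (i : I) (a : N) : (∃ b, m.St (sr i) a b) ↔ m.lam a i = 1 := by
  refine ⟨fun ⟨b, hb⟩ => ?_, fun e => ⟨m.σ i a, Mn.st_neg.1 (by simpa [e] using m.st_σ i a)⟩⟩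
  have h1 := hb.lam i
  have h2 := m.bd i a
  have h3 := m.bd i b
  rw [sr, pairing_single, h.diag] at h1
  unfold Mn.lam at h1 ⊢
  omega

include cs h in
theorem ex_neg_sr (i : I) (a : N) : (∃ b, m.St (-sr i) a b) ↔ m.lam a i = -1 := by
  refine ⟨fun ⟨b, hb⟩ => ?_, fun e => ⟨m.σ i a, Mn.st_neg.2 (by simpa [e] using m.st_σ i a)⟩⟩
  have h1 := (Mn.st_neg.1 hb).lam i
  have h2 := m.bd i a
  have h3 := m.bd i b
  rw [sr, pairing_single, h.diag] at h1
  unfold Mn.lam at h1 ⊢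
  omega

/-- the Weyl element of a root -/
def ν (x : I → ℤ) : Matrix N N ℤ := 1 + m.e x - m.e (-x) - m.e x * m.e (-x) - m.e (-x) * m.e x

theorem ν_eq {x : I → ℤ} (hx : IsRoot cs h x) : m.ν x = (1 + m.e x) * (1 - m.e (-x)) * (1 + m.e x) := by
  simpa [ν, ← sub_eq_add_neg] using (wel_eq (K := ℤ) (m.e_sq hx) (m.efe x) (mul_one 1)).symm

theorem ν_neg {x : I → ℤ} (hx : IsRoot cs h x) : m.ν (-x) = (1 - m.e x) * (1 + m.e (-x)) * (1 - m.e x) := by
  have h1 := wel_eq (K := ℤ) (m.e_sq hx) (m.efe x) (s := -1) (t := -1) rfl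
  simp only [neg_smul, one_smul, neg_neg, ← sub_eq_add_neg] at h1
  rw [h1, ν, neg_neg]
  abel

theorem ν_mul {x : I → ℤ} (hx : IsRoot cs h x) : m.ν (-x) * m.ν x = 1 := by
  have h1 : ∀ X : Matrix N N ℤ, X * X = 0 → (1 - X) * (1 + X) = 1 ∧ (1 + X) * (1 - X) = 1 := fun X hX => by
    simp [mul_add, add_mul, mul_sub, sub_mul, hX]
  rw [m.ν_eq hx, m.ν_neg hx, mul_assoc, mul_assoc, mul_assoc (1 + m.e x), ← mul_assoc (1 - m.e x) (1 + m.e x),
    (h1 _ (m.e_sq hx)).1, one_mul, ← mul_assoc (1 + _), (h1 _ (m.e_sq hx.neg)).2, one_mul, (h1 _ (m.e_sq hx)).1]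

include cs h in
theorem ν_mon (i : I) {a c : N} (hac : a ≠ m.σ i c) : m.ν (sr i) a c = 0 ∧ m.ν (-sr i) a c = 0 := by
  classical
  have h1 := m.proj (sr i) a c
  have h2 := m.proj (-sr i) a c
  have h3 := m.st_σ i c
  rw [neg_neg] at h2
  have n1 : ¬ m.St (sr i) a c := fun e => hac (e.unique (by
    simpa [(m.ex_neg_sr (cs := cs) (h := h) i c).1 ⟨a, Mn.st_neg.2 e⟩] using h3))
  have n2 : ¬ m.St (-sr i) a c := fun e => hac (e.unique (by
    simpa [(m.ex_sr (cs := cs) (h := h) i c).1 ⟨a, Mn.st_neg.1 e⟩] using h3))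
  simp only [ν, neg_neg, Matrix.sub_apply, Matrix.add_apply, h1, h2, m.sup_e _ a c n1, m.sup_e _ a c n2, one_apply,
    m.ex_sr (cs := cs) (h := h), m.ex_neg_sr (cs := cs) (h := h)]
  by_cases e : a = c
  · subst e
    rcases m.bd i a with e | e | e <;> change m.lam a i = _ at e
    · exact absurd (Mn.st_zero.1 (by simpa [e] using h3)).symm hac
    · simp [e]
    · simp [e]
  · simp [e]

variable {m} (H : m.Ok cs h)
include H

theorem Ok.cj {x : I → ℤ} (hx : IsRoot cs h x) {X : Matrix N N ℤ} (hX : m.L X) :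
    m.L ((1 + m.e x) * X * (1 - m.e x)) ∧ m.L ((1 - m.e x) * X * (1 + m.e x)) := by
  have h1 := H.mem x hx
  constructor
  · convert m.sub _ _ (m.sub _ _ hX (m.br _ _ hX h1)) (m.tri _ _ h1 hX) using 1
    noncomm_ring
  · convert m.sub _ _ (m.sub _ _ hX (m.br _ _ h1 hX)) (m.tri _ _ h1 hX) using 1
    noncomm_ring

theorem Ok.conj₀ (i : I) {x : I → ℤ} (hx : IsRoot cs h x) :
    ∃ δ : ℤ, m.ν (sr i) * m.e x * m.ν (-sr i) = δ • m.e (rep cs h (cs.simple i) x) := by
  have hr := isRoot_sr cs h i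
  refine H.root _ (hx.act _) _ ?_ fun a c hn => ?_
  · convert (H.cj hr (H.cj hr.neg (H.cj hr (H.mem x hx)).1).2).1 using 1
    rw [m.ν_eq hr, m.ν_neg hr]
    simp only [mul_assoc]
  · refine Finset.sum_eq_zero fun d _ => ?_
    by_cases h1 : d = m.σ i c
    · refine mul_eq_zero_of_left (Finset.sum_eq_zero fun b _ => ?_) _
      by_cases h2 : a = m.σ i b
      · refine mul_eq_zero_of_right _ (m.sup_e x b d fun h3 => hn ?_)
        have h4 := h3.refl cs h i
        rwa [← h2, h1, m.σ_σ h] at h4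
      · exact mul_eq_zero_of_left (m.ν_mon (cs := cs) (h := h) i h2).1 _
    · exact mul_eq_zero_of_right _ (m.ν_mon (cs := cs) (h := h) i h1).2

theorem Ok.conj (i : I) {x : I → ℤ} (hx : IsRoot cs h x) : ∃ δ : ℤˣ,
    m.ν (sr i) * m.e x * m.ν (-sr i) = (δ : ℤ) • m.e (rep cs h (cs.simple i) x) ∧
      m.ν (sr i) * m.e (-x) * m.ν (-sr i) = (δ : ℤ) • m.e (-rep cs h (cs.simple i) x) := by
  obtain ⟨δ, h1⟩ := H.conj₀ i hx
  obtain ⟨δ', h2⟩ := H.conj₀ i hx.neg
  have hr := isRoot_sr cs h i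
  have h3 := m.ν_mul hr
  rw [map_neg] at h2
  have h4 : ∀ X Y : Matrix N N ℤ, m.ν (sr i) * X * m.ν (-sr i) * (m.ν (sr i) * Y * m.ν (-sr i)) =
      m.ν (sr i) * (X * Y) * m.ν (-sr i) := fun X Y => by
    rw [mul_assoc, mul_assoc (m.ν _) Y, ← mul_assoc (m.ν (-sr i)), h3, one_mul, ← mul_assoc, mul_assoc _ X]
  have h5 : m.ν (sr i) * m.e x * m.ν (-sr i) * (m.ν (sr i) * m.e (-x) * m.ν (-sr i)) * (m.ν (sr i) * m.e x * m.ν (-sr i)) =
      m.ν (sr i) * m.e x * m.ν (-sr i) := by rw [h4, h4, m.efe]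
  simp only [h1, h2, smul_mul_assoc, mul_smul_comm, m.efe, smul_smul] at h5
  have h6 : δ ≠ 0 := fun e => m.e_ne hx (by
    have h7 := congrArg (fun X => m.ν (-sr i) * X * m.ν (sr i)) h1
    simpa only [e, zero_smul, mul_zero, zero_mul, ← mul_assoc, h3, one_mul, mul_assoc (m.e x), mul_one] using h7)
  have h7 : δ' * δ = 1 := mul_left_cancel₀ h6 ((smul_left_injective ℤ (m.e_ne (hx.act _)) h5).trans (mul_one δ).symm)
  rcases Int.eq_one_or_neg_one_of_mul_eq_one' h7 with ⟨rfl, rfl⟩ | ⟨rfl, rfl⟩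
  · exact ⟨1, h1, h2⟩
  · exact ⟨-1, h1, h2⟩

theorem Ok.br_eq {x y : I → ℤ} (hx : IsRoot cs h x) (hy : IsRoot cs h y) (hz : IsRoot cs h (x + y)) :
    ∃ n : ℤ, m.e x * m.e y - m.e y * m.e x = n • m.e (x + y) :=
  H.root _ hz _ (m.br _ _ (H.mem x hx) (H.mem y hy))
    (((m.sup_e x).mul (m.sup_e y)).sub (add_comm y x ▸ (m.sup_e y).mul (m.sup_e x)))

theorem Ok.br_zero {x y : I → ℤ} (hx : IsRoot cs h x) (hy : IsRoot cs h y) (h0 : x + y ≠ 0) (hz : ¬ IsRoot cs h (x + y)) :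
    m.e x * m.e y - m.e y * m.e x = 0 :=
  H.non x y hx hy h0 hz _ (m.br _ _ (H.mem x hx) (H.mem y hy))
    (((m.sup_e x).mul (m.sup_e y)).sub (add_comm y x ▸ (m.sup_e y).mul (m.sup_e x)))

theorem Ok.tri_eq {x y : I → ℤ} (hx : IsRoot cs h x) (hy : IsRoot cs h y) (hz : IsRoot cs h (x + y + x)) :
    ∃ n : ℤ, m.e x * m.e y * m.e x = n • m.e (x + y + x) :=
  H.root _ hz _ (m.tri _ _ (H.mem x hx) (H.mem y hy)) (((m.sup_e x).mul (m.sup_e y)).mul (m.sup_e x))

end Sm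

end Cfsg.Agent.KZ.Dat
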