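import Cfsg.Agent.KZ.Dat.Sm
import Cfsg.Agent.Nodes.FreeTorus

/-!
# Minuscule weight systems with signs, II : root elements over a field (helper46)

`m.x K a u = 1 + u e a`, `m.X K a`, `m.w K a s` (Weyl elements), `m.n K i`; the torus is `m.τ K` of `ODD.C2.Mn`.
-/

set_option autoImplicit false
set_option linter.unusedSectionVars false

namespace Cfsg.Agent.KZ.Dat

open CoxeterSystem Cfsg.Agent.ChevalleyStructure.CoxeterGeom Cfsg.Agent.Tits.Roots Cfsg.Agent.Nodes.Coroot Matrix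
  Cfsg.Agent.Nodes.Reps Cfsg.Agent.ODD.C2 Cfsg.Agent.DL
open scoped commutatorElement

/-- the Coxeter relations modulo `T` from a conjugation rule -/
theorem nsys_of {I W Y : Type*} [Group W] [Group Y] {M : CoxeterMatrix I} (cs : CoxeterSystem M W) {T : Subgroup Y}
    {n : I → Y} (hN : ∀ i, n i ∈ Subgroup.normalizer (T : Set Y)) (h2 : ∀ i, n i * n i ∈ T) (P : W → Y → Prop)
    (one : P 1 1) (mul : ∀ i w g, P w g → P (cs.simple i * w) (n i * g))
    (cj : ∀ w g i j, P w g → w * cs.simple i * w⁻¹ = cs.simple j → g * n i * g⁻¹ * (n j)⁻¹ ∈ T) : NSys M T n := by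
  refine ⟨hN, fun i j => ?_⟩
  let ν : I → Subgroup.normalizer (T : Set Y) := fun i => ⟨n i, hN i⟩
  let π := QuotientGroup.mk' (T.subgroupOf (Subgroup.normalizer (T : Set Y)))
  have hπ : ∀ g, π g = 1 ↔ (g : Y) ∈ T := fun g => (QuotientGroup.eq_one_iff g).trans Subgroup.mem_subgroupOf
  have hP : ∀ r : ℕ, P ((cs.simple i * cs.simple j) ^ r) ((n i * n j) ^ r) := fun r => by
    induction r with
    | zero => simpa using one
    | succ r ih => simpa only [pow_succ', mul_assoc] using mul i _ _ (mul j _ _ ih)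
  have h1 : ∀ r : ℕ, cs.simple i * ((cs.simple i * cs.simple j) ^ r)⁻¹ = (cs.simple i * cs.simple j) ^ r * cs.simple i :=
    fun r => by
      rw [← inv_pow, _root_.mul_inv_rev, inv_simple, inv_simple]
      exact (SemiconjBy.pow_right (mul_assoc _ _ _).symm r).eq
  have h3 : ∀ l, (cs.simple i * cs.simple j) ^ (M i j / 2 + M i j / 2) * cs.simple i = cs.simple l →
      (π (ν i) * π (ν j)) ^ (M i j / 2) * π (ν i) * ((π (ν i) * π (ν j)) ^ (M i j / 2))⁻¹ = π (ν l) := fun l hl => by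
    rw [← mul_inv_eq_one, ← map_mul, ← map_pow, ← map_mul, ← map_inv, ← map_mul, ← map_inv, ← map_mul, hπ]
    exact cj _ _ i l (hP _) (by rw [mul_assoc, h1, ← mul_assoc, ← pow_add, hl])
  have hW := cs.simple_mul_simple_pow i j
  have h4 := Nodes.FreeTorus.pow_eq_one_of_conj (a := π (ν i)) (b := π (ν j))
    (by rw [← map_mul, hπ]; exact h2 i) (by rw [← map_mul, hπ]; exact h2 j) (M i j) (by
      split_ifs with e
      · exact h3 i (by rw [show M i j / 2 + M i j / 2 = M i j by obtain ⟨t, e⟩ := e; omega, hW, one_mul])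
      · refine h3 j (((eq_inv_of_mul_eq_one_left ?_)).trans (cs.inv_simple j))
        rw [mul_assoc, ← pow_succ, show M i j / 2 + M i j / 2 + 1 = M i j by rw [Nat.even_iff] at e; omega, hW])
  rwa [← map_mul, ← map_pow, hπ] at h4

namespace Sm

variable {I : Type} [Fintype I] [DecidableEq I] {A : I → I → ℤ} {R N : Type} [Fintype R] [DecidableEq R] [Fintype N]
  [DecidableEq N] (m : Sm A R N) (K : Type) [Field K]

/-- the root matrix over a field -/
def ek (a : I → ℤ) : Matrix N N K := (Int.castRingHom K).mapMatrix (m.e a)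

theorem ek_apply (a : I → ℤ) (b c : N) : m.ek K a b c = if m.St a b c then ((m.s b c : ℤ) : K) else 0 := by
  show ((m.e a b c : ℤ) : K) = _
  rw [e_apply, apply_ite ((↑) : ℤ → K), Int.cast_zero]

/-- root elements -/
noncomputable def x (a : I → ℤ) (u : K) : GL N K := by
  classical
  exact if h : m.ek K a * m.ek K a = 0 then ⟨1 + u • m.ek K a, 1 + (-u) • m.ek K a,
    by rw [ODD.C2.one_add_mul h, add_neg_cancel, zero_smul, add_zero],
    by rw [ODD.C2.one_add_mul h, neg_add_cancel, zero_smul, add_zero]⟩ else 1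

theorem x_add (a : I → ℤ) (u v : K) : m.x K a (u + v) = m.x K a u * m.x K a v := by
  unfold x
  split_ifs with h
  · exact Units.ext (ODD.C2.one_add_mul h u v).symm
  · rw [mul_one]

theorem x_zero (a : I → ℤ) : m.x K a 0 = 1 := by simpa using m.x_add K a 0 0

theorem x_neg (a : I → ℤ) (u : K) : m.x K a (-u) = (m.x K a u)⁻¹ := by
  rw [eq_inv_iff_mul_eq_one, ← x_add, neg_add_cancel, x_zero]

/-- root groups -/
noncomputable def X (a : I → ℤ) : Subgroup (GL N K) :=
  (MonoidHom.mk' (fun u : Multiplicative K => m.x K a u.toAdd) fun _ _ => m.x_add K a _ _).range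

theorem mem_X {a : I → ℤ} {y : GL N K} : y ∈ m.X K a ↔ ∃ u, m.x K a u = y := Iff.rfl

/-- Weyl elements -/
noncomputable def w (a : I → ℤ) (s : Kˣ) : GL N K := m.x K a s * m.x K (-a) (-(s⁻¹ : Kˣ)) * m.x K a s

theorem w_inv (a : I → ℤ) (s : Kˣ) : (m.w K a s)⁻¹ = m.w K a (-s) := by
  simp only [w, _root_.mul_inv_rev, ← x_neg, mul_assoc, Units.val_neg, inv_neg]

/-- the representatives of the simple reflections -/
noncomputable def n (i : I) : GL N K := m.w K (sr i) 1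

variable {K}

theorem mon_τ {g : GL N K} {π : N → N} (hg : ∀ a b, a ≠ π b → (g : Matrix N N K) a b = 0) {c c' : R → Kˣ}
    (hπ : ∀ a, chr (m.μ (π a)) c' = chr (m.μ a) c) : g * m.τ K c * g⁻¹ = m.τ K c' := by
  rw [mul_inv_eq_iff_eq_mul]
  refine Units.ext (Matrix.ext fun a b => ?_)
  rw [Units.val_mul, Units.val_mul, Mn.coe_τ, Mn.coe_τ, diagonal_mul, mul_diagonal]
  by_cases e : a = π b
  · rw [e, hπ, mul_comm]
  · rw [hg a b e, mul_zero, zero_mul]

variable {W : Type} [Group W] [Finite W] {M : CoxeterMatrix I} {cs : CoxeterSystem M W} {h : IsCartan M A}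

theorem ek_sq {a : I → ℤ} (ha : IsRoot cs h a) : m.ek K a * m.ek K a = 0 := by
  have := Fintype.ofFinite W
  rw [ek, ← map_mul, m.e_sq ha, map_zero]

theorem ek_efe (a : I → ℤ) : m.ek K a * m.ek K (-a) * m.ek K a = m.ek K a := by rw [ek, ek, ← map_mul, ← map_mul, efe]

theorem ek_fef (a : I → ℤ) : m.ek K (-a) * m.ek K a * m.ek K (-a) = m.ek K (-a) := by rw [ek, ek, ← map_mul, ← map_mul, fef]

theorem ek_neg (a : I → ℤ) : m.ek K (-a) = (m.ek K a)ᵀ := by
  rw [ek, e_neg]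
  rfl

theorem coe_x {a : I → ℤ} (ha : IsRoot cs h a) (u : K) : (m.x K a u : Matrix N N K) = 1 + u • m.ek K a := by
  unfold x
  rw [dif_pos (m.ek_sq ha)]

theorem x_apply {a : I → ℤ} (ha : IsRoot cs h a) (u : K) (b c : N) : (m.x K a u : Matrix N N K) b c =
    (if b = c then 1 else 0) + if m.St a b c then u * ((m.s b c : ℤ) : K) else 0 := by
  rw [m.coe_x ha, Matrix.add_apply, one_apply, Matrix.smul_apply, ek_apply, smul_eq_mul, mul_ite, mul_zero]

theorem cast_ne (s : ℤˣ) : ((s : ℤ) : K) ≠ 0 := (s.isUnit.map (Int.castRingHom K)).ne_zero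

theorem x_inj {a : I → ℤ} (ha : IsRoot cs h a) : Function.Injective (m.x K a) := by
  intro u v e
  have := Fintype.ofFinite W
  obtain ⟨b, c, hs⟩ := m.exists_st ha
  have h1 := congrArg (fun g : GL N K => (g : Matrix N N K) b c) e
  simpa [m.x_apply ha, hs, cast_ne] using h1

theorem ek_ne {a : I → ℤ} (ha : IsRoot cs h a) : m.ek K a ≠ 0 := fun e =>
  one_ne_zero (m.x_inj (K := K) ha (Units.ext (by rw [m.coe_x ha, m.coe_x ha, e, smul_zero, smul_zero])))

theorem map_x {L : Type} [Field L] (f : K →+* L) {a : I → ℤ} (ha : IsRoot cs h a) (u : K) :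
    GeneralLinearGroup.map f (m.x K a u) = m.x L a (f u) := by
  refine Units.ext (Matrix.ext fun b c => ?_)
  show f ((m.x K a u : Matrix N N K) b c) = _
  rw [m.x_apply ha, m.x_apply ha, map_add, apply_ite f, apply_ite f, map_one, map_zero, map_mul, map_intCast]

theorem τ_x {a : I → ℤ} (ha : IsRoot cs h a) (c : R → Kˣ) (u : K) :
    m.τ K c * m.x K a u * (m.τ K c)⁻¹ = m.x K a ((chr (m.wt a) c : Kˣ) * u) := by
  rw [mul_inv_eq_iff_eq_mul]
  refine Units.ext (Matrix.ext fun b d => ?_)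
  rw [Units.val_mul, Units.val_mul, Mn.coe_τ, diagonal_mul, mul_diagonal, m.x_apply ha, m.x_apply ha, mul_add, add_mul]
  congr 1
  · split_ifs with e
    · rw [e, mul_comm]
    · simp
  · split_ifs with e
    · rw [show m.μ b = _ from e, chr_add, Units.val_mul]
      ring
    · simp

theorem itA_x {a : I → ℤ} (ha : IsRoot cs h a) (u : K) : itA N K (m.x K a u) = m.x K (-a) (-u) :=
  Units.ext (by rw [coe_itA, ← x_neg, m.coe_x ha, m.coe_x ha.neg, ek_neg, transpose_add, transpose_one, transpose_smul])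

/-- conjugation of root elements, on the level of matrices -/
theorem conj_x {g : GL N K} {a b : I → ℤ} (ha : IsRoot cs h a) (hb : IsRoot cs h b) {d : K}
    (hg : (g : Matrix N N K) * m.ek K a = d • (m.ek K b * g)) (u : K) : g * m.x K a u * g⁻¹ = m.x K b (d * u) := by
  rw [mul_inv_eq_iff_eq_mul]
  apply Units.ext
  rw [Units.val_mul, Units.val_mul, m.coe_x ha, m.coe_x hb, mul_add, add_mul, mul_one, one_mul, mul_smul_comm, hg,
    smul_mul_assoc, smul_smul, mul_comm u]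

theorem coe_w {a : I → ℤ} (ha : IsRoot cs h a) (s : Kˣ) : (m.w K a s : Matrix N N K) = 1 + (s : K) • m.ek K a -
    ((s⁻¹ : Kˣ) : K) • m.ek K (-a) - m.ek K a * m.ek K (-a) - m.ek K (-a) * m.ek K a := by
  rw [w, Units.val_mul, Units.val_mul, m.coe_x ha, m.coe_x ha.neg]
  exact wel_eq (m.ek_sq ha) (m.ek_efe a) s.mul_inv

theorem w_neg {a : I → ℤ} (ha : IsRoot cs h a) (s : Kˣ) : m.w K (-a) s = m.w K a (-s⁻¹) := by
  apply Units.ext
  rw [m.coe_w ha, m.coe_w ha.neg, neg_neg, inv_neg, inv_inv, Units.val_neg, Units.val_neg]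
  module

theorem coe_w_one {a : I → ℤ} (ha : IsRoot cs h a) :
    (m.w K a 1 : Matrix N N K) = (Int.castRingHom K).mapMatrix (m.ν a) := by
  simp only [m.coe_w ha, ν, ek, map_sub, map_add, map_mul, map_one, inv_one, Units.val_one, one_smul]

theorem map_n {L : Type} [Field L] (f : K →+* L) (cs : CoxeterSystem M W) (h : IsCartan M A) (i : I) :
    GeneralLinearGroup.map f (m.n K i) = m.n L i := by
  have hr := isRoot_sr cs h i
  simp only [n, w, map_mul, m.map_x f hr, m.map_x f hr.neg, inv_one, Units.val_one, map_neg, map_one]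

variable (cs h) in
include cs h in
theorem coe_τ_coch (i : I) (s : Kˣ) : (m.τ K (coch (m.cw i) s) : Matrix N N K) =
    1 + ((s : K) - 1) • (m.ek K (sr i) * m.ek K (-sr i)) + (((s⁻¹ : Kˣ) : K) - 1) • (m.ek K (-sr i) * m.ek K (sr i)) := by
  classical
  have := Fintype.ofFinite W
  ext a c
  have h1 := congrArg ((↑) : ℤ → K) (m.proj (sr i) a c)
  have h2 := congrArg ((↑) : ℤ → K) (m.proj (-sr i) a c)
  rw [neg_neg] at h2
  rw [ek, ek, ← map_mul, ← map_mul, Mn.coe_τ, diagonal_apply, chr_coch]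
  change (if a = c then ((s ^ m.lam a i : Kˣ) : K) else 0) = (1 : Matrix N N K) a c +
    ((s : K) - 1) * ((m.e (sr i) * m.e (-sr i)) a c : ℤ) + (((s⁻¹ : Kˣ) : K) - 1) * ((m.e (-sr i) * m.e (sr i)) a c : ℤ)
  rw [h1, h2, one_apply]
  simp only [m.ex_sr (cs := cs) (h := h), m.ex_neg_sr (cs := cs) (h := h)]
  by_cases e : a = c
  · rcases m.bd i a with e' | e' | e' <;> change m.lam a i = _ at e' <;> simp [e', eq_true e]
  · simp [e]

variable (cs h) in
include cs h in
theorem τ_n (i : I) (s : Kˣ) : m.τ K (coch (m.cw i) s) * m.n K i = m.w K (sr i) s := by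
  have hr := isRoot_sr cs h i
  apply Units.ext
  rw [Units.val_mul, m.coe_τ_coch cs h, n, m.coe_w hr, m.coe_w hr, inv_one, Units.val_one, one_smul, one_smul]
  exact tor_wel (m.ek_sq hr) (m.ek_sq hr.neg) (m.ek_efe _) (m.ek_fef _) _ _

variable (cs h) in
include cs h in
theorem n_n (i : I) : m.n K i * m.n K i = m.τ K (coch (m.cw i) (-1)) := by
  have h1 := m.τ_n (K := K) cs h i (-1)
  rw [← w_inv, ← n, eq_inv_iff_mul_eq_one, mul_assoc, ← inv_eq_iff_mul_eq_one, ← map_inv, ← map_inv, inv_neg_one] at h1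
  exact h1.symm

variable (cs h) in
include cs h in
theorem rk1 (i : I) (s : Kˣ) : m.x K (-sr i) (-(s⁻¹ : Kˣ)) =
    m.x K (sr i) (-s) * m.τ K (coch (m.cw i) s) * m.n K i * m.x K (sr i) (-s) := by
  rw [mul_assoc (m.x K _ _), m.τ_n cs h, w, x_neg _ _ (sr i)]
  group

variable (cs h) in
include cs h in
theorem n_mon (i : I) (a b : N) (e : a ≠ m.σ i b) : (m.n K i : Matrix N N K) a b = 0 := by
  have := Fintype.ofFinite W
  rw [n, m.coe_w_one (isRoot_sr cs h i)]
  show ((m.ν (sr i) a b : ℤ) : K) = 0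
  rw [(m.ν_mon (cs := cs) (h := h) i e).1, Int.cast_zero]

variable (cs h) in
include cs h in
theorem n_τ (i : I) (c : R → Kˣ) :
    m.n K i * m.τ K c * (m.n K i)⁻¹ = m.τ K (c * (coch (m.cw i) (chr (m.wt (sr i)) c))⁻¹) :=
  m.mon_τ (m.n_mon cs h i) fun a => by
    obtain ⟨a, rfl⟩ := (m.sp h i).surjective a
    rw [Mn.sp_apply, m.σ_σ h, m.hσ, chr_sub, chr_zsmul, map_mul, map_inv, chr_coch]
    rfl

variable {m} (H : m.Ok cs h)
include H

theorem Ok.n_x (i : I) {a : I → ℤ} (ha : IsRoot cs h a) : ∃ δ : ℤˣ, ∀ u : K,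
    m.n K i * m.x K a u * (m.n K i)⁻¹ = m.x K (rep cs h (cs.simple i) a) (((δ : ℤ) : K) * u) ∧
      m.n K i * m.x K (-a) u * (m.n K i)⁻¹ = m.x K (-rep cs h (cs.simple i) a) (((δ : ℤ) : K) * u) := by
  have := Fintype.ofFinite W
  obtain ⟨δ, h1, h2⟩ := H.conj i ha
  have hr := isRoot_sr cs h i
  have h3 : ∀ b b' : I → ℤ, m.ν (sr i) * m.e b * m.ν (-sr i) = (δ : ℤ) • m.e b' →
      (m.n K i : Matrix N N K) * m.ek K b = ((δ : ℤ) : K) • (m.ek K b' * m.n K i) := fun b b' e => by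
    have h4 := congrArg (fun X => (Int.castRingHom K).mapMatrix (X * m.ν (sr i))) e
    simp only [mul_assoc, m.ν_mul hr, mul_one, map_mul, smul_mul_assoc, map_zsmul] at h4
    rw [n, m.coe_w_one hr, ek, ek, h4, Int.cast_smul_eq_zsmul]
  exact ⟨δ, fun u => ⟨m.conj_x ha (ha.act _) (h3 _ _ h1) u, m.conj_x ha.neg (ha.act _).neg (h3 _ _ h2) u⟩⟩

theorem Ok.nsys {T : Subgroup (GL N K)} (hN : ∀ i, m.n K i ∈ Subgroup.normalizer (T : Set (GL N K)))
    (hT : ∀ i, m.τ K (coch (m.cw i) (-1)) ∈ T) : NSys M T (m.n K) := by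
  refine nsys_of cs hN (fun i => m.n_n (K := K) cs h i ▸ hT i) (fun v g => ∀ a, IsRoot cs h a → ∃ δ : Kˣ,
    (δ = 1 ∨ δ = -1) ∧ ∀ u : K, g * m.x K a u * g⁻¹ = m.x K (rep cs h v a) (δ * u) ∧
      g * m.x K (-a) u * g⁻¹ = m.x K (-rep cs h v a) (δ * u)) (fun a _ => ⟨1, .inl rfl, by simp⟩) ?_ ?_
  · intro i v g hg a ha
    obtain ⟨δ, h1, h2⟩ := hg a ha
    obtain ⟨ε, h3⟩ := H.n_x (K := K) i (ha.act v)
    refine ⟨Units.map (Int.castRingHom K : ℤ →* K) ε * δ, ?_, fun u => ?_⟩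
    · rcases Int.units_eq_one_or ε with rfl | rfl <;> rcases h1 with rfl | rfl <;> simp
    · have h4 : ∀ y : GL N K, m.n K i * g * y * (m.n K i * g)⁻¹ = m.n K i * (g * y * g⁻¹) * (m.n K i)⁻¹ := fun y => by group
      rw [h4, h4, (h2 u).1, (h2 u).2, (h3 _).1, (h3 _).2, rep_mul_apply, ← mul_assoc]
      exact ⟨rfl, rfl⟩
  · intro v g i j hg hv
    obtain ⟨δ, h1, h2⟩ := hg _ (isRoot_sr cs h i)
    have h3 : g * m.n K i * g⁻¹ = m.w K (rep cs h v (sr i)) δ := by
      have h4 : ∀ y z : GL N K, g * (y * z * y) * g⁻¹ = g * y * g⁻¹ * (g * z * g⁻¹) * (g * y * g⁻¹) := fun y z => by group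
      rw [n, w, h4, (h2 _).1, (h2 _).2, w]
      rcases h1 with rfl | rfl <;> simp
    have h4 : ∀ s : Kˣ, s = 1 ∨ s = -1 → m.w K (sr j) s * (m.n K j)⁻¹ ∈ T := fun s hs => by
      rw [← m.τ_n cs h, mul_inv_cancel_right]
      rcases hs with rfl | rfl
      · rw [map_one, map_one]
        exact one_mem _
      · exact hT j
    rcases Nodes.FreeTorus.rep_sr_of_conj (h := h) hv with e | e <;> rw [h3, e]
    · exact h4 _ h1
    · rw [m.w_neg (isRoot_sr cs h j)]
      exact h4 _ (by rcases h1 with rfl | rfl <;> simp)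

omit H in
theorem tri_or {a b : I → ℤ} (ha : IsRoot cs h a) (hb : IsRoot cs h b) (hab : a + b ≠ 0) :
    m.e b * m.e a * m.e b = 0 ∨ m.e a * m.e b * m.e a = 0 := by
  have := Fintype.ofFinite W
  have h1 := form_pos cs h hab
  simp only [form_add_left, form_add_right, form_comm cs h b a] at h1
  by_cases h2 : form cs h a b = -form cs h a a
  · exact .inl (m.tri_zero hb ha (by rw [form_comm]; omega))
  · exact .inr (m.tri_zero ha hb h2)

/-- the commutator relations -/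
theorem Ok.comm {a b : I → ℤ} (ha : IsRoot cs h a) (hb : IsRoot cs h b) (hab : a + b ≠ 0)
    (h0 : m.e b * m.e a * m.e b = 0) : ∃ i j : ℤ, ∀ u v : K, ∃ y z, ⁅m.x K a u, m.x K b v⁆ = y * z ∧
      (y = 1 ∨ IsRoot cs h (a + b) ∧ y = m.x K (a + b) (i * (u * v))) ∧
      (z = 1 ∨ IsRoot cs h (a + b + a) ∧ z = m.x K (a + b + a) (j * (u * u * v))) := by
  have := Fintype.ofFinite W
  have h1 : ∀ {c : I → ℤ} {Z : Matrix N N ℤ}, (Z = 0 ∨ IsRoot cs h c ∧ ∃ i : ℤ, Z = i • m.e c) → ∃ i : ℤ, ∀ t : K,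
      ∃ y : GL N K, (y : Matrix N N K) = 1 + t • (Int.castRingHom K).mapMatrix Z ∧
        (y = 1 ∨ IsRoot cs h c ∧ y = m.x K c (i * t)) := by
    rintro c Z (rfl | ⟨hc, i, rfl⟩)
    · exact ⟨0, fun t => ⟨1, by simp, .inl rfl⟩⟩
    · exact ⟨i, fun t => ⟨_, by rw [m.coe_x hc, map_zsmul, mul_comm, mul_smul, Int.cast_smul_eq_zsmul, ek], .inr ⟨hc, rfl⟩⟩⟩
  obtain ⟨i, hi⟩ := h1 (c := a + b) (Z := m.e a * m.e b - m.e b * m.e a) (by
    by_cases hz : IsRoot cs h (a + b)
    · exact .inr ⟨hz, H.br_eq ha hb hz⟩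
    · exact .inl (H.br_zero ha hb hab hz))
  obtain ⟨j, hj⟩ := h1 (c := a + b + a) (Z := m.e a * m.e b * m.e a) (by
    by_cases hz : form cs h a b = -form cs h a a
    · have h2 := Mn.root_add' ha hb (cpr_eq_of_form cs h ha (by rw [form_comm]; omega))
      exact .inr ⟨h2, H.tri_eq ha hb h2⟩
    · exact .inl (m.tri_zero ha hb hz))
  refine ⟨i, -j, fun u v => ?_⟩
  obtain ⟨y, y1, y2⟩ := hi (u * v)
  obtain ⟨z, z1, z2⟩ := hj (-(u * u * v))
  refine ⟨y, z, Units.ext ?_, y2, by simpa using z2⟩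
  rw [commutatorElement_def, ← x_neg, ← x_neg, Units.val_mul, Units.val_mul, Units.val_mul, Units.val_mul, m.coe_x ha,
    m.coe_x ha, m.coe_x hb, m.coe_x hb, y1, z1, map_sub, map_mul, map_mul, map_mul, map_mul]
  exact comm_eq (m.ek_sq ha) (m.ek_sq hb) (by rw [ek, ek, ← map_mul, ← map_mul, h0, map_zero]) u v

end Sm

end Cfsg.Agent.KZ.Dat
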