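import Cfsg.Agent.KZ.Dat.Sm
import Cfsg.Agent.KZ.Dat.Spm
import Cfsg.Agent.ODD.C2.SpC
import Cfsg.Agent.H97.DG.SpClo

/-!
# The symplectic groups as data, I : the signed weight system and the embedding (helper30)

`smC n`, `okC`; `ioG f`, `ioS f` : the embeddings of `GL_(2n)(F)`, `Sp_(2n)(F)`; `ioS_root` : the root elements.
-/

set_option autoImplicit false
set_option maxHeartbeats 200000
set_option linter.unusedSectionVars false

namespace Cfsg.Agent.KZ.Dat

open CoxeterSystem Cfsg.Agent.ChevalleyStructure.CoxeterGeom Cfsg.Agent.Tits.Roots Matrix Cfsg.Agent.ODD.C2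
  Cfsg.Agent.Nodes.TypeC Cfsg.Agent.ClassicalGeometry.SympBasic Cfsg.Agent.ClassicalGeometry.SympAutSemi

variable {n : ℕ}

/-- the sign of a signed index -/
def epC (a : Fin n × Bool) : ℤˣ := if a.2 then 1 else -1

/-- the signs of the root matrices -/
def sC (a c : Fin n × Bool) : ℤˣ := if a.2 = false ∧ c.2 = false then -1 else 1

theorem epC_ng (a : Fin n × Bool) : epC (ng a) = -epC a := by obtain ⟨i, _ | _⟩ := a <;> rfl

theorem sC_ng (a c : Fin n × Bool) : sC (ng c) (ng a) = -(epC a * epC c) * sC a c := by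
  obtain ⟨i, _ | _⟩ := a <;> obtain ⟨j, _ | _⟩ := c <;> rfl

theorem sC_self (a : Fin n × Bool) : sC a (ng a) = 1 := by obtain ⟨i, _ | _⟩ := a <;> rfl

/-- the form -/
def JC (n : ℕ) : Matrix (Fin n × Bool) (Fin n × Bool) ℤ := of fun a c => if c = ng a then (epC a : ℤ) else 0

theorem fl_iff {X : Matrix (Fin n × Bool) (Fin n × Bool) ℤ} :
    FL (JC n) X ↔ ∀ a c, X (ng c) (ng a) = (-(epC a * epC c) : ℤˣ) * X a c := by
  have h1 : ∀ a c, (Xᵀ * JC n) a c = X (ng c) a * epC (ng c) := fun a c => by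
    rw [mul_apply, Finset.sum_eq_single (ng c) (fun b _ hb => by
      rw [JC, of_apply, if_neg fun e => hb (by rw [e, ng_ng]), mul_zero]) (by simp), JC, of_apply, if_pos (ng_ng c).symm,
      transpose_apply]
  have h2 : ∀ a c, (JC n * X) a c = epC a * X (ng a) c := fun a c => by
    rw [mul_apply, Finset.sum_eq_single (ng a) (fun b _ hb => by rw [JC, of_apply, if_neg hb, zero_mul]) (by simp), JC,
      of_apply, if_pos rfl]
  rw [FL, ← Matrix.ext_iff]
  constructor
  · intro h a c
    have h3 := h (ng a) c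
    rw [Matrix.neg_apply, h1, h2, ng_ng, epC_ng, epC_ng] at h3
    rcases Int.units_eq_one_or (epC a) with e | e <;> rcases Int.units_eq_one_or (epC c) with e' | e' <;>
      rw [e, e'] at h3 ⊢ <;> simp at h3 ⊢ <;> omega
  · intro h a c
    have h3 := h (ng a) c
    rw [ng_ng, epC_ng] at h3
    rw [Matrix.neg_apply, h1, h2, h3, epC_ng]
    rcases Int.units_eq_one_or (epC a) with e | e <;> rcases Int.units_eq_one_or (epC c) with e' | e' <;>
      rw [e, e'] <;> simp

/-- the weights of the natural module, with signs -/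
def smC (n : ℕ) : Sm (A n) (Fin n) (Fin n × Bool) where
  toMn := mnC n
  s := sC
  symm _ _ := if_congr and_comm rfl rfl
  L := FL (JC n)
  sub := FL.sub
  br := FL.br
  tri := FL.tri

theorem eC_apply (x : Fin n → ℤ) (a c : Fin n × Bool) :
    (smC n).e x a c = if (mnC n).St x a c then (sC a c : ℤ) else 0 := rfl

theorem stC_ng (x : Fin n → ℤ) (a c : Fin n × Bool) : (mnC n).St x (ng c) (ng a) ↔ (mnC n).St x a c := by
  show wt (ng c) = wt (ng a) + ee x ↔ wt a = wt c + ee x
  rw [wt_ng, wt_ng, neg_eq_iff_add_eq_zero, add_left_comm, neg_add_eq_zero]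

theorem fl_eC (x : Fin n → ℤ) : FL (JC n) ((smC n).e x) := fl_iff.2 fun a c => by
  rw [eC_apply, eC_apply, if_congr (stC_ng x a c) rfl rfl, sC_ng]
  split_ifs
  · rfl
  · rw [mul_zero]

theorem okC : (smC n).Ok (csC n) (isCartan n) where
  mem x _ := fl_eC x
  root z hz X hX hs := by
    obtain ⟨a, b, hab, e⟩ := exists_of_isRoot (csC n) hz
    have h1 : X a (ng b) = (X a (ng b) * sC a (ng b)) * (smC n).e z a (ng b) := by
      rw [eC_apply, if_pos ((st_iffC hab e _ _).2 (.inl ⟨rfl, rfl⟩)), mul_assoc, ← Units.val_mul, Int.units_mul_self,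
        Units.val_one, mul_one]
    refine ⟨X a (ng b) * sC a (ng b), Matrix.ext fun c d => ?_⟩
    by_cases h : (mnC n).St z c d
    · rcases (st_iffC hab e _ _).1 h with ⟨rfl, rfl⟩ | ⟨rfl, rfl⟩
      · exact h1
      · have h2 := fl_iff.1 hX a (ng c)
        have h3 := fl_iff.1 (fl_eC z) a (ng c)
        rw [ng_ng] at h2 h3
        rw [Matrix.smul_apply, h2, h3, smul_eq_mul, mul_left_comm, ← h1]
    · rw [Matrix.smul_apply, hs c d h, (smC n).sup_e z c d h, smul_zero]
  non x y _ _ h0 h1 X _ hs := Matrix.ext fun a c => hs a c fun h => by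
    have h2 : ee (x + y) = wt a + wt (ng c) := by
      rw [wt_ng, show wt a = wt c + ee (x + y) from h]
      abel
    by_cases h3 : Ok a (ng c)
    · exact h1 (isRoot_iff.2 ⟨_, _, h3, h2⟩)
    · rw [Ok, not_or, not_not] at h3
      have h4 : a = c := by
        obtain ⟨i, s⟩ := a
        obtain ⟨j, t⟩ := c
        obtain rfl : i = j := h3.1
        cases s <;> cases t <;> first | rfl | exact absurd rfl h3.2
      rw [h4, wt_ng, add_neg_cancel] at h2
      exact h0 (ee_injective (h2.trans (by simpa using (ee_smul 0 (0 : Fin n → ℤ)).symm)))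

/-! ### the simple reflections -/

theorem reflC_lt (i : Fin n) (hi : (i : ℕ) + 1 < n) : 1 - vecMulVec (cwC i) (ee (sr i)) = spm (Equiv.swap i ⟨i + 1, hi⟩) 1 := by
  rw [← refl_sub fun h => by simpa using congrArg Fin.val h, ee_sr, cwC, dif_pos hi, bt, nx, dif_pos hi, sub_eq_add_neg (Pi.single i 1),
    ← Pi.single_neg]
  rfl

theorem reflC_last (i : Fin n) (hi : ¬ (i : ℕ) + 1 < n) : 1 - vecMulVec (cwC i) (ee (sr i)) = spm 1 (Pi.mulSingle i (-1)) := by
  rw [← refl_single i (one_mul 2), ee_sr, cwC, dif_neg hi, bt, nx, dif_neg hi, wt, ← Pi.single_add]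
  rfl

/-! ### the embeddings -/

variable {F : Type} [Field F] {k : Type} [Field k]

/-- signed indices -/
def kaS (n : ℕ) : Fin n × Bool ≃ Fin n ⊕ Fin n where
  toFun a := if a.2 then Sum.inl a.1 else Sum.inr a.1
  invFun := Sum.elim (fun i => (i, true)) fun i => (i, false)
  left_inv := by rintro ⟨i, _ | _⟩ <;> rfl
  right_inv := by rintro (i | i) <;> rfl

theorem kaS_ng (a : Fin n × Bool) : kaS n (ng a) = (kaS n a).swap := by obtain ⟨i, _ | _⟩ := a <;> rfl

variable (f : F →+* k)

/-- the embedding of matrices -/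
noncomputable def ioM : Matrix (Fin n ⊕ Fin n) (Fin n ⊕ Fin n) F →* Matrix (Fin n × Bool) (Fin n × Bool) k :=
  f.mapMatrix.toMonoidHom.comp (reindexAlgEquiv F F (kaS n).symm).toMulEquiv.toMonoidHom

theorem ioM_apply (g : Matrix (Fin n ⊕ Fin n) (Fin n ⊕ Fin n) F) (a c : Fin n × Bool) :
    ioM f g a c = f (g (kaS n a) (kaS n c)) := rfl

/-- the embedding of the general linear group -/
noncomputable def ioG : GL (Fin n ⊕ Fin n) F →* GL (Fin n × Bool) k := Units.map (ioM f)

theorem coe_ioG (g : GL (Fin n ⊕ Fin n) F) : (ioG f g : Matrix _ _ k) = ioM f g.1 := rfl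

/-- the embedding of the symplectic group -/
noncomputable def ioS : symplecticGroup (Fin n) F →* GL (Fin n × Bool) k :=
  ((ioM f).comp (symplecticGroup (Fin n) F).subtype).toHomUnits

theorem coe_ioS (g : symplecticGroup (Fin n) F) : (ioS f g : Matrix _ _ k) = ioM f g.1 := rfl

theorem ioS_inj : Function.Injective (ioS (n := n) f) := fun g g' h => by
  ext a c
  obtain ⟨a, rfl⟩ := (kaS n).surjective a
  obtain ⟨c, rfl⟩ := (kaS n).surjective c
  apply f.injective
  rw [← ioM_apply, ← ioM_apply, ← coe_ioS, h, coe_ioS]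

theorem entry_rho (g : symplecticGroup (Fin n) F) (a c : Fin n ⊕ Fin n) : g.1 a c = rho n F g (H97.DG.bv F c) a := by
  show _ = (g.1 *ᵥ Pi.single c 1) a
  rw [mulVec_single_one]
  rfl

theorem form_bvS (a c : Fin n × Bool) :
    sympForm n F (H97.DG.bv F (kaS n c)) (H97.DG.bv F (kaS n a)) = if c = ng a then ((epC a : ℤ) : F) else 0 := by
  rw [H97.DG.form_bv', H97.DG.bv_apply, show H97.DG.op (kaS n a) = kaS n (ng a) from (kaS_ng a).symm]
  simp only [(kaS n).injective.eq_iff, @eq_comm _ (ng a) c]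
  split_ifs
  · obtain ⟨i, _ | _⟩ := a
    · show -((1 : F) * 1) = ((-1 : ℤ) : F)
      simp
    · show -((-1 : F) * 1) = ((1 : ℤ) : F)
      simp
  · rw [mul_zero, neg_zero]

/-- the root elements of the symplectic group -/
noncomputable def rtS (a b : Fin n × Bool) (s : F) : symplecticGroup (Fin n) F :=
  if a = b then transv (H97.DG.bv F (kaS n a)) s else H97.DG.et (H97.DG.bv F (kaS n a)) (H97.DG.bv F (kaS n b)) s

theorem ioS_root {x : Fin n → ℤ} {a b : Fin n × Bool} (hab : Ok a b) (e : ee x = wt a + wt b) (s : F) (c d : Fin n × Bool) :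
    (ioS f (rtS a b s) : Matrix _ _ k) c d = (if c = d then 1 else 0) +
      f (((epC b * sC a (ng b) : ℤˣ) : ℤ) * s) * ((smC n).e x c d : ℤ) := by
  rw [coe_ioS, ioM_apply, entry_rho, eC_apply, rtS]
  by_cases h1 : a = b
  · subst h1
    rw [if_pos rfl, rho_transv, form_bvS, Pi.add_apply, Pi.smul_apply, H97.DG.bv_apply, H97.DG.bv_apply, sC_self]
    simp only [(kaS n).injective.eq_iff, st_iffC hab e, or_self, map_add, smul_eq_mul, map_mul, apply_ite f, map_one,
      map_zero, add_right_inj]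
    by_cases h2 : c = a <;> by_cases h3 : d = ng a <;> simp [h2, h3, sC_self, mul_comm]
  · have h2 : a.1 ≠ b.1 := hab.resolve_right h1
    have h0 : a ≠ ng b := fun h => h2 (by rw [h]; rfl)
    have h3 : sC b (ng a) = epC a * epC b * sC a (ng b) := by
      rw [← ng_ng b, sC_ng, ng_ng, epC_ng, mul_neg, neg_neg]
    rw [if_neg h1, H97.DG.rho_et (by rw [form_bvS, if_neg h0]), form_bvS, form_bvS, Pi.add_apply, Pi.add_apply,
      Pi.smul_apply, Pi.smul_apply, H97.DG.bv_apply, H97.DG.bv_apply, H97.DG.bv_apply]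
    simp only [(kaS n).injective.eq_iff, st_iffC hab e, map_add, smul_eq_mul, map_mul, apply_ite f, map_one,
      map_zero, add_assoc, add_right_inj, map_intCast]
    by_cases h4 : c = a
    · subst h4
      by_cases h5 : d = ng b
      · rcases Int.units_eq_one_or (sC c (ng b)) with e1 | e1 <;> simp [h1, h5, e1, mul_comm]
      · simp [h1, h5]
    · by_cases h5 : c = b
      · subst h5
        by_cases h6 : d = ng a
        · rcases Int.units_eq_one_or (sC a (ng c)) with e1 | e1 <;> rcases Int.units_eq_one_or (epC c) with e2 | e2 <;>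
            simp [h4, h6, h3, e1, e2, mul_comm]
        · simp [h4, h6]
      · simp [h4, h5]

theorem eq_top_of_rtS (M : Subgroup (symplecticGroup (Fin n) F)) (h : ∀ a b, Ok a b → ∀ s, rtS a b s ∈ M) : M = ⊤ := by
  refine H97.DG.eq_top_of_roots _ (fun a b h1 h2 s => ?_) fun a s => ?_
  · obtain ⟨a, rfl⟩ := (kaS n).surjective a
    obtain ⟨b, rfl⟩ := (kaS n).surjective b
    have hab : a.1 ≠ b.1 := fun h => by
      obtain ⟨i, s1⟩ := a
      obtain ⟨j, s2⟩ := b
      obtain rfl : i = j := h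
      cases s1 <;> cases s2 <;> first | exact h2 rfl | exact h1 rfl
    have h3 := h a b (.inl hab) s
    rwa [rtS, if_neg fun e => hab (by rw [e])] at h3
  · obtain ⟨a, rfl⟩ := (kaS n).surjective a
    have h3 := h a a (.inr rfl) s
    rwa [rtS, if_pos rfl] at h3

end Cfsg.Agent.KZ.Dat
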